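import Cfsg.Agent.Q4.Defs

set_option autoImplicit false
set_option linter.unusedSectionVars false

namespace Cfsg.Agent.Q4

open Subgroup

variable {G : Type*} [Group G] [Finite G] {Ω : Type*} [Fintype Ω] [DecidableEq Ω] [MulAction G Ω]
variable {N N' U V E H T M A B L Q Q' R : Subgroup G} {Γ Δ Δ' S F : Set Ω} {g s t u w y z : G}
variable {x x' a b c d : Ω} {k l p q i n κ : ℕ}

theorem two_iff : (∀ u ∈ Q, Two u) ↔ IsPGroup 2 Q := 
  ⟨fun h g => (h g.1 g.2).imp fun _ e => Subtype.ext e, fun h u hu => (h ⟨u, hu⟩).imp fun _ e => congrArg Subtype.val e⟩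

theorem Two.eq_one (h : Two g) (e : Odd (orderOf g)) : g = 1 := by
  obtain ⟨n, h⟩ := h
  exact orderOf_eq_one_iff.1
    (((Nat.coprime_two_right.2 e).pow_right n).eq_one_of_dvd (orderOf_dvd_of_pow_eq_one h))

theorem Two.of_mem (hQ : ∀ u ∈ Q, Two u) (e : g ^ 2 ^ i ∈ Q) : Two g := by
  obtain ⟨n, h⟩ := hQ _ e
  exact ⟨i + n, by rw [pow_add, pow_mul, h]⟩

theorem Two.conj (h : Two g) (u : G) : Two (u * g * u⁻¹) := 
  h.imp fun n e => by rw [conj_pow, e, mul_one, mul_inv_cancel]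

theorem fx_mod (hp : p.Prime) (hi : ∀ x ∈ Γ, g • x ∈ Γ) (e : ∀ x ∈ Γ, g ^ p ^ i • x = x) :
    (Γ ∩ fx Ω g).ncard ≡ Γ.ncard [MOD p] := by
  classical
  have : Fact p.Prime := ⟨hp⟩
  let f : Function.End Γ := fun x => ⟨g • x.1, hi x.1 x.2⟩
  have hf : ∀ (m : ℕ) (x : Γ), ((f ^ m) x).1 = g ^ m • x.1 := fun m => by
    induction m with
    | zero => intro x; rw [pow_zero, pow_zero, one_smul]; rfl
    | succ m ih => intro x; rw [pow_succ, pow_succ, mul_smul]; exact ih (f x)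
  have h := Equiv.Perm.card_fixedPoints_modEq (f := f) (p := p) (n := i)
    (funext fun x => Subtype.ext ((hf _ x).trans (e x.1 x.2)))
  rw [← Nat.card_eq_fintype_card, ← Nat.card_eq_fintype_card, Nat.card_coe_set_eq, Nat.card_coe_set_eq,
    ← Set.ncard_image_of_injective (Function.fixedPoints f) Subtype.val_injective] at h
  have e' : Γ ∩ fx Ω g = Subtype.val '' Function.fixedPoints f := by
    ext x
    refine ⟨fun hx => ⟨⟨x, hx.1⟩, Subtype.ext hx.2, rfl⟩, ?_⟩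
    rintro ⟨y, hy, rfl⟩
    exact ⟨y.2, congrArg Subtype.val hy⟩
  rw [e']
  exact h.symm

theorem mv_dvd (hp : p.Prime) (hi : ∀ x ∈ Γ, g • x ∈ Γ) (e : ∀ x ∈ Γ, g ^ p ^ i • x = x) :
    p ∣ (Γ \ fx Ω g).ncard := by
  have h := fx_mod hp hi e
  rw [← Set.ncard_inter_add_ncard_diff_eq_ncard Γ (fx Ω g)] at h
  simpa using (Nat.modEq_iff_dvd' (Nat.le_add_right _ _)).1 h

theorem Fx_mod (hp : p.Prime) (hU : IsPGroup p U) (hi : Inv U Γ) :
    (Γ ∩ Fx Ω U).ncard ≡ Γ.ncard [MOD p] := by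
  have : Fact p.Prime := ⟨hp⟩
  let X : SubMulAction U Ω := ⟨Γ, fun u x hx => hi u.1 u.2 x hx⟩
  have h := hU.card_modEq_card_fixedPoints X
  rw [Nat.card_coe_set_eq, ← Set.ncard_image_of_injective (MulAction.fixedPoints U X) Subtype.val_injective] at h
  have e' : Γ ∩ Fx Ω U = Subtype.val '' MulAction.fixedPoints U X := by
    ext x
    refine ⟨fun hx => ⟨⟨x, hx.1⟩, fun u => Subtype.ext (hx.2 u.1 u.2), rfl⟩, ?_⟩
    rintro ⟨y, hy, rfl⟩
    exact ⟨y.2, fun u hu => congrArg Subtype.val (hy ⟨u, hu⟩)⟩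
  rw [e', ← Nat.card_coe_set_eq Γ]
  exact h.symm

theorem semi_dvd (hi : Inv U Γ) (hs : ∀ u ∈ U, ∀ x ∈ Γ, u • x = x ↔ u ∈ V) :
    Nat.card U ∣ Nat.card ↥(V ⊓ U) * Γ.ncard := by
  let X : SubMulAction U Ω := ⟨Γ, fun u x hx => hi u.1 u.2 x hx⟩
  let e : (Σ a : U, MulAction.fixedBy X a) ≃ ↥(V ⊓ U) × Γ :=
    { toFun := fun z => (⟨z.1.1, (hs _ z.1.2 _ z.2.1.2).1 (congrArg Subtype.val z.2.2), z.1.2⟩, ⟨z.2.1.1, z.2.1.2⟩)
      invFun := fun z => ⟨⟨z.1.1, z.1.2.2⟩, ⟨z.2.1, z.2.2⟩, Subtype.ext ((hs _ z.1.2.2 _ z.2.2).2 z.1.2.1)⟩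
      left_inv := fun _ => rfl
      right_inv := fun _ => rfl }
  have h := Nat.card_congr (e.symm.trans (MulAction.sigmaFixedByEquivOrbitsProdGroup U X))
  rw [Nat.card_prod, Nat.card_prod, Nat.card_coe_set_eq] at h
  rw [h]
  exact dvd_mul_left _ _

theorem orbit_card (U : Subgroup G) (x : Ω) :
    {v : Ω | ∃ u ∈ U, u • x = v}.ncard * Nat.card ↥(U ⊓ St G ({x} : Set Ω)) = Nat.card U := by
  have h := Nat.card_congr (MulAction.orbitProdStabilizerEquivGroup U x)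
  have e1 : {v : Ω | ∃ u ∈ U, u • x = v} = MulAction.orbit U x := by
    ext v
    exact ⟨fun ⟨u, hu, e⟩ => ⟨⟨u, hu⟩, e⟩, fun ⟨u, e⟩ => ⟨u.1, u.2, e⟩⟩
  have e2 : MulAction.stabilizer U x = (U ⊓ St G ({x} : Set Ω)).subgroupOf U := by
    ext u
    exact ⟨fun e => ⟨u.2, fun y hy => by rw [Set.mem_singleton_iff.1 hy]; exact e⟩, fun e => e.2 x rfl⟩
  rw [Nat.card_prod, Nat.card_coe_set_eq, e2, Nat.card_congr (subgroupOfEquivOfLe inf_le_left).toEquiv] at h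
  rw [e1, h]

theorem two_lift (hg : ∀ x ∈ Γ, g • g • x = x) : ∃ s ∈ zpowers g, Two s ∧ ∀ x ∈ Γ, s • x = g • x := by
  obtain ⟨a, r, ⟨m, rfl⟩, h⟩ := Nat.exists_eq_two_pow_mul_odd (orderOf_pos g).ne'
  refine ⟨g ^ (2 * m + 1), npow_mem_zpowers _ _, ⟨a, ?_⟩, fun x hx => ?_⟩
  · rw [← pow_mul, mul_comm, ← h, pow_orderOf_eq_one]
  · have : g ^ 2 ∈ MulAction.stabilizer G x := by
      rw [MulAction.mem_stabilizer_iff, sq, mul_smul, hg x hx]
    rw [pow_succ', pow_mul, mul_smul, MulAction.mem_stabilizer_iff.1 (pow_mem this m)]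

theorem kfix_aux (e : g ^ p ∈ Q) (h : n % p = 1) : g ^ n * g⁻¹ ∈ Q := by
  rw [← Nat.div_add_mod n p, h, pow_succ, mul_inv_cancel_right, pow_mul]
  exact pow_mem e _

theorem three_lift (hQ : ∀ u ∈ Q, Two u) (e : g ^ 3 ∈ Q) : ∃ s ∈ zpowers g, s ^ 3 = 1 ∧ s * g⁻¹ ∈ Q := by
  obtain ⟨n, h⟩ := hQ _ e
  refine ⟨g ^ 4 ^ n, npow_mem_zpowers _ _, ?_, kfix_aux e (by simp [Nat.pow_mod])⟩
  rw [← pow_mul, mul_comm, pow_mul, show 4 = 2 * 2 from rfl, mul_pow, pow_mul, h, one_pow]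

theorem p_lift (hp : p.Prime) (e : g ^ p ∈ Q) :
    ∃ s ∈ zpowers g, (∃ i : ℕ, s ^ p ^ i = 1) ∧ s * g⁻¹ ∈ Q := by
  obtain ⟨a, r, hr, h⟩ := Nat.exists_eq_pow_mul_and_not_dvd (orderOf_pos g).ne' p hp.ne_one
  have m := Nat.ModEq.pow_totient (hp.coprime_iff_not_dvd.2 hr).symm
  refine ⟨g ^ r ^ p.totient, npow_mem_zpowers _ _, ⟨a, ?_⟩, kfix_aux e (Eq.trans m (Nat.mod_eq_of_lt hp.one_lt))⟩
  rw [← pow_mul, ← orderOf_dvd_iff_pow_eq_one, h, mul_comm]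
  exact Nat.mul_dvd_mul_right (dvd_pow_self r (Nat.totient_pos.2 hp.pos).ne') _

theorem faith_card (hf : ∀ g : G, (∀ x : Ω, g • x = x) → g = 1) (S : Set Ω) :
    Nat.card (St G S) ∣ (Fintype.card Ω - S.ncard).factorial := by
  let X : SubMulAction (St G S) Ω := ⟨Sᶜ, fun u x hx e => hx ((St_le_Ss u.2 x).1 e)⟩
  have hi : Function.Injective (MulAction.toPermHom (St G S) X) := (injective_iff_map_eq_one _).2 fun u hu =>
    Subtype.ext (hf _ fun x => by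
      by_cases hx : x ∈ S
      · exact u.2 x hx
      · exact congrArg Subtype.val (DFunLike.congr_fun hu ⟨x, hx⟩))
  have h := card_dvd_of_injective _ hi
  have e : Nat.card X = Fintype.card Ω - S.ncard := by
    rw [← Nat.card_eq_fintype_card, ← Set.ncard_compl, ← Nat.card_coe_set_eq]
    rfl
  rwa [Nat.card_perm, e] at h


end Cfsg.Agent.Q4
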