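import Cfsg.Agent.Q4.BlkH
import Cfsg.Agent.Q4.KReg
import Cfsg.Agent.Q4.Des
import Cfsg.Agent.Q4.KWitt

set_option autoImplicit false
set_option linter.unusedSectionVars false

namespace Cfsg.Agent.Q4

open Subgroup

variable {G : Type*} [Group G] [Finite G] {Ω : Type*} [Fintype Ω] [DecidableEq Ω] [MulAction G Ω]
variable {N N' U V E H T M A B L Q Q' R : Subgroup G} {Γ Δ Δ' S F : Set Ω} {g s t u w y z : G}
variable {x x' a b c d : Ω} {k l p q i n κ : ℕ}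

theorem alpha_card (hab : a ≠ b) (ha : a ∈ F) (hb : b ∈ F) : (({a, b} : Set Ω)ᶜ ∩ F).ncard + 2 = F.ncard := by
  rw [Set.inter_comm, ← Set.sdiff_eq, ← Set.ncard_pair hab]
  exact Set.ncard_sdiff_add_ncard_of_subset (Set.pair_subset ha hb)

theorem alpha_aux (h : Q0 G Ω) (ho : Odd (Fintype.card Ω)) (hd : D4 a b c d) (ht : t ∈ St G ({a, b, c, d} : Set Ω))
    (h2 : orderOf t = 2) : ¬ Reg (St G ({a, b} : Set Ω)) ({a, b} : Set Ω)ᶜ := by
  rintro ⟨E, hE, hn, e1, e2⟩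
  have h4 : 4 ≤ Fintype.card Ω := by
    rw [← hd.ncard, ← Nat.card_eq_fintype_card]
    exact Set.ncard_le_card _
  obtain ⟨k, hk, D, uq, ss⟩ := desH h h4
  have hi := inv_St_compl (G := G) ({a, b} : Set Ω)
  have hiE : Inv E ({a, b} : Set Ω)ᶜ := fun g hg => hi g (hE hg)
  have hc : c ∈ ({a, b} : Set Ω)ᶜ := by simp [hd.ac.symm, hd.bc.symm]
  have hd' : d ∈ ({a, b} : Set Ω)ᶜ := by simp [hd.ad.symm, hd.bd.symm]
  have sub : ({a, b} : Set Ω) ⊆ {a, b, c, d} := Set.pair_subset (by simp) (by simp)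
  have sB := D.sub _ (Set.subset_univ _) hd.ncard
  have c1 := reg_card' hiE e1 e2 hc
  have c2 := alpha_card (F := Set.univ) hd.ab trivial trivial
  rw [Set.inter_univ, c1, Set.ncard_univ, Nat.card_eq_fintype_card (α := Ω)] at c2
  obtain ⟨C, hC, c3⟩ := reg_card (U := St G ({a, b, c, d} : Set Ω)) hiE e1 e2 (fun g hg => hn g (St_anti sub hg))
    ⟨hc, sB (by simp)⟩
  have c4 := alpha_card hd.ab (sB (by simp : a ∈ _)) (sB (by simp : b ∈ _))
  rw [c3, D.card _ (Set.subset_univ _) hd.ncard] at c4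
  have c5 := card_dvd_of_le hC
  have c6 : Odd (Nat.card C) := Odd.of_dvd_nat (by rw [Nat.odd_iff] at ho ⊢; omega) c5
  rw [Nat.odd_iff] at c6
  have tr2 : Tr 2 (St G ({a, b} : Set Ω)) ({a, b} : Set Ω)ᶜ := by
    have := Tr.st (k := 2) (S := ({a, b} : Set Ω)) (by rw [Set.ncard_pair hd.ab]; exact h.tr) (Set.subset_univ _)
    rwa [top_inf_eq, ← Set.compl_eq_univ_sdiff] at this
  have ex := reg_pow hi hE hn tr2 e2 hc Nat.prime_three (Dvd.dvd.trans (by omega) c5)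
  obtain ⟨C', hC', c7⟩ := reg_card (U := zpowers t) hiE e1 e2 (fun g hg => hn g (zpowers_le.2 (St_anti sub ht) hg))
    (b := c) ⟨hc, by rw [Fx_zpowers]; exact ht c (by simp)⟩
  rw [Fx_zpowers] at c7
  have c8 := alpha_card (F := fx Ω t) hd.ab (ht a (by simp)) (ht b (by simp))
  have c9 : 3 ∣ Nat.card C' := by
    have : 1 < Nat.card C' := c7 ▸ (Set.one_lt_ncard (Set.toFinite _)).2
      ⟨c, ⟨hc, ht c (by simp)⟩, d, ⟨hd', ht d (by simp)⟩, hd.cd⟩
    have := Finite.one_lt_card_iff_nontrivial.1 this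
    obtain ⟨e, he⟩ := exists_ne (1 : C')
    have : Fact (Nat.Prime 3) := ⟨Nat.prime_three⟩
    rw [← orderOf_eq_prime (Subtype.ext (ex e (hC' e.2)) : e ^ 3 = 1) he]
    exact orderOf_dvd_natCard e
  have tt : ∀ x : Ω, t • t • x = x := fun x => by rw [← mul_smul, ← pow_two, ← h2, pow_orderOf_eq_one, one_smul]
  obtain ⟨x, hx⟩ : ∃ x : Ω, t • x ≠ x := not_forall.1 fun e => by simp [h.faith t e] at h2
  have hx' : t • x ∉ fx Ω t := fun e => hx ((tt x).symm.trans e).symm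
  have := D.sts (F := fx Ω t) (Set.subset_univ _) ⟨trivial, hx⟩ ⟨trivial, hx'⟩ hx.symm fun v hv v' hv' e => by
    have d4 : D4 x (t • x) v v' :=
      ⟨hx.symm, fun e => hx (e ▸ hv), fun e => hx (e ▸ hv'), fun e => hx' (e ▸ hv), fun e => hx' (e ▸ hv'), e⟩
    have s1 := D.sub _ (Set.subset_univ _) d4.ncard
    have s2 : t ∈ Ss G ({x, t • x, v, v'} : Set Ω) := mem_Ss_of (by simp [tt, mem_fx.1 hv, mem_fx.1 hv'])
    have m := fx_mod (i := 1) Nat.prime_two (fun y hy => (ss _ s2 y).2 hy) fun y _ => by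
      rw [pow_one, pow_two, mul_smul, tt]
    rw [D.card _ (Set.subset_univ _) d4.ncard, Nat.ModEq] at m
    have m1 : 1 < (Fx Ω (St G ({x, t • x, v, v'} : Set Ω)) ∩ fx Ω t).ncard := (Set.one_lt_ncard (Set.toFinite _)).2
      ⟨v, ⟨s1 (by simp), hv⟩, v', ⟨s1 (by simp), hv'⟩, e⟩
    have m2 : ¬ 4 ≤ (Fx Ω (St G ({x, t • x, v, v'} : Set Ω)) ∩ fx Ω t).ncard := fun e => by
      obtain ⟨Δ', s3, s4⟩ := Set.exists_subset_card_eq e
      exact hx ((uq _ d4.ncard Δ' (s3.trans Set.inter_subset_left) s4).le (fun y hy => (s3 hy).2) x (by simp))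
    omega
  rcases (Nat.Prime.dvd_mul Nat.prime_three).1 this with e | e <;> omega

theorem alpha (h : Q0 G Ω) (ho : Odd (Fintype.card Ω)) (hΔ : Δ.ncard = 4) (ht : t ∈ St G Δ)
    (h2 : orderOf t = 2) (hab : a ≠ b) : ¬ Reg (St G ({a, b} : Set Ω)) ({a, b} : Set Ω)ᶜ := by
  have tr2 := h.tr.mono (l := 2) (by norm_num) (hΔ ▸ Set.ncard_le_ncard (Set.subset_univ Δ))
  obtain ⟨a', b', c, d, hd, rfl⟩ := exists_D4 hΔ
  obtain ⟨g, -, rfl, rfl⟩ := tr2_iff.1 tr2 a' trivial b' trivial a trivial b trivial hd.ab hab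
  have i := MulAction.injective (β := Ω) g
  refine alpha_aux (t := g * t * g⁻¹) h ho ⟨hab, i.ne hd.ac, i.ne hd.ad, i.ne hd.bc, i.ne hd.bd, i.ne hd.cd⟩ ?_
    ((MulAut.conj g).orderOf_eq t ▸ h2 :)
  rintro _ (rfl | rfl | rfl | rfl) <;> rw [mul_smul, inv_smul_smul, mul_smul, ht _ (by simp)]

end Cfsg.Agent.Q4
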