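import Cfsg.Agent.Q4.BlkP
import Cfsg.Agent.Q4.Des

set_option autoImplicit false
set_option linter.unusedSectionVars false

namespace Cfsg.Agent.Q4

open Subgroup

variable {G : Type*} [Group G] [Finite G] {Ω : Type*} [Fintype Ω] [DecidableEq Ω] [MulAction G Ω]
variable {N N' U V E H T M A B L Q Q' R : Subgroup G} {Γ Δ Δ' S F : Set Ω} {g s t u w y z : G}
variable {x x' a b c d : Ω} {k l p q i n κ : ℕ}
variable {K P : Set Ω → Subgroup G}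

theorem b1_closed (h : QP P) (hR : ∀ u ∈ R, Two u) (hΔ : Δ ⊆ Fx Ω R) (h4 : Δ.ncard = 4) :
    Fx Ω (P Δ) ⊆ Fx Ω R :=
  Fx_anti fun u hu => (h.memP Δ h4 u).2 ⟨le_St.2 hΔ hu, hR u hu⟩

theorem b1_des (h : QP P) (D : Des Set.univ (fun Δ : Set Ω => Fx Ω (P Δ)) k) (hR : ∀ u ∈ R, Two u) :
    Des (Fx Ω R) (fun Δ : Set Ω => Fx Ω (P Δ)) k where
  sub Δ _ h4 := D.sub Δ (Set.subset_univ _) h4
  le _ hΔ h4 := b1_closed h hR hΔ h4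
  card Δ _ h4 := D.card Δ (Set.subset_univ _) h4
  uniq Δ _ h4 := D.uniq Δ (Set.subset_univ _) h4

theorem b1_blk (h : QP P) (D : Des Set.univ (fun Δ : Set Ω => Fx Ω (P Δ)) k)
    (hO : ∀ Δ : Set Ω, Δ.ncard = 4 → ∀ g ∈ Nm (P Δ), Two g → 4 ≤ (Fx Ω (P Δ) ∩ fx Ω g).ncard →
        Fx Ω (P Δ) ⊆ fx Ω g)
    (hE : 6 ≤ k → ∀ Δ : Set Ω, Δ.ncard = 4 → Ev (Nm (P Δ)) (Fx Ω (P Δ)))
    (hR : ∀ u ∈ R, Two u) (ht : Two t) (ht2 : t * t ∈ R) (hF : Fx Ω R ∩ fx Ω t = F)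
    (hΔ : Δ ⊆ Fx Ω R) (h4 : Δ.ncard = 4) (hi : ∀ v ∈ Δ, t • v ∈ Δ) (hx : x ∈ Δ) (hx' : t • x ≠ x) :
    (Fx Ω (P Δ) ∩ F).ncard ≤ 3 ∧ (Fx Ω (P Δ) ∩ F).ncard ≡ k [MOD 2] ∧
      (6 ≤ k → 4 ∣ k - (Fx Ω (P Δ) ∩ F).ncard) ∧ ∀ o ∈ Fx Ω (P Δ), t • o ∈ Fx Ω (P Δ) := by
  have hcl := b1_closed h hR hΔ h4
  have hN : t ∈ Nm (P Δ) := h.ss h4 (mem_Ss_of hi)
  have hinv : ∀ o ∈ Fx Ω (P Δ), t • o ∈ Fx Ω (P Δ) := inv_Nm t hN
  have hBF : Fx Ω (P Δ) ∩ F = Fx Ω (P Δ) ∩ fx Ω t := by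
    rw [← hF]
    ext v
    exact ⟨fun e => ⟨e.1, e.2.2⟩, fun e => ⟨e.1, hcl e.1, e.2⟩⟩
  have hk : (Fx Ω (P Δ)).ncard = k := D.card Δ (Set.subset_univ _) h4
  have htt : ∀ v ∈ Fx Ω (P Δ), t • t • v = v := fun v hv => by
    rw [← mul_smul]; exact hcl hv _ ht2
  rw [hBF]
  refine ⟨?_, ?_, fun h6 => ?_, hinv⟩
  · by_contra hc
    exact hx' (hO Δ h4 t hN ht (by omega) (D.sub Δ (Set.subset_univ _) h4 hx))
  · rw [← hk]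
    refine fx_mod (i := 1) Nat.prime_two hinv fun v hv => ?_
    rw [pow_one, sq, mul_smul]
    exact htt v hv
  · have h1 := hE h6 Δ h4 t hN htt
    have h2 := Set.ncard_inter_add_ncard_diff_eq_ncard (Fx Ω (P Δ)) (fx Ω t)
    rwa [show k - (Fx Ω (P Δ) ∩ fx Ω t).ncard = (Fx Ω (P Δ) \ fx Ω t).ncard by omega]

theorem b1_core (h : QP P) (D : Des Set.univ (fun Δ : Set Ω => Fx Ω (P Δ)) k)
    (hO : ∀ Δ : Set Ω, Δ.ncard = 4 → ∀ g ∈ Nm (P Δ), Two g → 4 ≤ (Fx Ω (P Δ) ∩ fx Ω g).ncard →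
        Fx Ω (P Δ) ⊆ fx Ω g)
    (hE : 6 ≤ k → ∀ Δ : Set Ω, Δ.ncard = 4 → Ev (Nm (P Δ)) (Fx Ω (P Δ)))
    (hQ : ∀ u ∈ Q, Two u) (hΓ : Fx Ω Q ≠ Set.univ) :
    (k % 2 = 1 → 3 ∣ (Fx Ω Q).ncard * ((Fx Ω Q).ncard - 1)) ∧
    ∃ R : Subgroup G, (∀ u ∈ R, Two u) ∧ Fx Ω Q ⊆ Fx Ω R ∧ ∀ l, k = l + 4 → (l = 2 ∨ l = 3) →
      (Fx Ω Q).ncard * ((Fx Ω Q).ncard - 1) * 2 =
        l * (l - 1) * ((Fx Ω R).ncard - (Fx Ω Q).ncard - 2) := by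
  obtain ⟨R, hRQ, t, htQ, htN, ht2, hF, hne⟩ := step hQ hΓ
  have hR : ∀ u ∈ R, Two u := fun u hu => hQ u (hRQ hu)
  have ht : Two t := hQ t htQ
  have hsub : Fx Ω Q ⊆ Fx Ω R := Fx_anti hRQ
  have DR := b1_des h D hR
  have hfix : ∀ v ∈ Fx Ω Q, t • v = v := fun v hv => hv t htQ
  have hmv : ∀ v ∈ Fx Ω R \ Fx Ω Q, t • v ≠ v := fun v hv e => hv.2 (hF ▸ ⟨hv.1, e⟩)
  have htt : ∀ v ∈ Fx Ω R, t • t • v = v := fun v hv => by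
    rw [← mul_smul]; exact hv _ ht2
  have hτ : ∀ v ∈ Fx Ω R \ Fx Ω Q, t • v ∈ Fx Ω R \ Fx Ω Q ∧ t • t • v = v ∧ t • v ≠ v := by
    intro v hv
    refine ⟨⟨inv_Nm t htN v hv.1, fun e => ?_⟩, htt v hv.1, hmv v hv⟩
    have h1 := hfix _ e
    rw [htt v hv.1] at h1
    exact hmv v hv h1.symm
  obtain ⟨x, hx⟩ : ∃ x, x ∈ Fx Ω R \ Fx Ω Q := by
    by_contra hc
    push Not at hc
    exact hne (Set.Subset.antisymm (fun v hv => by_contra fun e => hc v ⟨hv, e⟩) hsub)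
  obtain ⟨hx1, hx2, hx3⟩ := hτ x hx
  -- blocks through two fixed points
  have hA : ∀ v ∈ Fx Ω Q, ∀ v' ∈ Fx Ω Q, v ≠ v' →
      2 ≤ (Fx Ω (P {x, t • x, v, v'}) ∩ Fx Ω Q).ncard ∧
      (Fx Ω (P {x, t • x, v, v'}) ∩ Fx Ω Q).ncard ≤ 3 ∧
      (Fx Ω (P {x, t • x, v, v'}) ∩ Fx Ω Q).ncard ≡ k [MOD 2] ∧
      (6 ≤ k → 4 ∣ k - (Fx Ω (P {x, t • x, v, v'}) ∩ Fx Ω Q).ncard) ∧
      ∀ o ∈ Fx Ω (P {x, t • x, v, v'}), t • o ∈ Fx Ω (P {x, t • x, v, v'}) := by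
    intro v hv v' hv' e
    have h4 : ({x, t • x, v, v'} : Set Ω).ncard = 4 :=
      D4.ncard ⟨hx3.symm, fun e => hx.2 (e ▸ hv), fun e => hx.2 (e ▸ hv'),
        fun e => hx1.2 (e ▸ hv), fun e => hx1.2 (e ▸ hv'), e⟩
    refine ⟨?_, b1_blk (x := x) h D hO hE hR ht ht2 hF ?_ h4 ?_ (by simp) hx3⟩
    · rw [← Set.ncard_pair e]
      refine Set.ncard_le_ncard ?_ (Set.toFinite _)
      have hs := D.sub _ (Set.subset_univ _) h4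
      rintro o (rfl | rfl)
      · exact ⟨hs (by simp), hv⟩
      · exact ⟨hs (by simp), hv'⟩
    · rintro o (rfl | rfl | rfl | rfl)
      exacts [hx.1, hx1.1, hsub hv, hsub hv']
    · rintro o (rfl | rfl | rfl | rfl)
      · simp
      · simp [hx2]
      · simp [hfix _ hv]
      · simp [hfix _ hv']
  have hB : ∀ o ∈ Fx Ω R \ Fx Ω Q, o ≠ x → o ≠ t • x →
      (Fx Ω (P {x, t • x, o, t • o}) ∩ Fx Ω Q).ncard ≤ 3 ∧
      (6 ≤ k → 4 ∣ k - (Fx Ω (P {x, t • x, o, t • o}) ∩ Fx Ω Q).ncard) := by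
    intro o ho e1 e2
    obtain ⟨ho1, ho2, ho3⟩ := hτ o ho
    have h4 : ({x, t • x, o, t • o} : Set Ω).ncard = 4 :=
      D4.ncard ⟨hx3.symm, e1.symm, fun e => e2 (by rw [e, ho2]), e2.symm,
        fun e => e1 (smul_left_cancel t e).symm, ho3.symm⟩
    have h5 := b1_blk (x := x) h D hO hE hR ht ht2 hF (Δ := {x, t • x, o, t • o}) ?_ h4 ?_
      (by simp) hx3
    · exact ⟨h5.1, h5.2.2.1⟩
    · rintro v (rfl | rfl | rfl | rfl)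
      exacts [hx.1, hx1.1, ho.1, ho1.1]
    · rintro v (rfl | rfl | rfl | rfl)
      · simp
      · simp [hx2]
      · simp
      · simp [ho2]
  refine ⟨fun hk => ?_, R, hR, hsub, fun l hl hl' => ?_⟩
  · refine DR.sts hsub hx hx1 hx3.symm fun v hv v' hv' e => ?_
    obtain ⟨h1, h2, h3, -⟩ := hA v hv v' hv' e
    unfold Nat.ModEq at h3
    omega
  · subst hl
    refine DR.cnt (τ := fun v => t • v) hsub hx hτ (fun v hv v' hv' e => ?_) fun o ho e1 e2 => ?_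
    · obtain ⟨h1, h2, h3, h4, h5⟩ := hA v hv v' hv' e
      refine ⟨?_, fun o ho => h5 o ho.1⟩
      have h6 := h4 (by omega)
      omega
    · obtain ⟨h1, h2⟩ := hB o ho e1 e2
      have h6 := h2 (by omega)
      omega

theorem caseB1 (h : QP P) (h4 : 4 ≤ Fintype.card Ω) :
    (∀ Δ : Set Ω, Δ.ncard = 4 → Fx Ω (P Δ) = Δ) ∨
      (Fintype.card Ω = 23 ∧ ∀ Δ : Set Ω, Δ.ncard = 4 → (Fx Ω (P Δ)).ncard = 7) := by
  obtain ⟨k, hk, D, hO, hE⟩ := desP h h4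
  have hc : ∀ Δ : Set Ω, Δ.ncard = 4 → (Fx Ω (P Δ)).ncard = k := fun Δ e =>
    D.card Δ (Set.subset_univ _) e
  by_cases hk4 : k = 4
  · refine Or.inl fun Δ e => ?_
    refine (Set.eq_of_subset_of_ncard_le (D.sub Δ (Set.subset_univ _) e) ?_ (Set.toFinite _)).symm
    rw [hc Δ e, e, hk4]
  right
  obtain ⟨Δ, -, hΔ⟩ := Set.exists_subset_card_eq (s := (Set.univ : Set Ω)) (n := 4)
    (by rwa [Set.ncard_univ, Nat.card_eq_fintype_card])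
  have hne : Fx Ω (P Δ) ≠ Set.univ := fun e => h.neP Δ hΔ (eq_bot_iff.2 fun u hu =>
    mem_bot.2 (h.faith u fun v => (e ▸ Set.mem_univ v : v ∈ Fx Ω (P Δ)) u hu))
  obtain ⟨h1, R, hR, hsub, h2⟩ := b1_core h D hO hE (h.two hΔ) hne
  rw [hc Δ hΔ] at h1 h2
  have h3 := Set.ncard_le_ncard hsub (Set.toFinite _)
  rw [hc Δ hΔ] at h3
  rcases hk with rfl | rfl | rfl | rfl | rfl
  · exact absurd rfl hk4
  · exact absurd (h1 rfl) (by norm_num)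
  · have h5 := h2 2 rfl (Or.inl rfl)
    have h6 := (b1_des h D hR).dvd (by omega)
    omega
  · have h5 := h2 3 rfl (Or.inr rfl)
    have h6 : (Fx Ω R).ncard = 23 := by omega
    refine ⟨?_, hc⟩
    by_cases hu : Fx Ω R = Set.univ
    · rwa [hu, Set.ncard_univ, Nat.card_eq_fintype_card] at h6
    · have h7 := (b1_core h D hO hE hR hu).1 rfl
      rw [h6] at h7
      exact absurd h7 (by norm_num)
  · exact absurd (h1 rfl) (by norm_num)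

end Cfsg.Agent.Q4
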