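import Cfsg.Agent.Q4.BlkH
import Cfsg.Agent.Q4.KReg
import Cfsg.Agent.Q4.KJor

set_option autoImplicit false
set_option linter.unusedSectionVars false

namespace Cfsg.Agent.Q4

open Subgroup

variable {G : Type*} [Group G] [Finite G] {Ω : Type*} [Fintype Ω] [DecidableEq Ω] [MulAction G Ω]
variable {N N' U V E H T M A B L Q Q' R : Subgroup G} {Γ Δ Δ' S F : Set Ω} {g s t u w y z : G}
variable {x x' a b c d : Ω} {k l p q i n κ : ℕ}

theorem beta_ex (l : List Ω) (h : l.length < Fintype.card Ω) : ∃ x, x ∉ l := by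
  by_contra! c
  have : Fintype.card Ω ≤ l.toFinset.card := Finset.card_le_card fun x _ => List.mem_toFinset.2 (c x)
  exact absurd (this.trans l.toFinset_card_le) (by omega)

theorem beta_tr (h : Q0 G Ω) {a' b' c' d' : Ω} (h1 : D4 a b c d) (h2 : D4 a' b' c' d') :
    ∃ g : G, g • a = a' ∧ g • b = b' ∧ g • c = c' ∧ g • d = d' :=
  let ⟨g, _, e⟩ := tr4_iff.1 h.tr _ _ _ _ _ _ _ _ h1 h2 (Set.subset_univ _) (Set.subset_univ _)
  ⟨g, e⟩

theorem beta (h : Q0 G Ω) (ho : Odd (Fintype.card Ω)) (h7 : 7 ≤ Fintype.card Ω) (a : Ω) :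
    ¬ Reg (St G ({a} : Set Ω)) ({a} : Set Ω)ᶜ := by
  rintro ⟨E, hE, hN, h1, h2⟩
  have ex3 : ∀ x y z : Ω, ∃ d, d ≠ x ∧ d ≠ y ∧ d ≠ z := fun x y z => by
    simpa using beta_ex [x, y, z] (by simp only [List.length_cons, List.length_nil]; omega)
  obtain ⟨b, ba, -⟩ := ex3 a a a
  obtain ⟨c, ca, cb, -⟩ := ex3 a b b
  obtain ⟨d, da, db, dc⟩ := ex3 a b c
  have hi : Inv E ({a} : Set Ω)ᶜ := fun g hg => inv_St_compl _ g (hE hg)
  have t2 : Tr 2 (St G ({a} : Set Ω)) ({a} : Set Ω)ᶜ := tr2_iff.2 fun x hx y hy x' hx' y' hy' e e' => by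
    obtain ⟨z, z1, z2, z3⟩ := ex3 a x y
    obtain ⟨z', z1', z2', z3'⟩ := ex3 a x' y'
    obtain ⟨g, g1, g2, g3, -⟩ := beta_tr h ⟨Ne.symm hx, Ne.symm hy, z1.symm, e, z2.symm, z3.symm⟩
      ⟨Ne.symm hx', Ne.symm hy', z1'.symm, e', z2'.symm, z3'.symm⟩
    exact ⟨g, by simpa using g1, g2, g3⟩
  have cE := reg_card' hi h1 h2 (b := b) ba
  have sq : ∀ e ∈ E, e ^ 2 = 1 := reg_pow (inv_St_compl _) hE hN t2 h2 (b := b) ba Nat.prime_two (by
    have := Set.ncard_add_ncard_compl ({a} : Set Ω)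
    rw [Set.ncard_singleton, cE, Nat.card_eq_fintype_card (α := Ω)] at this
    obtain ⟨m, hm⟩ := ho
    exact ⟨m, by omega⟩)
  obtain ⟨k, hk, hD, -⟩ := desH h (by omega)
  have D : D4 a b c d := ⟨ba.symm, ca.symm, da.symm, cb.symm, db.symm, dc.symm⟩
  have k5 : k = 5 := by
    have s1 := hD.sub _ (Set.subset_univ _) D.ncard
    have s2 : (Fx Ω (St G ({a, b, c, d} : Set Ω))).ncard = k := hD.card _ (Set.subset_univ _) D.ncard
    obtain ⟨C, hC, e⟩ := reg_card (U := St G ({a, b, c, d} : Set Ω)) hi h1 h2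
      (fun g hg => hN g (St_anti (by simp) hg)) (b := b) ⟨ba, s1 (by simp)⟩
    rw [Set.inter_comm, ← Set.diff_eq, Set.ncard_diff_singleton_of_mem (s1 (by simp)), s2] at e
    obtain ⟨j, hj⟩ := (show IsPGroup 2 C from fun x => ⟨1, Subtype.ext (sq _ (hC x.2))⟩).exists_card_eq
    rw [hj] at e
    have n3 : ¬ 3 ∣ 2 ^ j := fun c => absurd (Nat.prime_three.dvd_of_dvd_pow c) (by decide)
    have n5 : ¬ 5 ∣ 2 ^ j := fun c => absurd (Nat.prime_five.dvd_of_dvd_pow c) (by decide)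
    omega
  subst k5
  obtain ⟨e, he, eb⟩ := h1 b ba c ca
  have ea : e • a = a := hE he a rfl
  have ee : ∀ x : Ω, e • e • x = x := fun x => by rw [← mul_smul, ← pow_two, sq e he, one_smul]
  have ec : e • c = b := by rw [← eb, ee]
  have cm : ∀ u : G, u • a = a → u • b = b → u • c = c → u * e = e * u := fun u ua ub uc => by
    have := h2 b ba (e⁻¹ * (u * e * u⁻¹)) (mul_mem (inv_mem he) (hN u (by simpa using ua) e he)) (by
      rw [mul_smul, mul_smul, mul_smul, inv_smul_eq_iff, inv_smul_eq_iff.2 ub.symm, eb, uc])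
    rwa [inv_mul_eq_one, eq_comm, mul_inv_eq_iff_eq_mul] at this
  have e1 : ∀ x : Ω, x ≠ a → e • x ≠ x := fun x hx c => cb (by rw [← eb, h2 x hx e he c, one_smul])
  obtain ⟨g, ga, gb, gc, -⟩ := beta_tr h D ⟨ba, cb.symm, db.symm, ca.symm, da.symm, dc.symm⟩
  have key : ∀ f : G, (∀ u : G, u • a = a → u • b = b → u • c = c → u * f = f * u) →
      (∀ x : Ω, f • x = a ∨ f • x = b ∨ f • x = c → x = a ∨ x = b ∨ x = c) → ∀ x : Ω, x ≠ a → x ≠ b → x ≠ c →
      f • x ≠ x → f • x ∈ Fx Ω (St G ({a, b, c, x} : Set Ω)) \ {a, b, c, x} := fun f f1 f2 x xa xb xc f3 => by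
    refine ⟨fun u hu => ?_, fun m => ?_⟩
    · rw [← mul_smul, f1 u (hu a (by simp)) (hu b (by simp)) (hu c (by simp)), mul_smul, hu x (by simp)]
    · have := f2 x
      simp only [Set.mem_insert_iff, Set.mem_singleton_iff] at m
      tauto
  have e2 : ∀ x : Ω, e • x = a ∨ e • x = b ∨ e • x = c → x = a ∨ x = b ∨ x = c := fun x m => by
    rcases m with m | m | m <;> rw [← ee x, m] <;> simp [ea, eb, ec]
  have ia : g⁻¹ • b = a := inv_smul_eq_iff.2 ga.symm
  have ib : g⁻¹ • a = b := inv_smul_eq_iff.2 gb.symm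
  have ic : g⁻¹ • c = c := inv_smul_eq_iff.2 gc.symm
  have fix : ∀ x : Ω, x ≠ a → x ≠ b → x ≠ c → (e * (g * e * g⁻¹)) • x = x := fun x xa xb xc => by
    have Dx : D4 a b c x := ⟨ba.symm, ca.symm, xa.symm, cb.symm, xb.symm, xc.symm⟩
    have m1 := key e cm e2 x xa xb xc (e1 x xa)
    have m2 := key (g * e * g⁻¹) (fun u ua ub uc => by
        have := cm (g⁻¹ * u * g) (by rw [mul_smul, mul_smul, ga, ub, ia]) (by rw [mul_smul, mul_smul, gb, ua, ib])
          (by rw [mul_smul, mul_smul, gc, uc, ic])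
        calc _ = g * (g⁻¹ * u * g * e) * g⁻¹ := by group
          _ = _ := by rw [this]; group)
      (fun y m => by
        simp only [mul_smul, smul_eq_iff_eq_inv_smul g, ia, ib, ic] at m
        have := e2 (g⁻¹ • y) (by tauto)
        simp only [inv_smul_eq_iff, ga, gb, gc] at this
        tauto) x xa xb xc (fun m => by
        rw [mul_smul, mul_smul, smul_eq_iff_eq_inv_smul g] at m
        exact e1 _ (fun m' => xb (by rw [← ga, ← m', smul_inv_smul])) m)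
    have s2 : (Fx Ω (St G ({a, b, c, x} : Set Ω))).ncard = 5 := hD.card _ (Set.subset_univ _) Dx.ncard
    have s3 : (Fx Ω (St G ({a, b, c, x} : Set Ω)) \ {a, b, c, x}).ncard ≤ 1 := by
      rw [Set.ncard_diff (hD.sub _ (Set.subset_univ _) Dx.ncard), s2, Dx.ncard]
    rw [mul_smul, ← (Set.ncard_le_one_iff (Set.toFinite _)).1 s3 m1 m2, ee]
  have mv : (e * (g * e * g⁻¹)) • a = b := by rw [mul_smul, mul_smul, mul_smul, ib, eb, gc, ec]
  obtain ⟨m1, m2⟩ := key e cm e2 d da db dc (e1 d da)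
  obtain ⟨y, hy⟩ := beta_ex [a, b, c, d, e • d] (by simp only [List.length_cons, List.length_nil]; omega)
  obtain ⟨z, hz⟩ := beta_ex [a, b, c, d, e • d, y] (by simp only [List.length_cons, List.length_nil]; omega)
  simp only [List.mem_cons, List.not_mem_nil, or_false, not_or, Set.mem_insert_iff, Set.mem_singleton_iff]
    at hy hz m2
  obtain ⟨v, va, vb, vc, -⟩ := beta_tr h D (a' := e • d) (b' := y) (c' := z) (d' := a)
    ⟨Ne.symm hy.2.2.2.2, Ne.symm hz.2.2.2.2.1, m2.1, Ne.symm hz.2.2.2.2.2, hy.1, hz.1⟩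
  have m3 := m1 (v * (e * (g * e * g⁻¹)) * v⁻¹) fun x hx => by
    have n : ∀ r : Ω, v • r ∉ ({a, b, c, d} : Set Ω) → v⁻¹ • x ≠ r := fun r hr m =>
      hr (by rwa [← m, smul_inv_smul])
    rw [mul_smul, mul_smul v, fix _ (n a (by rw [va]; simp; tauto)) (n b (by rw [vb]; simp; tauto))
      (n c (by rw [vc]; simp; tauto)), smul_inv_smul]
  rw [mul_smul, mul_smul v, inv_smul_eq_iff.2 va.symm, mv, vb] at m3
  exact hy.2.2.2.2 m3

end Cfsg.Agent.Q4
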