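import Cfsg.Agent.Q4.KTr
import Cfsg.Agent.Q4.KFix
import Cfsg.Agent.S4221
import Cfsg.Agent.S0415
import Cfsg.Agent.S0418

set_option autoImplicit false
set_option linter.unusedSectionVars false

namespace Cfsg.Agent.Q4

open Subgroup

variable {G : Type*} [Group G] [Finite G] {Ω : Type*} [Fintype Ω] [DecidableEq Ω] [MulAction G Ω]
variable {N N' U V E H T M A B L Q Q' R : Subgroup G} {Γ Δ Δ' S F : Set Ω} {g s t u w y z : G}
variable {x x' a b c d : Ω} {k l p q i n κ : ℕ}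

namespace KOdd

/-- the action of `N` on the invariant set `Γ` -/
@[reducible] def act (hi : Inv N Γ) : MulAction N Γ where
  smul g x := ⟨(g : G) • (x : Ω), hi g g.2 x x.2⟩
  one_smul x := Subtype.ext (one_smul G (x : Ω))
  mul_smul a b x := Subtype.ext (mul_smul (a : G) (b : G) (x : Ω))

/-- the permutation representation on `Γ` -/
def phi (hi : Inv N Γ) : N →* Equiv.Perm Γ := @MulAction.toPermHom N Γ _ (act hi)

theorem phi_apply (hi : Inv N Γ) (g : N) (x : Γ) : ((phi hi g x : Γ) : Ω) = (g : G) • (x : Ω) := rfl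

theorem phi_eq_one (hi : Inv N Γ) (g : N) : phi hi g = 1 ↔ ∀ x ∈ Γ, (g : G) • x = x := by
  constructor
  · intro e x hx
    have := phi_apply hi g ⟨x, hx⟩
    rw [e] at this
    exact this.symm
  · intro e
    ext x
    rw [phi_apply, e x x.2]; rfl

theorem card_eq (hi : Inv N Γ) :
    Nat.card N = Nat.card (phi hi).range * Nat.card ↥(N ⊓ St G Γ) := by
  have h1 : (phi hi).ker = (N ⊓ St G Γ).subgroupOf N := by
    ext g
    rw [MonoidHom.mem_ker, phi_eq_one, Subgroup.mem_subgroupOf, Subgroup.mem_inf, mem_St]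
    exact ⟨fun e => ⟨g.2, e⟩, fun e => e.2⟩
  have h2 : Nat.card ↥((N ⊓ St G Γ).subgroupOf N) = Nat.card ↥(N ⊓ St G Γ) :=
    Nat.card_congr (Subgroup.subgroupOfEquivOfLe inf_le_left).toEquiv
  rw [← h2, ← h1, Subgroup.card_eq_card_quotient_mul_card_subgroup (phi hi).ker,
    Nat.card_congr (QuotientGroup.quotientKerEquivRange (phi hi)).toEquiv]

theorem tr (h : Tr k N Γ) (hi : Inv N Γ) : MulAction.IsMultiplyPretransitive (phi hi).range Γ k := by
  refine ⟨fun x y => ?_⟩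
  obtain ⟨g, hg, e⟩ := h (fun i => (x i : Ω)) (fun i => (y i : Ω))
    (Subtype.val_injective.comp x.injective) (Subtype.val_injective.comp y.injective)
    (fun i => (x i).2) (fun i => (y i).2)
  refine ⟨⟨phi hi ⟨g, hg⟩, ⟨g, hg⟩, rfl⟩, ?_⟩
  ext i
  exact e i

theorem four_le (x : Fin 4 ↪ Γ) (e : ∀ i, g • (x i : Ω) = x i) : 4 ≤ (Γ ∩ fx Ω g).ncard := by
  have hinj : Function.Injective (fun i => (x i : Ω)) := Subtype.val_injective.comp x.injective
  have h1 : (Set.range fun i => (x i : Ω)).ncard = 4 := by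
    rw [← Set.image_univ, Set.ncard_image_of_injective _ hinj, Set.ncard_univ]; simp
  rw [← h1]
  refine Set.ncard_le_ncard ?_ (Set.toFinite _)
  rintro _ ⟨i, rfl⟩
  exact ⟨(x i).2, e i⟩

theorem stab (hi : Inv N Γ) (x : Fin 4 ↪ Γ) (σ : (phi hi).range)
    (hσ : σ ∈ MulAction.stabilizer (phi hi).range x) :
    ∃ g : N, phi hi g = σ ∧ ∀ i, (g : G) • (x i : Ω) = x i := by
  obtain ⟨σ, g, rfl⟩ := σ
  refine ⟨g, rfl, fun i => ?_⟩
  have e : (⟨phi hi g, g, rfl⟩ : (phi hi).range) • x = x := hσ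
  have e' := congrArg (fun f : Fin 4 ↪ Γ => (f i : Ω)) e
  exact e'

theorem odd (hi : Inv N Γ)
    (ho : ∀ g ∈ N, Two g → 4 ≤ (Γ ∩ fx Ω g).ncard → Γ ⊆ fx Ω g) (x : Fin 4 ↪ Γ) :
    Odd (Nat.card (MulAction.stabilizer (phi hi).range x)) := by
  by_contra hn
  rw [Nat.not_odd_iff_even, even_iff_two_dvd] at hn
  have : Fact (Nat.Prime 2) := ⟨Nat.prime_two⟩
  obtain ⟨σ, hσ⟩ := exists_prime_orderOf_dvd_card' 2 hn
  obtain ⟨g, hg, e⟩ := stab hi x σ.1 σ.2
  have h2 : phi hi (g ^ 2) = 1 := by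
    have : σ ^ 2 = 1 := by rw [← hσ]; exact pow_orderOf_eq_one σ
    rw [map_pow, hg]
    exact congrArg (fun τ : MulAction.stabilizer (phi hi).range x => (τ.1.1 : Equiv.Perm Γ)) this
  have h3 : ∀ y ∈ Γ, (g : G) • (g : G) • y = y := by
    intro y hy
    have := (phi_eq_one hi _).1 h2 y hy
    rwa [Subgroup.coe_pow, pow_two, mul_smul] at this
  obtain ⟨s, hs, h2s, es⟩ := two_lift h3
  have hsN : s ∈ N := (Subgroup.zpowers_le.2 g.2) hs
  have h4 : Γ ⊆ fx Ω s := ho s hsN h2s (four_le x fun i => by rw [es _ (x i).2, e i])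
  have h5 : phi hi g = 1 := (phi_eq_one hi g).2 fun y hy => by rw [← es y hy]; exact h4 hy
  have h6 : σ = 1 := Subtype.ext (Subtype.ext (hg.symm.trans h5))
  rw [h6, orderOf_one] at hσ
  exact absurd hσ (by norm_num)

theorem ev [Fintype Γ] (hi : Inv N Γ) (hA : (phi hi).range ≤ alternatingGroup Γ) : Ev N Γ := by
  intro g hg e
  have h2 : phi hi ⟨g, hg⟩ ^ 2 = 1 := by
    rw [← map_pow, phi_eq_one]
    intro y hy
    rw [Subgroup.coe_pow, pow_two, mul_smul]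
    exact e y hy
  have h1 : Equiv.Perm.sign (phi hi ⟨g, hg⟩) = 1 :=
    Equiv.Perm.mem_alternatingGroup.1 (hA ⟨_, rfl⟩)
  rw [Equiv.Perm.sign_of_pow_two_eq_one h2] at h1
  have h3 : Fintype.card (Function.fixedPoints (phi hi ⟨g, hg⟩)) = (Γ ∩ fx Ω g).ncard := by
    rw [← Nat.card_eq_fintype_card, ← Nat.card_coe_set_eq]
    refine Nat.card_congr ⟨fun y => ⟨y.1.1, y.1.2, congrArg Subtype.val y.2⟩,
      fun y => ⟨⟨y.1, y.2.1⟩, Subtype.ext y.2.2⟩, fun y => rfl, fun y => rfl⟩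
  have h4 : Fintype.card Γ = Γ.ncard := by rw [← Nat.card_eq_fintype_card, Nat.card_coe_set_eq]
  have h5 := Set.ncard_inter_add_ncard_sdiff_eq_ncard Γ (fx Ω g) (Set.toFinite _)
  have h6 : 2 ∣ (Γ \ fx Ω g).ncard :=
    mv_dvd (i := 1) Nat.prime_two (hi g hg) fun y hy => by
      rw [pow_one, pow_two, mul_smul]; exact e y hy
  rw [h3, h4] at h1
  have h7 : Γ.ncard - (Γ ∩ fx Ω g).ncard = (Γ \ fx Ω g).ncard := by omega
  rw [h7] at h1
  obtain ⟨m, hm⟩ := h6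
  rw [hm, Nat.mul_div_cancel_left _ (by norm_num : 0 < 2)] at h1
  have h8 : Even m := by
    by_contra hn
    rw [(Nat.not_even_iff_odd.1 hn).neg_one_pow] at h1
    exact absurd h1 (by decide)
  obtain ⟨r, hr⟩ := h8
  exact ⟨r, by omega⟩

theorem le_alt {α : Type*} [Fintype α] [DecidableEq α] (hα : Fintype.card α = 11)
    (X : Subgroup (Equiv.Perm α)) [hX : MulAction.IsMultiplyPretransitive X α 4]
    (hc : Nat.card X = 7920) : X ≤ alternatingGroup α := by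
  have hsharp : ∀ x : Fin 4 ↪ α, MulAction.stabilizer X x = ⊥ := by
    intro x
    have h1 : (MulAction.stabilizer X x).index = Nat.card (Fin 4 ↪ α) :=
      @MulAction.index_stabilizer_of_transitive X (Fin 4 ↪ α) _ _ x hX
    have h2 : Nat.card (Fin 4 ↪ α) = 7920 := by
      rw [Nat.card_eq_fintype_card, Fintype.card_embedding_eq, hα]; rfl
    have h3 := (MulAction.stabilizer X x).card_mul_index
    rw [h1, h2, hc] at h3
    exact Subgroup.card_eq_one.1 (by omega)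
  obtain ⟨hs, -⟩ := Cfsg.Agent.S0418.result hα X hsharp
  let f : X →* ℤˣ := Equiv.Perm.sign.comp X.subtype
  rcases hs.eq_bot_or_eq_top_of_normal f.ker inferInstance with e | e
  · exfalso
    have hinj : Function.Injective f := (MonoidHom.ker_eq_bot_iff f).1 e
    have := Nat.card_le_card_of_injective f hinj
    rw [hc, Nat.card_eq_fintype_card, Fintype.card_units_int] at this
    omega
  · intro σ hσ
    have : (⟨σ, hσ⟩ : X) ∈ f.ker := e ▸ Subgroup.mem_top _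
    exact Equiv.Perm.mem_alternatingGroup.2 this

theorem emb [Fintype Γ] (h4 : 4 ≤ Γ.ncard) : Nonempty (Fin 4 ↪ Γ) := by
  refine Function.Embedding.nonempty_of_card_le ?_
  rw [Fintype.card_fin, ← Nat.card_eq_fintype_card, Nat.card_coe_set_eq]
  exact h4

end KOdd

open KOdd in
theorem odd4 (h : Tr 4 N Γ) (hi : Inv N Γ) (h4 : 4 ≤ Γ.ncard)
    (ho : ∀ g ∈ N, Two g → 4 ≤ (Γ ∩ fx Ω g).ncard → Γ ⊆ fx Ω g) :
    (Γ.ncard = 4 ∨ Γ.ncard = 5 ∨ Γ.ncard = 6 ∨ Γ.ncard = 7 ∨ Γ.ncard = 11) ∧ (6 ≤ Γ.ncard → Ev N Γ) ∧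
      ∀ Δ ⊆ Γ, Δ.ncard = 4 → Nat.card ↥(N ⊓ St G Δ) ≤ 3 * Nat.card ↥(N ⊓ St G Γ) := by
  have : Fintype Γ := Fintype.ofFinite _
  obtain ⟨x⟩ := emb h4
  have := tr h hi
  have hc : Fintype.card Γ = Γ.ncard := by rw [← Nat.card_eq_fintype_card, Nat.card_coe_set_eq]
  have hc' : Nat.card Γ = Γ.ncard := Nat.card_coe_set_eq Γ
  have key := Cfsg.Agent.S4221.result (phi hi).range (tr h hi) x (odd hi ho x)
  rw [hc] at key
  have hk : ∀ Δ ⊆ Γ, Δ.ncard = 4 → Γ.ncard.descFactorial 4 * Nat.card ↥(N ⊓ St G Δ) =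
      Nat.card (phi hi).range * Nat.card ↥(N ⊓ St G Γ) := fun Δ hΔ e => by
    rw [← card_eq hi, h.card hi hΔ e]
  have : Nontrivial Γ := by
    rw [← Fintype.one_lt_card_iff_nontrivial, hc]; omega
  rcases key with ⟨hm, e⟩ | ⟨hm, e⟩ | ⟨hm, e⟩
  · refine ⟨by omega, fun h6 => by omega, fun Δ hΔ e4 => ?_⟩
    have h1 := hk Δ hΔ e4
    rw [e, Subgroup.card_top, Nat.card_perm, hc'] at h1
    generalize Nat.card ↥(N ⊓ St G Δ) = a at h1 ⊢
    generalize Nat.card ↥(N ⊓ St G Γ) = b at h1 ⊢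
    rcases hm with hm | hm <;> rw [hm] at h1 <;> norm_num [Nat.factorial, Nat.descFactorial] at h1 <;>
      omega
  · refine ⟨by omega, fun _ => ev hi e.le, fun Δ hΔ e4 => ?_⟩
    have h1 := hk Δ hΔ e4
    rw [e, nat_card_alternatingGroup, hc'] at h1
    generalize Nat.card ↥(N ⊓ St G Δ) = a at h1 ⊢
    generalize Nat.card ↥(N ⊓ St G Γ) = b at h1 ⊢
    rcases hm with hm | hm <;> rw [hm] at h1 <;> norm_num [Nat.factorial, Nat.descFactorial] at h1 <;>
      omega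
  · refine ⟨by omega, fun _ => ev hi (le_alt (hc.trans hm) _ e), fun Δ hΔ e4 => ?_⟩
    have h1 := hk Δ hΔ e4
    rw [e, hm] at h1
    generalize Nat.card ↥(N ⊓ St G Δ) = a at h1 ⊢
    generalize Nat.card ↥(N ⊓ St G Γ) = b at h1 ⊢
    norm_num [Nat.descFactorial] at h1
    omega

open KOdd in
theorem sharp4 (h : Tr 4 N Γ) (hi : Inv N Γ) (h4 : 4 ≤ Γ.ncard)
    (hs : ∀ g ∈ N, 4 ≤ (Γ ∩ fx Ω g).ncard → Γ ⊆ fx Ω g) :
    Γ.ncard = 4 ∨ Γ.ncard = 5 ∨ Γ.ncard = 6 ∨ Γ.ncard = 11 := by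
  have : Fintype Γ := Fintype.ofFinite _
  have := tr h hi
  have hc : Fintype.card Γ = Γ.ncard := by rw [← Nat.card_eq_fintype_card, Nat.card_coe_set_eq]
  rw [← hc] at h4 ⊢
  refine Cfsg.Agent.S0415.result (phi hi).range h4 fun x => ?_
  rw [eq_bot_iff]
  intro σ hσ
  obtain ⟨g, hg, e⟩ := stab hi x σ hσ
  have h5 : phi hi g = 1 := (phi_eq_one hi g).2 fun y hy => hs g g.2 (four_le x e) hy
  exact Subgroup.mem_bot.2 (Subtype.ext (hg.symm.trans h5))

end Cfsg.Agent.Q4
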