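import Cfsg.Agent.Q4.KTr
import Cfsg.Agent.Q4.KOdd
import Cfsg.Agent.Q4.KWitt

set_option autoImplicit false
set_option linter.unusedSectionVars false

namespace Cfsg.Agent.Q4

open Subgroup

variable {G : Type*} [Group G] [Finite G] {Ω : Type*} [Fintype Ω] [DecidableEq Ω] [MulAction G Ω]
variable {N N' U V E H T M A B L Q Q' R : Subgroup G} {Γ Δ Δ' S F : Set Ω} {g s t u w y z : G}
variable {x x' a b c d : Ω} {k l p q i n κ : ℕ}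

theorem blkh_card (h : Q0 G Ω) (e : Δ.ncard = 4) (e' : Δ'.ncard = 4) :
    Nat.card (St G Δ) = Nat.card (St G Δ') := by
  have h1 := h.tr.card (fun _ _ _ _ => Set.mem_univ _) (Set.subset_univ Δ) e
  have h2 := h.tr.card (fun _ _ _ _ => Set.mem_univ _) (Set.subset_univ Δ') e'
  rw [top_inf_eq] at h1 h2
  refine Nat.eq_of_mul_eq_mul_left (Nat.pos_of_ne_zero fun z => ?_) (h1.symm.trans h2)
  rw [z, zero_mul] at h1
  exact Nat.card_pos.ne' h1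

theorem blkh_eq (h : Q0 G Ω) (e : Δ.ncard = 4) (hs : Δ' ⊆ Fx Ω (St G Δ)) (e' : Δ'.ncard = 4) :
    St G Δ' = St G Δ :=
  (Subgroup.eq_of_le_of_card_ge (le_St.2 hs) (blkh_card h e' e).le).symm

theorem blkh_conj (hg : ∀ x, g • x ∈ Δ' ↔ x ∈ Δ) (hx : x ∈ Fx Ω (St G Δ)) : g • x ∈ Fx Ω (St G Δ') := by
  intro u hu
  have m : g⁻¹ * u * g ∈ St G Δ := fun y hy => by
    rw [mul_smul, mul_smul, hu _ ((hg y).2 hy), inv_smul_smul]
  have := hx _ m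
  rwa [mul_smul, mul_smul, inv_smul_eq_iff] at this

theorem blkh_le (h : Q0 G Ω) (e : Δ.ncard = 4) (e' : Δ'.ncard = 4) :
    (Fx Ω (St G Δ)).ncard ≤ (Fx Ω (St G Δ')).ncard := by
  obtain ⟨g, -, hg⟩ := h.tr.set4 (Set.subset_univ Δ) (Set.subset_univ Δ') e e'
  exact Set.ncard_le_ncard_of_injOn (g • ·) (fun _ hx => blkh_conj hg hx) (MulAction.injective g).injOn

theorem desH (h : Q0 G Ω) (h4 : 4 ≤ Fintype.card Ω) :
    ∃ k, (k = 4 ∨ k = 5 ∨ k = 6 ∨ k = 11) ∧ Des Set.univ (fun Δ : Set Ω => Fx Ω (St G Δ)) k ∧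
      (∀ Δ : Set Ω, Δ.ncard = 4 → ∀ Δ' ⊆ Fx Ω (St G Δ), Δ'.ncard = 4 → St G Δ' = St G Δ) ∧
      ∀ Δ : Set Ω, Ss G Δ ≤ Ss G (Fx Ω (St G Δ)) := by
  obtain ⟨Δ₀, -, e₀⟩ := Set.exists_subset_card_eq (s := (Set.univ : Set Ω)) (n := 4)
    (by rwa [Set.ncard_univ, Nat.card_eq_fintype_card])
  have sub : ∀ Δ : Set Ω, Δ ⊆ Fx Ω (St G Δ) := fun Δ => le_St.1 le_rfl
  refine ⟨(Fx Ω (St G Δ₀)).ncard, ?_, ⟨fun Δ _ _ => sub Δ, fun _ _ _ => Set.subset_univ _,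
    fun Δ _ e => le_antisymm (blkh_le h e e₀) (blkh_le h e₀ e),
    fun Δ _ e Δ' hs e' => congrArg (Fx Ω) (blkh_eq h e hs e')⟩,
    fun Δ e Δ' hs e' => blkh_eq h e hs e', fun Δ g hg => mem_Ss_of fun x hx => blkh_conj hg hx⟩
  refine sharp4 (witt h.tr e₀ le_rfl fun g hg => ⟨1, one_mem _, fun u hu => ?_⟩) inv_Nm
    (e₀ ▸ Set.ncard_le_ncard (sub Δ₀)) fun g _ hg x hx => ?_
  · rw [one_mul, inv_one, mul_one]
    exact hg u hu
  · obtain ⟨Δ', hs, e'⟩ := Set.exists_subset_card_eq hg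
    refine hx g ?_
    rw [← blkh_eq h e₀ (hs.trans Set.inter_subset_left) e']
    exact fun y hy => (hs hy).2

end Cfsg.Agent.Q4
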