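import Cfsg.Agent.Q4.KTr
import Cfsg.Agent.Q4.KOdd
import Cfsg.Agent.Q4.KWitt

set_option autoImplicit false
set_option linter.unusedSectionVars false

namespace Cfsg.Agent.Q4

open Subgroup

variable {G : Type*} [Group G] [Finite G] {Ω : Type*} [Fintype Ω] [DecidableEq Ω] [MulAction G Ω]
variable {N N' U V E H T M A B L Q Q' R : Subgroup G} {Γ Δ Δ' S F : Set Ω} {g s t u w y z : G}
variable {x x' a b c d : Ω} {k l p q i n κ : ℕ}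
variable {K P : Set Ω → Subgroup G}

theorem QP.two (h : QP P) (hΔ : Δ.ncard = 4) : ∀ u ∈ P Δ, Two u := fun u hu => ((h.memP Δ hΔ u).1 hu).2

theorem QP.conj (h : QP P) (hΔ : Δ.ncard = 4) (hΔ' : Δ'.ncard = 4) (e : ∀ x, g • x ∈ Δ' ↔ x ∈ Δ) (u : G) :
    u ∈ P Δ ↔ g * u * g⁻¹ ∈ P Δ' := by
  rw [h.memP Δ hΔ, h.memP Δ' hΔ']
  refine and_congr ⟨fun k y hy => ?_, fun k y hy => ?_⟩ (exists_congr fun n => ?_)
  · rw [mul_smul, mul_smul, k _ ((e _).1 (by rwa [smul_inv_smul])), smul_inv_smul]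
  · have := k _ ((e y).2 hy)
    rw [mul_smul, mul_smul, inv_smul_smul] at this
    exact smul_left_cancel g this
  · rw [conj_pow, mul_inv_eq_one, mul_eq_left]

theorem QP.ss (h : QP P) (hΔ : Δ.ncard = 4) : Ss G Δ ≤ Nm (P Δ) :=
  Nr.le_Nm fun _ hg m hm => (h.conj hΔ hΔ hg m).1 hm

namespace BlkP

theorem cards (h : QP P) (hΔ : Δ.ncard = 4) (hΔ' : Δ'.ncard = 4) :
    Nat.card (P Δ') = Nat.card (P Δ) ∧ (Fx Ω (P Δ')).ncard = (Fx Ω (P Δ)).ncard := by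
  obtain ⟨g, -, e⟩ := h.tr.set4 (Set.subset_univ Δ) (Set.subset_univ Δ') hΔ hΔ'
  have k := h.conj hΔ hΔ' e
  have k' : ∀ v ∈ P Δ', g⁻¹ * v * g ∈ P Δ := fun v hv => (k _).2 (by simpa [mul_assoc] using hv)
  constructor
  · have : P Δ' = (P Δ).map (MulAut.conj g).toMonoidHom := Subgroup.ext fun v =>
      ⟨fun hv => ⟨_, k' v hv, by simp [mul_assoc]⟩, fun ⟨u, hu, e⟩ => e ▸ (k u).1 hu⟩
    rw [this, card_map_of_injective (MulAut.conj g).injective]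
  · have : Fx Ω (P Δ') = (g • ·) '' Fx Ω (P Δ) := Set.ext fun y => ⟨fun hy => ⟨g⁻¹ • y, fun u hu => by
      have := hy _ ((k u).1 hu)
      rw [mul_smul, mul_smul] at this
      exact eq_inv_smul_iff.2 this, smul_inv_smul g y⟩, fun ⟨x, hx, e⟩ v hv => by
      have := hx _ (k' v hv)
      rw [mul_smul, mul_smul, inv_smul_eq_iff] at this
      exact e ▸ this⟩
    rw [this, Set.ncard_image_of_injective _ (MulAction.injective g)]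

theorem eqP (h : QP P) (hΔ : Δ.ncard = 4) (hΔ' : Δ'.ncard = 4) (e : Δ' ⊆ Fx Ω (P Δ)) : P Δ' = P Δ :=
  (eq_of_le_of_card_ge (fun u hu => (h.memP Δ' hΔ' u).2 ⟨le_St.2 e hu, h.two hΔ u hu⟩) (cards h hΔ hΔ').1.le).symm

theorem le (h : QP P) (hΔ : Δ.ncard = 4) : P Δ ≤ St G Δ := fun u hu => ((h.memP Δ hΔ u).1 hu).1

end BlkP

open BlkP in
theorem desP (h : QP P) (h4 : 4 ≤ Fintype.card Ω) :
    ∃ k, (k = 4 ∨ k = 5 ∨ k = 6 ∨ k = 7 ∨ k = 11) ∧ Des Set.univ (fun Δ : Set Ω => Fx Ω (P Δ)) k ∧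
      (∀ Δ : Set Ω, Δ.ncard = 4 → ∀ g ∈ Nm (P Δ), Two g → 4 ≤ (Fx Ω (P Δ) ∩ fx Ω g).ncard →
        Fx Ω (P Δ) ⊆ fx Ω g) ∧
      (6 ≤ k → ∀ Δ : Set Ω, Δ.ncard = 4 → Ev (Nm (P Δ)) (Fx Ω (P Δ))) := by
  obtain ⟨Δ₀, -, h0⟩ := Set.exists_subset_card_eq (s := (Set.univ : Set Ω)) (n := 4)
    (by rwa [Set.ncard_univ, Nat.card_eq_fintype_card])
  have ho : ∀ Δ : Set Ω, Δ.ncard = 4 → ∀ g ∈ Nm (P Δ), Two g → 4 ≤ (Fx Ω (P Δ) ∩ fx Ω g).ncard →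
      Fx Ω (P Δ) ⊆ fx Ω g := fun Δ hΔ g _ h2 k x hx => by
    obtain ⟨Δ', l, hΔ'⟩ := Set.exists_subset_card_eq k
    exact hx g (eqP h hΔ hΔ' (l.trans Set.inter_subset_left) ▸ (h.memP Δ' hΔ' g).2 ⟨fun y hy => (l hy).2, h2⟩)
  have od := fun (Δ : Set Ω) (hΔ : Δ.ncard = 4) => odd4 (witt h.tr hΔ (le h hΔ) fun g k => ⟨1, one_mem _, fun u hu => by
      obtain ⟨n, hn⟩ := h.two hΔ u hu
      rw [one_mul, inv_one, mul_one]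
      exact (h.memP Δ hΔ _).2 ⟨k u hu, n, by rw [conj_pow, hn, mul_one, mul_inv_cancel]⟩⟩) inv_Nm
    (hΔ ▸ Set.ncard_le_ncard (le_St.1 (le h hΔ))) (ho Δ hΔ)
  exact ⟨_, (od Δ₀ h0).1, ⟨fun Δ _ hΔ => le_St.1 (le h hΔ), fun _ _ _ => Set.subset_univ _,
    fun Δ _ hΔ => (cards h h0 hΔ).2, fun Δ _ hΔ Δ' l hΔ' => congrArg (Fx Ω) (eqP h hΔ hΔ' l)⟩, ho,
    fun k Δ hΔ => (od Δ hΔ).2.1 ((cards h h0 hΔ).2 ▸ k)⟩

end Cfsg.Agent.Q4
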