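import Mathlib
import Cfsg.Prelude.Def_Solvable

set_option autoImplicit false
set_option linter.unusedSectionVars false

namespace Cfsg.Agent.Q4

open Subgroup

variable {G : Type*} [Group G] {Ω : Type*} [MulAction G Ω]

/-- points fixed by a subgroup -/
def Fx (Ω : Type*) [MulAction G Ω] (U : Subgroup G) : Set Ω := {x | ∀ u ∈ U, u • x = x}

/-- points fixed by an element -/
def fx (Ω : Type*) [MulAction G Ω] (g : G) : Set Ω := {x | g • x = x}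

/-- pointwise stabiliser -/
def St (G : Type*) [Group G] [MulAction G Ω] (S : Set Ω) : Subgroup G where
  carrier := {g | ∀ x ∈ S, g • x = x}
  one_mem' := fun x _ => one_smul G x
  mul_mem' := fun {a b} ha hb x hx => by rw [mul_smul, hb x hx, ha x hx]
  inv_mem' := fun {a} ha x hx => by rw [inv_smul_eq_iff, ha x hx]

/-- setwise stabiliser -/
def Ss (G : Type*) [Group G] [MulAction G Ω] (S : Set Ω) : Subgroup G where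
  carrier := {g | ∀ x, g • x ∈ S ↔ x ∈ S}
  one_mem' := fun x => by rw [one_smul]
  mul_mem' := fun {a b} ha hb x => by rw [mul_smul, ha, hb]
  inv_mem' := fun {a} ha x => by rw [← ha, smul_inv_smul]

/-- normaliser -/
abbrev Nm (Q : Subgroup G) : Subgroup G := Subgroup.normalizer (Q : Set G)

/-- `M` is normalised by `N` -/
def Nr (M N : Subgroup G) : Prop := ∀ g ∈ N, ∀ m ∈ M, g * m * g⁻¹ ∈ M

/-- `Γ` is `N`-invariant -/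
def Inv (N : Subgroup G) (Γ : Set Ω) : Prop := ∀ g ∈ N, ∀ x ∈ Γ, g • x ∈ Γ

/-- `N` is `k`-transitive on `Γ` -/
def Tr (k : ℕ) (N : Subgroup G) (Γ : Set Ω) : Prop :=
  ∀ x y : Fin k → Ω, Function.Injective x → Function.Injective y → (∀ i, x i ∈ Γ) → (∀ i, y i ∈ Γ) →
    ∃ g ∈ N, ∀ i, g • x i = y i

/-- 2-element -/
def Two (g : G) : Prop := ∃ n : ℕ, g ^ 2 ^ n = 1

/-- `N` induces every permutation of `Γ` -/
def Sym (N : Subgroup G) (Γ : Set Ω) : Prop :=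
  ∀ σ : Equiv.Perm Ω, (∀ x ∉ Γ, σ x = x) → ∃ g ∈ N, ∀ x ∈ Γ, g • x = σ x

/-- `N` induces every even permutation of `Γ` -/
def Alt [Fintype Ω] [DecidableEq Ω] (N : Subgroup G) (Γ : Set Ω) : Prop :=
  ∀ σ : Equiv.Perm Ω, (∀ x ∉ Γ, σ x = x) → σ ∈ alternatingGroup Ω → ∃ g ∈ N, ∀ x ∈ Γ, g • x = σ x

/-- elements of `N` acting on `Γ` with order at most 2 act evenly -/
def Ev (N : Subgroup G) (Γ : Set Ω) : Prop :=
  ∀ g ∈ N, (∀ x ∈ Γ, g • g • x = x) → 4 ∣ (Γ \ fx Ω g).ncard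

/-- `N` has a normal subgroup regular on `Γ` -/
def Reg (N : Subgroup G) (Γ : Set Ω) : Prop :=
  ∃ E ≤ N, Nr E N ∧ (∀ x ∈ Γ, ∀ y ∈ Γ, ∃ e ∈ E, e • x = y) ∧ ∀ x ∈ Γ, ∀ e ∈ E, e • x = x → e = 1

/-- no four-group -/
def No4 (H : Subgroup G) : Prop :=
  ∀ s ∈ H, ∀ t ∈ H, orderOf s = 2 → orderOf t = 2 → s * t = t * s → s = t

/-- `H` is a Frobenius group with kernel `K` -/
structure FK (H K : Subgroup G) : Prop where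
  le : K ≤ H
  nrm : Nr K H
  ne_bot : K ≠ ⊥
  ne_top : K ≠ H
  fpf : ∀ w ∈ H, w ∉ K → ∀ k ∈ K, w * k = k * w → k = 1

/-- faithful and 4-transitive -/
structure Q0 (G : Type*) [Group G] (Ω : Type*) [MulAction G Ω] : Prop where
  faith : ∀ g : G, (∀ x : Ω, g • x = x) → g = 1
  tr : Tr 4 (⊤ : Subgroup G) (Set.univ : Set Ω)

/-- four-point stabilisers are Frobenius groups with kernels `K Δ` of order `κ` -/
structure QK (κ : ℕ) (K : Set Ω → Subgroup G) : Prop extends Q0 G Ω where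
  four : ∃ Δ : Set Ω, Δ.ncard = 4
  fk : ∀ Δ : Set Ω, Δ.ncard = 4 → FK (St G Δ) (K Δ)
  card : ∀ Δ : Set Ω, Δ.ncard = 4 → Nat.card (K Δ) = κ
  mem : ∀ Δ : Set Ω, Δ.ncard = 4 → ∀ g, g ∈ K Δ ↔ g ∈ St G Δ ∧ g ^ κ = 1

/-- four-point stabilisers have a normal Sylow 2-subgroup `P Δ ≠ 1` -/
structure QP (P : Set Ω → Subgroup G) : Prop extends Q0 G Ω where
  memP : ∀ Δ : Set Ω, Δ.ncard = 4 → ∀ g, g ∈ P Δ ↔ g ∈ St G Δ ∧ Two g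
  neP : ∀ Δ : Set Ω, Δ.ncard = 4 → P Δ ≠ ⊥

/-- the case where `P Δ ≤ K Δ` fixes exactly four points -/
structure QB (κ : ℕ) (K P : Set Ω → Subgroup G) : Prop extends QK κ K, QP P where
  le : ∀ Δ : Set Ω, Δ.ncard = 4 → P Δ ≤ K Δ
  fx4 : ∀ Δ : Set Ω, Δ.ncard = 4 → Fx Ω (P Δ) = Δ

/-- maximal subgroup of exponent dividing `κ` with at least five fixed points -/
structure Mx (Ω : Type*) [MulAction G Ω] (κ : ℕ) (Q : Subgroup G) : Prop where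
  pw : ∀ u ∈ Q, u ^ κ = 1
  five : 5 ≤ (Fx Ω Q).ncard
  max : ∀ R, Q ≤ R → (∀ u ∈ R, u ^ κ = 1) → 5 ≤ (Fx Ω R).ncard → R = Q

/-- local type `A₈` -/
structure T8 (Ω : Type*) [MulAction G Ω] [Fintype Ω] [DecidableEq Ω] (Q : Subgroup G) : Prop where
  card : (Fx Ω Q).ncard = 8
  alt : Alt (Nm Q) (Fx Ω Q)
  ev : Ev (Nm Q) (Fx Ω Q)
  simp : ∀ M ≤ Nm Q, Nr M (Nm Q) → ¬ M ≤ Q → Nm Q ≤ M ⊔ Q

/-- local types `S₆`, `M₁₂` -/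
structure S5 (K : Set Ω → Subgroup G) (Q : Subgroup G) : Prop where
  card : (Fx Ω Q).ncard = 6 ∨ (Fx Ω Q).ncard = 12
  tr5 : Tr 5 (Nm Q) (Fx Ω Q)
  sharp : ∀ g ∈ Nm Q, 5 ≤ (Fx Ω Q ∩ fx Ω g).ncard → g ∈ Q
  nrm : ∀ M ≤ Nm Q, Nr M (Nm Q) → ¬ M ≤ Q → ∀ g ∈ Nm Q, g ^ 3 ∈ Q → g ∈ M ⊔ Q
  idx : ∀ Δ ⊆ Fx Ω Q, Δ.ncard = 4 → Nat.card ↥(K Δ ⊓ Nm Q) = ((Fx Ω Q).ncard - 4) * Nat.card Q
  cen : ∀ Δ ⊆ Fx Ω Q, Δ.ncard = 4 → ∀ u ∈ K Δ ⊓ Nm Q, ∀ v ∈ K Δ ⊓ Nm Q, u ∉ Q → v ∉ Q →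
    (∀ r ∈ K Δ ⊓ Nm Q, u * r * u⁻¹ * r⁻¹ ∈ Q) → (∀ r ∈ K Δ ⊓ Nm Q, v * r * v⁻¹ * r⁻¹ ∈ Q) → u * v⁻¹ ∈ Q
  nab : (Fx Ω Q).ncard = 12 → ∀ Δ ⊆ Fx Ω Q, Δ.ncard = 4 →
    ∃ u ∈ K Δ ⊓ Nm Q, ∃ v ∈ K Δ ⊓ Nm Q, u * v * u⁻¹ * v⁻¹ ∉ Q

/-- Steiner system `S(4,k,#Γ)` on `Γ`, the block through the 4-set `Δ` being `B Δ` -/
structure Des (Γ : Set Ω) (B : Set Ω → Set Ω) (k : ℕ) : Prop where
  sub : ∀ Δ ⊆ Γ, Δ.ncard = 4 → Δ ⊆ B Δ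
  le : ∀ Δ ⊆ Γ, Δ.ncard = 4 → B Δ ⊆ Γ
  card : ∀ Δ ⊆ Γ, Δ.ncard = 4 → (B Δ).ncard = k
  uniq : ∀ Δ ⊆ Γ, Δ.ncard = 4 → ∀ Δ' ⊆ B Δ, Δ'.ncard = 4 → B Δ' = B Δ

/-- four distinct points -/
structure D4 (a b c d : Ω) : Prop where
  ab : a ≠ b
  ac : a ≠ c
  ad : a ≠ d
  bc : b ≠ c
  bd : b ≠ d
  cd : c ≠ d

variable {U N Q : Subgroup G} {S Γ : Set Ω} {g h : G} {x a b c d : Ω}

@[simp] theorem mem_Fx : x ∈ Fx Ω U ↔ ∀ u ∈ U, u • x = x := Iff.rfl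
@[simp] theorem mem_fx : x ∈ fx Ω g ↔ g • x = x := Iff.rfl
@[simp] theorem mem_St : g ∈ St G S ↔ ∀ x ∈ S, g • x = x := Iff.rfl
theorem mem_Ss : g ∈ Ss G S ↔ ∀ x, g • x ∈ S ↔ x ∈ S := Iff.rfl
theorem le_St : U ≤ St G S ↔ S ⊆ Fx Ω U := ⟨fun h _ hx _ hu => h hu _ hx, fun h _ hu _ hx => h hx _ hu⟩
theorem St_le_Ss : St G S ≤ Ss G S := fun g hg x =>
  ⟨fun e => by
    have := hg _ e
    rwa [smul_left_cancel g this] at e, fun e => by rwa [hg x e]⟩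
theorem St_anti {S T : Set Ω} (e : S ⊆ T) : St G T ≤ St G S := fun _ hg x hx => hg x (e hx)
theorem Fx_anti {U V : Subgroup G} (e : U ≤ V) : Fx Ω V ⊆ Fx Ω U := fun _ hx u hu => hx u (e hu)
theorem Fx_bot : Fx Ω (⊥ : Subgroup G) = Set.univ :=
  Set.eq_univ_of_forall fun x u hu => by rw [Subgroup.mem_bot.1 hu, one_smul]
theorem nr_St : Nr (St G S) (Ss G S) := fun g hg m hm x hx => by
  rw [mul_smul, mul_smul, hm _ (((Ss G S).inv_mem hg x).2 hx), smul_inv_smul]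
theorem inv_Ss : Inv (Ss G S) S := fun _ hg x hx => (hg x).2 hx
theorem inv_Nm : Inv (Nm Q) (Fx Ω Q) := fun g hg x hx u hu => by
  have : g⁻¹ * u * g⁻¹⁻¹ ∈ Q := (Subgroup.mem_normalizer_iff.1 ((Nm Q).inv_mem hg) u).1 hu
  have e := hx _ this
  rw [inv_inv, mul_smul, mul_smul, inv_smul_eq_iff] at e
  exact e
theorem nr_Nm : Nr Q (Nm Q) := fun _ hg m hm => (Subgroup.mem_normalizer_iff.1 hg m).1 hm
theorem Nr.le_Nm [Finite G] (e : Nr Q N) : N ≤ Nm Q := fun g hg =>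
  Subgroup.mem_normalizer_fintype (S := (Q : Set G)) (e g hg)
theorem mem_Ss_of [Finite Ω] (e : ∀ x ∈ S, g • x ∈ S) : g ∈ Ss G S := by
  have hb : Set.BijOn (g • ·) S S :=
    ((Set.toFinite S).injOn_iff_bijOn_of_mapsTo e).1 (MulAction.injective g).injOn
  intro x
  refine ⟨fun hx => ?_, e x⟩
  obtain ⟨y, hy, e'⟩ := hb.surjOn hx
  rwa [← smul_left_cancel g e']
theorem comm_fx (e : g * h = h * g) (hx : x ∈ fx Ω h) : g • x ∈ fx Ω h := by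
  rw [mem_fx, ← mul_smul, ← e, mul_smul, hx]
theorem D4.ncard (e : D4 a b c d) : ({a, b, c, d} : Set Ω).ncard = 4 := by
  rw [Set.ncard_eq_four]; exact ⟨a, b, c, d, e.ab, e.ac, e.ad, e.bc, e.bd, e.cd, rfl⟩
theorem exists_D4 (e : S.ncard = 4) : ∃ a b c d, D4 a b c d ∧ S = {a, b, c, d} := by
  obtain ⟨a, b, c, d, h1, h2, h3, h4, h5, h6, h7⟩ := Set.ncard_eq_four.1 e
  exact ⟨a, b, c, d, ⟨h1, h2, h3, h4, h5, h6⟩, h7⟩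

end Cfsg.Agent.Q4
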