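import Cfsg.Agent.Q4.Frob
import Cfsg.Agent.S0058

set_option autoImplicit false
set_option linter.unusedSectionVars false

namespace Cfsg.Agent.Q4

open Subgroup

variable {G : Type*} [Group G] [Finite G] {Ω : Type*} [Fintype Ω] [DecidableEq Ω] [MulAction G Ω]
variable {N N' U V E H T M A B L Q Q' R : Subgroup G} {Γ Δ Δ' S F : Set Ω} {g s t u w y z : G}
variable {x x' a b c d : Ω} {k l p q i n κ : ℕ}
variable {K : Subgroup G}

theorem frob2_nd (h : FK H K) (hq : q.Prime) (hy : y ∈ H) (yK : y ∉ K) (yq : orderOf y = q) : ¬ q ∣ Nat.card K :=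
  fun e => by
    have := h.dvd hy yK le_rfl (h.nrm y hy)
    rw [yq] at this
    exact hq.one_lt.ne' (Nat.dvd_one.1 ((this.dvd_iff dvd_rfl).1 e))

theorem frob2_nk (hn : ¬ q ∣ Nat.card K) (gq : orderOf g = q) : g ∉ K :=
  fun e => hn (gq ▸ K.orderOf_dvd_natCard e)

/-- the subgroup generated by two commuting elements -/
def frob2_two (e : Commute g y) : Subgroup G where
  carrier := {a | ∃ i j : ℤ, a = g ^ i * y ^ j}
  one_mem' := ⟨0, 0, by simp⟩
  mul_mem' := by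
    rintro _ _ ⟨i, j, rfl⟩ ⟨k, l, rfl⟩
    exact ⟨i + k, j + l, by rw [zpow_add, zpow_add, (e.zpow_zpow k j).mul_mul_mul_comm]⟩
  inv_mem' := by
    rintro _ ⟨i, j, rfl⟩
    exact ⟨-i, -j, by rw [mul_inv_rev, ← zpow_neg, ← zpow_neg, (e.zpow_zpow (-i) (-j)).eq]⟩

theorem FK.cyc (h : FK H K) (hq : q.Prime) (hg : g ∈ H) (hy : y ∈ H) (gK : g ∉ K) (yK : y ∉ K)
    (gq : orderOf g = q) (yq : orderOf y = q) (e : g * y = y * g) : g ∈ zpowers y := by
  haveI : Fact q.Prime := ⟨hq⟩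
  have e' : Commute g y := e
  have nd := frob2_nd h hq hy yK yq
  have pw : ∀ a ∈ frob2_two e', a ^ q = 1 := by
    rintro _ ⟨i, j, rfl⟩
    rw [(e'.zpow_zpow i j).mul_pow, ← zpow_natCast, ← zpow_natCast, ← zpow_mul, ← zpow_mul, mul_comm i, mul_comm j,
      zpow_mul, zpow_mul, zpow_natCast, zpow_natCast]
    nth_rewrite 1 [← gq]
    rw [← yq, pow_orderOf_eq_one, pow_orderOf_eq_one]
    simp
  have le : frob2_two e' ≤ H := by
    rintro _ ⟨i, j, rfl⟩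
    exact mul_mem (zpow_mem hg i) (zpow_mem hy j)
  by_cases hc : IsCyclic (frob2_two e')
  · obtain ⟨a, ha⟩ := IsCyclic.exists_ofOrder_eq_natCard (α := frob2_two e')
    have d : Nat.card (frob2_two e') ∣ q := ha ▸ orderOf_dvd_of_pow_eq_one (Subtype.ext (pw a a.2))
    have : zpowers y = frob2_two e' := eq_of_le_of_card_ge (zpowers_le.2 ⟨0, 1, by simp⟩)
      (by rw [Nat.card_zpowers, yq]; exact Nat.le_of_dvd hq.pos d)
    rw [this]
    exact ⟨1, 0, by simp⟩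
  exfalso
  haveI : IsMulCommutative (frob2_two e') := ⟨⟨by
    rintro ⟨_, i, j, rfl⟩ ⟨_, k, l, rfl⟩
    exact Subtype.ext (((Commute.zpow_zpow_self g i k).mul_right (e'.zpow_zpow i l)).mul_left
      ((e'.symm.zpow_zpow j k).mul_right (Commute.zpow_zpow_self y j l))).eq⟩⟩
  have pg : IsPGroup q (frob2_two e') := fun a => ⟨1, Subtype.ext (by rw [pow_one]; exact pw a a.2)⟩
  obtain ⟨m, hm⟩ := pg.exists_card_eq
  have := S0058.result (frob2_two e') K hc (le.trans h.nrm.le_Nm)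
    (hm ▸ ((Nat.Prime.coprime_iff_not_dvd hq).2 nd).pow_left m)
  refine h.ne_bot (eq_bot_iff.2 (this.ge.trans (iSup₂_le fun a ha r hr => ?_)))
  exact mem_bot.2 (h.fpf a (le ha.1) (frob2_nk nd (orderOf_eq_prime (pw a ha.1) ha.2)) r hr.1
    (hr.2 a rfl))

theorem FK.conj (h : FK H K) (hq : q.Prime) (hg : g ∈ H) (hy : y ∈ H) (gK : g ∉ K) (yK : y ∉ K)
    (gq : orderOf g = q) (yq : orderOf y = q) : ∃ r ∈ H, r * g * r⁻¹ ∈ zpowers y := by
  haveI : Fact q.Prime := ⟨hq⟩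
  have nd := frob2_nd h hq hy yK yq
  have pg : ∀ v : H, orderOf (v : G) = q → IsPGroup q (zpowers v) := fun v hv =>
    IsPGroup.of_card (n := 1) (by rw [Nat.card_zpowers, pow_one, ← hv, Subgroup.orderOf_coe])
  obtain ⟨P, hP⟩ := (pg ⟨y, hy⟩ yq).exists_le_sylow
  obtain ⟨P', hP'⟩ := (pg ⟨g, hg⟩ gq).exists_le_sylow
  obtain ⟨r, hr⟩ := MulAction.exists_smul_eq H P' P
  have m1 : (⟨y, hy⟩ : H) ∈ P := hP (mem_zpowers _)
  have m2 : r * ⟨g, hg⟩ * r⁻¹ ∈ P := by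
    rw [← hr]
    exact smul_mem_pointwise_smul _ (MulAut.conj r) (P' : Subgroup H) (hP' (mem_zpowers _))
  haveI : Nontrivial P := nontrivial_of_ne (⟨⟨y, hy⟩, m1⟩ : P) 1 fun e => by
    have : y = 1 := congrArg (fun v : P => ((v : H) : G)) e
    exact yK (this ▸ one_mem _)
  haveI := P.2.center_nontrivial
  obtain ⟨m, m0, hm⟩ := (P.2.to_subgroup (center P)).nontrivial_iff_card.1 inferInstance
  obtain ⟨c, hc⟩ := exists_prime_orderOf_dvd_card' (G := center P) q (hm ▸ dvd_pow_self q m0.ne')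
  have cq : orderOf (((c : P) : H) : G) = q := by
    rw [Subgroup.orderOf_coe, Subgroup.orderOf_coe, Subgroup.orderOf_coe, hc]
  have cm : ∀ v : P, ((v : H) : G) * ((c : P) : H) = ((c : P) : H) * (v : H) := fun v =>
    congrArg (fun v : P => ((v : H) : G)) (mem_center_iff.1 c.2 v)
  have oq : orderOf ((r : G) * g * (r : G)⁻¹) = q := by
    rw [← gq, ← MulAut.conj_apply, MulEquiv.orderOf_eq]
  have k1 := h.cyc hq (r * ⟨g, hg⟩ * r⁻¹).2 ((c : P) : H).2 (frob2_nk nd oq) (frob2_nk nd cq) oq cq (cm ⟨_, m2⟩)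
  have k2 := h.cyc hq ((c : P) : H).2 hy (frob2_nk nd cq) yK cq yq (cm ⟨_, m1⟩).symm
  exact ⟨r, r.2, zpowers_le.2 k2 k1⟩

/-- Witt's lemma for an element of prime order outside the kernel -/
theorem FK.wc (h : FK H K) (hq : q.Prime) (hy : y ∈ H) (yK : y ∉ K) (yq : orderOf y = q) (g : G)
    (e : ∀ u ∈ zpowers y, g * u * g⁻¹ ∈ H) : ∃ r ∈ H, ∀ u ∈ zpowers y, r * (g * u * g⁻¹) * r⁻¹ ∈ zpowers y := by
  have oq : orderOf (g * y * g⁻¹) = q := by rw [← yq, ← MulAut.conj_apply, MulEquiv.orderOf_eq]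
  obtain ⟨r, hr, k⟩ := h.conj hq (e y (mem_zpowers y)) hy (frob2_nk (frob2_nd h hq hy yK yq) oq) yK oq yq
  refine ⟨r, hr, ?_⟩
  rintro _ ⟨i, rfl⟩
  have := zpow_mem k i
  rwa [conj_zpow, conj_zpow] at this

theorem FK.nm (h : FK H K) (hy : y ∈ H) (yK : y ∉ K) (hu : u ∈ K) (hn : u ∈ Nm (zpowers y)) : u = 1 := by
  have m1 : u * y * u⁻¹ * y⁻¹ ∈ zpowers y := mul_mem (nr_Nm u hn y (mem_zpowers y)) (inv_mem (mem_zpowers y))
  have m2 : u * y * u⁻¹ * y⁻¹ ∈ K := by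
    have := mul_mem hu (h.nrm y hy _ (inv_mem hu))
    simpa [mul_assoc] using this
  obtain ⟨m, hm⟩ := (mem_powers_iff_mem_zpowers.2 m1 : _ ∈ Submonoid.powers y)
  have e : y ^ m = 1 := h.pow hy yK (by rw [show y ^ m = _ from hm]; exact m2)
  rw [show y ^ m = _ from hm, mul_inv_eq_one, mul_inv_eq_iff_eq_mul] at e
  exact h.fpf y hy yK u hu e.symm

end Cfsg.Agent.Q4
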