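import Cfsg.Agent.Q4.MxB
import Cfsg.Agent.Q4.KJor
import Cfsg.Agent.Q4.Frob2

set_option autoImplicit false
set_option linter.unusedSectionVars false

namespace Cfsg.Agent.Q4

open Subgroup

variable {G : Type*} [Group G] [Finite G] {Ω : Type*} [Fintype Ω] [DecidableEq Ω] [MulAction G Ω]
variable {N N' U V E H T M A B L Q Q' R : Subgroup G} {Γ Δ Δ' S F : Set Ω} {g s t u w y z : G}
variable {x x' a b c d : Ω} {k l p q i n κ : ℕ}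
variable {K P : Set Ω → Subgroup G}

theorem e8a_two (h : QB κ K P) (hk : ∀ Δ : Set Ω, Δ.ncard = 4 → K Δ = P Δ) (hQ : Mx Ω κ Q) (hΔ : Δ ⊆ Fx Ω Q)
    (e : Δ.ncard = 4) : ∀ u ∈ Q, Two u := fun u hu =>
  ((h.memP Δ e u).1 (hk Δ e ▸ hQ.le h hΔ e hu)).2

theorem Mx.fix1 (h : QB κ K P) (hk : ∀ Δ : Set Ω, Δ.ncard = 4 → K Δ = P Δ) (hQ : Mx Ω κ Q) (hm : (Fx Ω Q).ncard = 8) (hΔ : Δ ⊆ Fx Ω Q) (e : Δ.ncard = 4)
    (hy : y ∈ Nm Q) (hs : y ∈ St G Δ) (y3 : orderOf y = 3) :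
    ∃ o ∈ Fx Ω Q, o ∉ Δ ∧ Fx Ω Q ∩ fx Ω y = insert o Δ := by
  have m := fx_mod (i := 1) (Γ := Fx Ω Q) Nat.prime_three (inv_Nm y hy) fun x _ => by
    rw [pow_one, ← y3, pow_orderOf_eq_one, one_smul]
  have sub : Δ ⊆ Fx Ω Q ∩ fx Ω y := fun x hx => ⟨hΔ hx, hs x hx⟩
  have l1 := Set.ncard_le_ncard sub
  have l2 := Set.ncard_le_ncard (Set.inter_subset_left (s := Fx Ω Q) (t := fx Ω y))
  have n8 : (Fx Ω Q ∩ fx Ω y).ncard ≠ 8 := fun e8 => by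
    have := Set.eq_of_subset_of_ncard_le (Set.inter_subset_left (s := Fx Ω Q) (t := fx Ω y)) (by omega)
    have yQ : y ∈ Q := hQ.ker h ▸ fun x hx => (this.symm ▸ hx : x ∈ Fx Ω Q ∩ fx Ω y).2
    have := (e8a_two h hk hQ hΔ e y yQ).eq_one (by rw [y3]; decide)
    rw [this, orderOf_one] at y3
    omega
  have d1 := Set.ncard_sdiff sub
  rw [hm, Nat.ModEq] at m
  obtain ⟨o, ho⟩ := Set.ncard_eq_one.1 (show ((Fx Ω Q ∩ fx Ω y) \ Δ).ncard = 1 by omega)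
  have oo : o ∈ (Fx Ω Q ∩ fx Ω y) \ Δ := ho ▸ rfl
  refine ⟨o, oo.1.1, oo.2, ?_⟩
  rw [← Set.diff_union_of_subset sub, ho, Set.insert_eq]

theorem e8a_ss (h1 : g • a = b) (h2 : g • b = a) (h3 : g • c = c) (h4 : g • d = d) :
    g ∈ Ss G ({a, b, c, d} : Set Ω) := mem_Ss_of (by
  rintro x (rfl | rfl | rfl | rfl) <;> simp [*])

theorem T8.elts (h : QB κ K P) (hk : ∀ Δ : Set Ω, Δ.ncard = 4 → K Δ = P Δ) (hQ : Mx Ω κ Q) (hT : T8 Ω Q) (hd : D4 a b c d)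
    (hΔ : ({a, b, c, d} : Set Ω) ⊆ Fx Ω Q) :
    ∃ y ∈ Nm Q, y ∈ St G ({a, b, c, d} : Set Ω) ∧ orderOf y = 3 ∧
      (∃ α ∈ Ss G ({a, b, c, d} : Set Ω), ∃ β ∈ Ss G ({a, b, c, d} : Set Ω), y * (α * β * α⁻¹ * β⁻¹)⁻¹ ∈ Q) ∧
      (∃ g ∈ Nm Q, g ∈ Ss G ({a, b, c, d} : Set Ω) ∧ g • a ≠ a ∧ g • d = d ∧ orderOf g = 3 ∧ g * y = y * g ∧
        ∃ α ∈ Ss G ({a, b, c, d} : Set Ω), ∃ β ∈ Ss G ({a, b, c, d} : Set Ω),
          g * (α * β * α⁻¹ * β⁻¹)⁻¹ ∈ Q) ∧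
      ∃ s ∈ Nm Q, s ∈ Ss G ({a, b, c, d} : Set Ω) ∧ Two s ∧ s • c = c ∧ s • d = d ∧ s * y * s⁻¹ = y⁻¹ := by
  have Q2 := e8a_two h hk hQ hΔ hd.ncard
  have : Fact (Nat.Prime 3) := ⟨Nat.prime_three⟩
  obtain ⟨o0, o1, o2, o3, ho, eo⟩ := exists_D4 (S := Fx Ω Q \ {a, b, c, d}) (by
    rw [Set.ncard_sdiff hΔ, hT.card, hd.ncard])
  have m0 : o0 ∈ Fx Ω Q \ {a, b, c, d} := eo ▸ by simp
  have m1 : o1 ∈ Fx Ω Q \ {a, b, c, d} := eo ▸ by simp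
  have m2 : o2 ∈ Fx Ω Q \ {a, b, c, d} := eo ▸ by simp
  have m3 : o3 ∈ Fx Ω Q \ {a, b, c, d} := eo ▸ by simp
  have ma : a ∈ Fx Ω Q := hΔ (by simp)
  have mb : b ∈ Fx Ω Q := hΔ (by simp)
  have mc : c ∈ Fx Ω Q := hΔ (by simp)
  have md : d ∈ Fx Ω Q := hΔ (by simp)
  have ker : ∀ u : G, u • a = a ∧ u • b = b ∧ u • c = c ∧ u • d = d ∧ u • o0 = o0 ∧ u • o1 = o1 ∧ u • o2 = o2 ∧
      u • o3 = o3 → u ∈ Q := fun u ⟨h1, h2, h3, h4, h5, h6, h7, h8⟩ => hQ.ker h ▸ fun x hx => by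
    by_cases e : x ∈ ({a, b, c, d} : Set Ω)
    · rcases e with rfl | rfl | rfl | rfl <;> assumption
    · rcases (eo ▸ ⟨hx, e⟩ : x ∈ ({o0, o1, o2, o3} : Set Ω)) with rfl | rfl | rfl | rfl <;> assumption
  have QS : Q ≤ St G ({a, b, c, d} : Set Ω) := le_St.2 hΔ
  obtain ⟨m0, n0⟩ := m0
  obtain ⟨m1, n1⟩ := m1
  obtain ⟨m2, n2⟩ := m2
  obtain ⟨m3, n3⟩ := m3
  simp only [Set.mem_insert_iff, Set.mem_singleton_iff, not_or] at n0 n1 n2 n3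
  obtain ⟨ab, ac, ad, bc, bd, cd⟩ := hd
  obtain ⟨o01, o02, o03, o12, o13, o23⟩ := ho
  obtain ⟨y0, hy0, z1, z2, z3, zz⟩ := hT.alt.three m1 m2 m3 o12 o13 o23
  have za := zz a ma (Ne.symm n1.1) (Ne.symm n2.1) (Ne.symm n3.1)
  have zb := zz b mb (Ne.symm n1.2.1) (Ne.symm n2.2.1) (Ne.symm n3.2.1)
  have zc := zz c mc (Ne.symm n1.2.2.1) (Ne.symm n2.2.2.1) (Ne.symm n3.2.2.1)
  have zd := zz d md (Ne.symm n1.2.2.2) (Ne.symm n2.2.2.2) (Ne.symm n3.2.2.2)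
  have z0 := zz o0 m0 o01 o02 o03
  obtain ⟨y, hy, y3, yq⟩ := three_lift Q2 (ker (y0 ^ 3) (by
    simp only [pow_three', mul_smul, za, zb, zc, zd, z0, z1, z2, z3, and_self]))
  have yN : y ∈ Nm Q := zpowers_le.2 hy0 hy
  have yy : ∀ x ∈ Fx Ω Q, y • x = y0 • x := fun x hx => by
    rw [← inv_mul_cancel_right y y0, mul_smul, inv_Nm y0 hy0 x hx _ yq]
  rw [← yy _ ma] at za
  rw [← yy _ mb] at zb
  rw [← yy _ mc] at zc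
  rw [← yy _ md] at zd
  rw [← yy _ m0] at z0
  rw [← yy _ m1] at z1
  rw [← yy _ m2] at z2
  rw [← yy _ m3] at z3
  obtain ⟨α, hα, αa, αb, α1, α2, αα⟩ := hT.alt.dbl (⟨ab, Ne.symm n1.1, Ne.symm n2.1, Ne.symm n1.2.1, Ne.symm n2.2.1, o12⟩ :
    D4 a b o1 o2) (by rintro x (rfl | rfl | rfl | rfl) <;> assumption)
  have αc := αα c mc (by simp [ac.symm, bc.symm, Ne.symm n1.2.2.1, Ne.symm n2.2.2.1])
  have αd := αα d md (by simp [ad.symm, bd.symm, Ne.symm n1.2.2.2, Ne.symm n2.2.2.2])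
  have α0 := αα o0 m0 (by simp [n0.1, n0.2.1, o01, o02])
  have α3 := αα o3 m3 (by simp [n3.1, n3.2.1, o13.symm, o23.symm])
  obtain ⟨β, hβ, βb, βc, β1, β2, ββ⟩ := hT.alt.dbl (⟨bc, Ne.symm n1.2.1, Ne.symm n2.2.1, Ne.symm n1.2.2.1,
    Ne.symm n2.2.2.1, o12⟩ : D4 b c o1 o2) (by rintro x (rfl | rfl | rfl | rfl) <;> assumption)
  have βa := ββ a ma (by simp [ab, ac, Ne.symm n1.1, Ne.symm n2.1])
  have βd := ββ d md (by simp [cd.symm, bd.symm, Ne.symm n1.2.2.2, Ne.symm n2.2.2.2])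
  have β0 := ββ o0 m0 (by simp [n0.2.2.1, n0.2.1, o01, o02])
  have β3 := ββ o3 m3 (by simp [n3.2.2.1, n3.2.1, o13.symm, o23.symm])
  have iv : ∀ {u : G} {x x' : Ω}, u • x = x' → u⁻¹ • x' = x := fun e => inv_smul_eq_iff.2 e.symm
  have αS : α ∈ Ss G ({a, b, c, d} : Set Ω) := e8a_ss αa αb αc αd
  have βS : β ∈ Ss G ({a, b, c, d} : Set Ω) := mem_Ss_of (by
    rintro x (rfl | rfl | rfl | rfl) <;> simp [βa, βb, βc, βd])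
  have yS : y ∈ St G ({a, b, c, d} : Set Ω) := by rintro x (rfl | rfl | rfl | rfl) <;> assumption
  have gN : α * β * α⁻¹ * β⁻¹ ∈ Nm Q := mul_mem (mul_mem (mul_mem hα hβ) (inv_mem hα)) (inv_mem hβ)
  have gS : α * β * α⁻¹ * β⁻¹ ∈ Ss G ({a, b, c, d} : Set Ω) :=
    mul_mem (mul_mem (mul_mem αS βS) (inv_mem αS)) (inv_mem βS)
  have g8 : (α * β * α⁻¹ * β⁻¹) • a = c ∧ (α * β * α⁻¹ * β⁻¹) • b = a ∧ (α * β * α⁻¹ * β⁻¹) • c = b ∧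
      (α * β * α⁻¹ * β⁻¹) • d = d ∧ (α * β * α⁻¹ * β⁻¹) • o0 = o0 ∧ (α * β * α⁻¹ * β⁻¹) • o1 = o1 ∧
      (α * β * α⁻¹ * β⁻¹) • o2 = o2 ∧ (α * β * α⁻¹ * β⁻¹) • o3 = o3 := by
    simp only [mul_smul, αa, αb, αc, αd, α0, α1, α2, α3, βa, βb, βc, βd, β0, β1, β2, β3, iv αa, iv αb, iv αc, iv αd,
      iv α0, iv α1, iv α2, iv α3, iv βa, iv βb, iv βc, iv βd, iv β0, iv β1, iv β2, iv β3, and_self]
  refine ⟨y, yN, yS, orderOf_eq_prime y3 fun e => o12 (by rw [← z1, e, one_smul]),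
    ⟨α, αS, y, St_le_Ss yS, ker _ ?_⟩, ?_, ?_⟩
  · simp only [mul_inv_rev, inv_inv, mul_smul, αa, αb, αc, αd, α0, α1, α2, α3, iv αa, iv αb, iv αc, iv αd,
      iv α0, iv α1, iv α2, iv α3, za, zb, zc, zd, z0, z1, z2, z3, iv za, iv zb, iv zc, iv zd, iv z0, iv z1, iv z2,
      iv z3, and_self]
  · refine (fun (k : ∀ g : G, g = α * β * α⁻¹ * β⁻¹ → _) => k _ rfl) fun g eg => ?_
    rw [← eg] at gN gS g8
    obtain ⟨ga, gb, gc, gd, g0, g1, g2, g3⟩ := g8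
    obtain ⟨w, hw, w3, wc⟩ := lift33 Q2 yN gN y3
      (ker _ (by simp only [pow_three', mul_smul, ga, gb, gc, gd, g0, g1, g2, g3, and_self]))
      (ker _ (by simp only [mul_smul, ga, gb, gc, gd, g0, g1, g2, g3, iv ga, iv gb, iv gc, iv gd, iv g0, iv g1, iv g2,
        iv g3, za, zb, zc, zd, z0, z1, z2, z3, iv za, iv zb, iv zc, iv zd, iv z0, iv z1, iv z2, iv z3, and_self]))
    have e1 : (g * w) • a = c := by rw [mul_smul, ma w hw, ga]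
    exact ⟨g * w, mul_mem gN (le_normalizer hw), mul_mem gS (St_le_Ss (QS hw)), e1 ▸ ac.symm,
      by rw [mul_smul, md w hw, gd], orderOf_eq_prime w3 fun e => ac (by rw [← e1, e, one_smul]), wc, α, αS, β, βS,
      eg ▸ nr_Nm g gN w hw⟩
  · obtain ⟨w, hw, e⟩ := lift2 Q2 yN hα y3 (ker _ (by
      simp only [mul_smul, αa, αb, αc, αd, α0, α1, α2, α3, iv αa, iv αb, iv αc, iv αd,
        iv α0, iv α1, iv α2, iv α3, za, zb, zc, zd, z0, z1, z2, z3, and_self]))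
    refine ⟨w * α, mul_mem (le_normalizer hw) hα, mul_mem (St_le_Ss (QS hw)) αS, Two.of_mem (i := 1) Q2 ?_,
      by rw [mul_smul, αc, mc w hw], by rw [mul_smul, αd, md w hw], e⟩
    rw [show (w * α) ^ 2 ^ 1 = w * (α * w * α⁻¹) * (α * α) by rw [pow_one, sq]; group]
    exact mul_mem (mul_mem hw (nr_Nm α hα w hw)) (ker _ (by
      simp only [mul_smul, αa, αb, αc, αd, α0, α1, α2, α3, and_self]))

end Cfsg.Agent.Q4
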