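import Cfsg.Agent.Q4.E8a

set_option autoImplicit false
set_option linter.unusedSectionVars false

namespace Cfsg.Agent.Q4

open Subgroup

variable {G : Type*} [Group G] [Finite G] {Ω : Type*} [Fintype Ω] [DecidableEq Ω] [MulAction G Ω]
variable {N N' U V E H T M A B L Q Q' R : Subgroup G} {Γ Δ Δ' S F : Set Ω} {g s t u w y z : G}
variable {x x' a b c d : Ω} {k l p q i n κ : ℕ}
variable {K P : Set Ω → Subgroup G}

theorem e8n_notK (h : QB κ K P) (hk : ∀ Δ : Set Ω, Δ.ncard = 4 → K Δ = P Δ) (e : Δ.ncard = 4)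
    (y3 : orderOf y = 3) : y ∉ K Δ := by
  intro hy
  rw [hk Δ e, h.memP Δ e] at hy
  have := hy.2.eq_one (by rw [y3]; decide)
  rw [this, orderOf_one] at y3
  omega

theorem T8.norm (h : QB κ K P) (hk : ∀ Δ : Set Ω, Δ.ncard = 4 → K Δ = P Δ) (hQ : Mx Ω κ Q) (hT : T8 Ω Q) (h0 : Q ≠ ⊥) (hΔ : Δ ⊆ Fx Ω Q) (e : Δ.ncard = 4)
    (hy : y ∈ Nm Q) (hs : y ∈ St G Δ) (y3 : orderOf y = 3) : K Δ ≤ Nm Q := by
  have fk := h.fk Δ e
  have yK := e8n_notK h hk e y3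
  have hQK : Q ≤ K Δ := hQ.le h hΔ e
  have hQ2 : ∀ u ∈ Q, Two u := fun u hu => by
    have := hQK hu
    rw [hk Δ e, h.memP Δ e] at this
    exact this.2
  have hnil : Group.IsNilpotent Q := by
    haveI : Fact (Nat.Prime 2) := ⟨Nat.prime_two⟩
    exact (two_iff.1 hQ2).isNilpotent
  obtain ⟨r, hr, r1, hrc⟩ := nil_cen hnil le_rfl (fun g hg m hm => mul_mem (mul_mem hg hm) (inv_mem hg)) h0
  have hZ : ∀ u ∈ K Δ, (∀ v ∈ K Δ, u * v = v * u) → u ∈ Q := by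
    intro u hu hc
    by_contra huQ
    have huN : u ∈ Nm Q := by
      refine Subgroup.mem_normalizer_fintype (S := (Q : Set G)) fun m hm => ?_
      rw [hc m (hQK hm), mul_inv_cancel_right]
      exact hm
    have hle := hT.simp (Nm Q ⊓ centralizer (Q : Set G)) inf_le_left (by
      intro g hg m hm
      refine Subgroup.mem_inf.2 ⟨(Nm Q).mul_mem ((Nm Q).mul_mem hg hm.1) ((Nm Q).inv_mem hg), ?_⟩
      refine Subgroup.mem_centralizer_iff.2 fun v hv => ?_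
      have h1 : g⁻¹ * v * g⁻¹⁻¹ ∈ Q := nr_Nm g⁻¹ (inv_mem hg) v hv
      have h2 := hm.2 _ h1
      rw [inv_inv] at h2
      calc v * (g * m * g⁻¹) = g * ((g⁻¹ * v * g) * m) * g⁻¹ := by group
        _ = g * (m * (g⁻¹ * v * g)) * g⁻¹ := by rw [h2]
        _ = g * m * g⁻¹ * v := by group) (by
      intro hle
      exact huQ (hle ⟨huN, fun v hv => (hc v (hQK hv)).symm⟩))
    have hcen : Nm Q ⊓ centralizer (Q : Set G) ⊔ Q ≤ centralizer ({r} : Set G) := by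
      refine sup_le ?_ ?_
      · intro m hm v hv
        rw [Set.mem_singleton_iff.1 hv]
        exact hm.2 r hr
      · intro m hm v hv
        rw [Set.mem_singleton_iff.1 hv]
        exact (hrc m hm).symm
    have hyr := hcen (hle hy) r rfl
    exact r1 (fk.fpf y hs yK r (hQK hr) hyr.symm)
  refine Nr.le_Nm fun g hg m hm => ?_
  have h1 : g * m * g⁻¹ * m⁻¹ ∈ Q :=
    hZ _ (mul_mem (mul_mem (mul_mem hg (hQK hm)) (inv_mem hg)) (inv_mem (hQK hm)))
      (fk.cls2 hs yK y3 g hg m (hQK hm))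
  have := mul_mem h1 hm
  rwa [inv_mul_cancel_right] at this

/-- an element of `N` fixing six points of `Γ` lies in `Q` -/
theorem e8n_six (h : QB κ K P) (hQ : Mx Ω κ Q) (hT : T8 Ω Q) (hw : w ∈ Nm Q) (hS : S ⊆ Fx Ω Q)
    (h6 : S.ncard = 6) (hf : ∀ x ∈ S, w • x = x) : w ∈ Q := by
  have hsub : Fx Ω Q \ fx Ω w ⊆ Fx Ω Q \ S := fun x hx => ⟨hx.1, fun e => hx.2 (hf x e)⟩
  have h2 : (Fx Ω Q \ S).ncard = 2 := by
    rw [Set.ncard_diff hS, hT.card, h6]
  have hle : (Fx Ω Q \ fx Ω w).ncard ≤ 2 := h2 ▸ Set.ncard_le_ncard hsub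
  have hmv : ∀ x ∈ Fx Ω Q \ fx Ω w, w • x ∈ Fx Ω Q \ fx Ω w := fun x hx =>
    ⟨inv_Nm w hw x hx.1, fun e => hx.2 (smul_left_cancel w e)⟩
  have hinv : ∀ x ∈ Fx Ω Q, w • w • x = x := by
    intro x hx
    by_cases e : w • x = x
    · rw [e, e]
    · by_contra e'
      have m1 : x ∈ Fx Ω Q \ fx Ω w := ⟨hx, e⟩
      have m2 := hmv x m1
      have m3 := hmv _ m2
      have h3 : ({x, w • x, w • w • x} : Set Ω).ncard = 3 := by
        rw [Set.ncard_eq_three]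
        exact ⟨x, w • x, w • w • x, Ne.symm e, Ne.symm e', Ne.symm m2.2, rfl⟩
      have : ({x, w • x, w • w • x} : Set Ω) ⊆ Fx Ω Q \ fx Ω w := by
        intro v hv
        rcases hv with rfl | rfl | rfl
        exacts [m1, m2, m3]
      have := Set.ncard_le_ncard this
      omega
  have h4 := hT.ev w hw hinv
  have h0 : (Fx Ω Q \ fx Ω w).ncard = 0 := by omega
  rw [Set.ncard_eq_zero] at h0
  rw [← hQ.ker h]
  intro x hx
  by_contra e
  have : x ∈ Fx Ω Q \ fx Ω w := ⟨hx, e⟩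
  rw [h0] at this
  exact this

theorem T8.gen (h : QB κ K P) (hk : ∀ Δ : Set Ω, Δ.ncard = 4 → K Δ = P Δ) (hQ : Mx Ω κ Q) (hT : T8 Ω Q) (hΔ : Δ ⊆ Fx Ω Q) (e : Δ.ncard = 4)
    (hy : y ∈ Nm Q) (hs : y ∈ St G Δ) (y3 : orderOf y = 3) (hw : w ∈ Nm Q) (hw' : w ∈ St G Δ) :
    w ∈ K Δ ⊔ zpowers y := by
  obtain ⟨o, ho, hoΔ, hfx⟩ := hQ.fix1 h hk hT.card hΔ e hy hs y3
  have hQK : Q ≤ K Δ := hQ.le h hΔ e
  have hyo : y • o = o := by
    have : o ∈ Fx Ω Q ∩ fx Ω y := hfx ▸ Set.mem_insert o Δ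
    exact this.2
  have h5 : (insert o Δ).ncard = 5 := by rw [Set.ncard_insert_of_notMem hoΔ, e]
  have hsub : insert o Δ ⊆ Fx Ω Q := hfx ▸ Set.inter_subset_left
  have hT3 : (Fx Ω Q \ insert o Δ).ncard = 3 := by rw [Set.ncard_diff hsub, hT.card, h5]
  have hmem : ∀ x, x ∈ Fx Ω Q \ insert o Δ ↔ x ∈ Fx Ω Q ∧ y • x ≠ x := by
    intro x
    rw [← hfx]
    exact ⟨fun hx => ⟨hx.1, fun e => hx.2 ⟨hx.1, e⟩⟩, fun hx => ⟨hx.1, fun e => hx.2 e.2⟩⟩
  have hyT : ∀ x ∈ Fx Ω Q \ insert o Δ, y • x ∈ Fx Ω Q \ insert o Δ := fun x hx =>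
    (hmem _).2 ⟨inv_Nm y hy x hx.1, fun e => ((hmem x).1 hx).2 (smul_left_cancel y e)⟩
  have y31 : ∀ x : Ω, y • y • y • x = x := fun x => by
    rw [← mul_smul, ← mul_smul, ← pow_three', ← y3, pow_orderOf_eq_one, one_smul]
  have hd : ∀ x ∈ Fx Ω Q \ insert o Δ, x ≠ y • x ∧ x ≠ y • y • x ∧ y • x ≠ y • y • x := by
    intro x hx
    have h1 := ((hmem x).1 hx).2
    refine ⟨h1.symm, fun e => h1 ?_, fun e => h1 (smul_left_cancel y e).symm⟩
    calc y • x = y • y • y • x := by rw [← e]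
      _ = x := y31 x
  have hTeq : ∀ x ∈ Fx Ω Q \ insert o Δ, ({x, y • x, y • y • x} : Set Ω) = Fx Ω Q \ insert o Δ := by
    intro x hx
    refine Set.eq_of_subset_of_ncard_le ?_ ?_
    · intro v hv
      rcases hv with rfl | rfl | rfl
      exacts [hx, hyT _ hx, hyT _ (hyT _ hx)]
    · rw [hT3]
      obtain ⟨h1, h2, h3⟩ := hd x hx
      exact (Set.ncard_eq_three.2 ⟨x, y • x, y • y • x, h1, h2, h3, rfl⟩).ge
  have hyK : y ∈ K Δ ⊔ zpowers y := mem_sup_right (mem_zpowers y)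
  -- elements fixing `o`
  have key : ∀ v ∈ Nm Q, v ∈ St G Δ → v • o = o → v ∈ K Δ ⊔ zpowers y := by
    intro v hv hv' hvo
    obtain ⟨x, hx⟩ : (Fx Ω Q \ insert o Δ).Nonempty := Set.nonempty_of_ncard_ne_zero (by omega)
    have six : ∀ v ∈ Nm Q, v ∈ St G Δ → v • o = o → v • x = x → v ∈ K Δ ⊔ zpowers y := by
      intro v hv hv' hvo hvx
      refine mem_sup_left (hQK (e8n_six h hQ hT hv (S := insert x (insert o Δ)) ?_ ?_ ?_))
      · exact Set.insert_subset hx.1 hsub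
      · rw [Set.ncard_insert_of_notMem hx.2, h5]
      · rintro z (rfl | rfl | hz)
        exacts [hvx, hvo, hv' z hz]
    have hvx : v • x ∈ Fx Ω Q \ insert o Δ := by
      refine ⟨inv_Nm v hv x hx.1, ?_⟩
      rintro (e1 | e1)
      · rw [← hvo] at e1
        exact hx.2 (Or.inl (smul_left_cancel v e1))
      · have := hv' _ e1
        exact hx.2 (Or.inr (smul_left_cancel v this ▸ e1))
    rw [← hTeq x hx] at hvx
    rcases hvx with e1 | e1 | e1
    · exact six v hv hv' hvo e1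
    · have := six (y⁻¹ * v) (mul_mem (inv_mem hy) hv) (mul_mem (inv_mem hs) hv')
        (by rw [mul_smul, hvo, inv_smul_eq_iff, hyo]) (by rw [mul_smul, e1, inv_smul_smul])
      have := mul_mem hyK this
      rwa [mul_inv_cancel_left] at this
    · have := six (y * v) (mul_mem hy hv) (mul_mem hs hv')
        (by rw [mul_smul, hvo, hyo]) (by rw [mul_smul, Set.mem_singleton_iff.1 e1, y31])
      have := mul_mem (inv_mem hyK) this
      rwa [inv_mul_cancel_left] at this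
  by_cases hwo : w • o = o
  · exact key w hw hw' hwo
  have hx : w • o ∈ Fx Ω Q \ insert o Δ := by
    refine ⟨inv_Nm w hw o ho, ?_⟩
    rintro (e1 | e1)
    · exact hwo e1
    · have := hw' _ e1
      exact hoΔ (smul_left_cancel w this ▸ e1)
  set x := w • o with hxdef
  obtain ⟨h1, h2, h3⟩ := hd x hx
  have hx1 := hyT x hx
  have hx2 := hyT _ hx1
  have hD : D4 x o (y • x) (y • y • x) :=
    ⟨hwo, h1, h2, fun e => hx1.2 (Or.inl e.symm), fun e => hx2.2 (Or.inl e.symm), h3⟩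
  obtain ⟨g, hg, g1, g2, g3, g4, g5⟩ := hT.alt.dbl hD (by
    intro v hv
    rcases hv with rfl | rfl | rfl | rfl
    exacts [hx.1, ho, hx1.1, hx2.1])
  obtain ⟨s, hs1, hs2, hs3⟩ := two_lift (g := g) (Γ := Fx Ω Q) (by
    intro v hv
    by_cases hv' : v ∈ ({x, o, y • x, y • y • x} : Set Ω)
    · rcases hv' with rfl | rfl | rfl | rfl
      · rw [g1, g2]
      · rw [g2, g1]
      · rw [g3, g4]
      · rw [g4, g3]
    · rw [g5 v hv hv', g5 v hv hv'])
  have hsN : s ∈ Nm Q := (zpowers_le.2 hg) hs1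
  have hsΔ : s ∈ St G Δ := by
    intro v hv
    rw [hs3 v (hΔ hv)]
    refine g5 v (hΔ hv) ?_
    rintro (rfl | rfl | rfl | rfl)
    exacts [hx.2 (Or.inr hv), hoΔ hv, hx1.2 (Or.inr hv), hx2.2 (Or.inr hv)]
  have hsK : s ∈ K Δ := by
    rw [hk Δ e, h.memP Δ e]
    exact ⟨hsΔ, hs2⟩
  have := key (s * w) (mul_mem hsN hw) (mul_mem hsΔ hw') (by rw [mul_smul, ← hxdef, hs3 x hx.1, g1])
  have := mul_mem (inv_mem (mem_sup_left hsK : s ∈ K Δ ⊔ zpowers y)) this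
  rwa [inv_mul_cancel_left] at this

end Cfsg.Agent.Q4
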