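import Cfsg.Agent.Q4.Frob2
import Cfsg.Agent.S0016

set_option autoImplicit false
set_option linter.unusedSectionVars false

namespace Cfsg.Agent.Q4

open Subgroup

variable {G : Type*} [Group G] [Finite G] {Ω : Type*} [Fintype Ω] [DecidableEq Ω] [MulAction G Ω]
variable {N N' U V E H T M A B L Q Q' R : Subgroup G} {Γ Δ Δ' S F : Set Ω} {g s t u w y z : G}
variable {x x' a b c d : Ω} {k l p q i n κ : ℕ}
variable {K : Subgroup G}

theorem minn_cyc_mem {C : Type*} [Group C] [Finite C] [IsCyclic C] {c d : C} (hq : q.Prime) (hc : orderOf c = q)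
    (hd : d ^ q = 1) : d ∈ zpowers c := by
  let _ : CommGroup C := IsCyclic.commGroup
  have h1 : zpowers c ≤ (powMonoidHom q : C →* C).ker := zpowers_le.2 (by
    rw [MonoidHom.mem_ker, powMonoidHom_apply, ← hc, pow_orderOf_eq_one])
  have h2 : Nat.card (powMonoidHom q : C →* C).ker ≤ Nat.card (zpowers c) := by
    rw [IsCyclic.card_powMonoidHom_ker, Nat.card_zpowers, hc]
    exact Nat.gcd_le_right _ hq.pos
  exact (eq_of_le_of_card_ge h1 h2).ge hd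

theorem minn_char {X : Type*} [Group X] [Finite X] (Y : Subgroup X) [Y.Normal] [IsZGroup Y] (h : Y ≠ ⊥) :
    ∃ c ∈ Y, ∃ q : ℕ, q.Prime ∧ orderOf c = q ∧ ∀ τ, τ * c * τ⁻¹ ∈ zpowers c := by
  obtain ⟨C, h1, h2, h3, h4⟩ : ∃ C : Subgroup X, C ≤ Y ∧ C.Normal ∧ IsCyclic C ∧ C ≠ ⊥ := by
    by_cases e : ⁅Y, Y⁆ = ⊥
    · refine ⟨Y, le_rfl, inferInstance, ?_, h⟩
      have e' : commutator Y = ⊥ := by
        rw [← map_subtype_commutator] at e
        exact (map_eq_bot_iff_of_injective _ Y.subtype_injective).1 e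
      have := IsZGroup.isCyclic_abelianization (G := Y)
      exact isCyclic_of_surjective (G' := Abelianization Y)
        ((QuotientGroup.quotientMulEquivOfEq e').trans QuotientGroup.quotientBot) (MulEquiv.surjective _)
    · refine ⟨⁅Y, Y⁆, commutator_le_left _ _, inferInstance, ?_, e⟩
      rw [← map_subtype_commutator]
      have := IsZGroup.isCyclic_commutator Y
      exact isCyclic_of_surjective _ (Y.subtype.subgroupMap_surjective (commutator Y))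
  have hn : Nat.card C ≠ 1 := fun e => h4 (card_eq_one.1 e)
  have := Fact.mk (Nat.minFac_prime hn)
  obtain ⟨c, hc⟩ := exists_prime_orderOf_dvd_card' _ (Nat.minFac_dvd (Nat.card C))
  refine ⟨c, h1 c.2, _, Nat.minFac_prime hn, by rw [orderOf_coe, hc], fun τ => ?_⟩
  obtain ⟨j, hj⟩ := minn_cyc_mem (d := (⟨τ * c * τ⁻¹, h2.conj_mem _ c.2 τ⟩ : C)) (Nat.minFac_prime hn) hc
    (Subtype.ext (by
      show (τ * c * τ⁻¹) ^ _ = 1
      rw [conj_pow, ← hc, ← orderOf_coe, pow_orderOf_eq_one, mul_one, mul_inv_cancel]))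
  exact ⟨j, congrArg Subtype.val hj⟩

theorem minn_comm {X : Type*} [Group X] {c : X} (h : ∀ τ, τ * c * τ⁻¹ ∈ zpowers c) (α β : X) :
    (α * β * α⁻¹ * β⁻¹) * c * (α * β * α⁻¹ * β⁻¹)⁻¹ * c⁻¹ = 1 := by
  have key : ∀ α β : X, α * β * c * (α * β)⁻¹ = β * α * c * (β * α)⁻¹ := fun α β => by
    obtain ⟨i, hi⟩ := h α
    obtain ⟨j, hj⟩ := h β
    simp only at hi hj
    calc α * β * c * (α * β)⁻¹ = α * (β * c * β⁻¹) * α⁻¹ := by group
      _ = (c ^ i) ^ j := by rw [← hj, ← conj_zpow, hi]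
      _ = (c ^ j) ^ i := by rw [← zpow_mul, mul_comm, zpow_mul]
      _ = β * (α * c * α⁻¹) * β⁻¹ := by rw [← hi, ← conj_zpow, hj]
      _ = _ := by group
  have e := key α⁻¹ β⁻¹
  calc _ = α * β * (α⁻¹ * β⁻¹ * c * (α⁻¹ * β⁻¹)⁻¹) * (α * β)⁻¹ * c⁻¹ := by group
    _ = 1 := by rw [e]; group

theorem minn_syl (h : FK H K) (ho : ∀ w ∈ H, Two w → w ∈ K) (hp : p.Prime) {P : Subgroup H} (hP : IsPGroup p P)
    (hn : ¬ ∀ w ∈ P, (w : G) ∈ K) : IsCyclic P := by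
  have := Fact.mk hp
  push Not at hn
  obtain ⟨w, hw, wK⟩ := hn
  obtain ⟨m, hm⟩ := hP ⟨w, hw⟩
  have hm' : (w : G) ^ p ^ m = 1 := congrArg (fun v : P => ((v : H) : G)) hm
  have p2 : p ≠ 2 := fun e => wK (ho _ w.2 ⟨m, e ▸ hm'⟩)
  have w1 : (w : G) ≠ 1 := fun e => wK (e ▸ one_mem _)
  have nd : ¬ p ∣ Nat.card K := fun e => by
    have e1 := h.dvd w.2 wK le_rfl (h.nrm _ w.2)
    obtain ⟨j, -, hj⟩ := (Nat.dvd_prime_pow hp).1 (orderOf_dvd_of_pow_eq_one hm')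
    have e2 : p ∣ orderOf (w : G) := by
      rw [hj]
      refine dvd_pow_self p fun j0 => w1 ?_
      rw [j0, pow_zero] at hj
      exact orderOf_eq_one_iff.1 hj
    exact hp.not_dvd_one ((Nat.ModEq.dvd_iff e1 e2).1 e)
  have nK : ∀ v : P, orderOf v = p → ((v : H) : G) ∉ K ∧ orderOf ((v : H) : G) = p := fun v hv => by
    have e : orderOf ((v : H) : G) = p := by rw [orderOf_coe, orderOf_coe, hv]
    exact ⟨fun hK => nd (e ▸ (orderOf_coe (⟨_, hK⟩ : K)) ▸ orderOf_dvd_natCard _), e⟩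
  have : Nontrivial P := ⟨⟨⟨w, hw⟩, 1, fun e => w1 (congrArg (fun v : P => ((v : H) : G)) e)⟩⟩
  have := hP.center_nontrivial
  obtain ⟨j, j0, hj⟩ := (hP.to_subgroup (center P)).nontrivial_iff_card.1 this
  obtain ⟨c, hc⟩ := exists_prime_orderOf_dvd_card' p (G := center P) (hj ▸ dvd_pow_self p j0.ne')
  have hc' : orderOf (c : P) = p := by rw [orderOf_coe, hc]
  have key : ∀ A : Subgroup P, Nat.card A = p → A = zpowers (c : P) := fun A hA => by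
    refine eq_of_le_of_card_ge (fun v hv => ?_) (by rw [hA, Nat.card_zpowers, hc'])
    by_cases v1 : v = 1
    · exact v1 ▸ one_mem _
    have ov : orderOf v = p := orderOf_eq_prime (by
      rw [← hA]
      exact congrArg Subtype.val (pow_card_eq_one' (x := (⟨v, hv⟩ : A)))) v1
    obtain ⟨i, hi⟩ := h.cyc hp (v : H).2 ((c : P) : H).2 (nK v ov).1 (nK c hc').1 (nK v ov).2 (nK c hc').2
      (congrArg (fun v : P => ((v : H) : G)) (mem_center_iff.1 c.2 v))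
    exact ⟨i, Subtype.ext (Subtype.ext hi)⟩
  exact (S0016.result p hP fun A B hA hB => (key A hA).trans (key B hB).symm).resolve_right fun e => p2 e.1

theorem FK.minN (h : FK H K) (hT : Nr H T) (hHT : H ≤ T) (hM : Nr M T) (hKM : K ≤ M) (hMH : M ≤ H)
    (hne : M ≠ H) (ho : ∀ w ∈ H, Two w → w ∈ K) :
    ∃ z ∈ H, z ∉ M ∧ (∃ q : ℕ, q.Prime ∧ Odd q ∧ z ^ q ∈ M) ∧ (∀ τ ∈ T, τ * z * τ⁻¹ ∈ M ⊔ zpowers z) ∧
      ∀ α ∈ T, ∀ β ∈ T, (α * β * α⁻¹ * β⁻¹) * z * (α * β * α⁻¹ * β⁻¹)⁻¹ * z⁻¹ ∈ M := by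
  have nM : (M.subgroupOf T).Normal := ⟨fun m hm g => hM g g.2 m hm⟩
  let f : T →* T ⧸ M.subgroupOf T := QuotientGroup.mk' _
  have hf : ∀ v : T, f v = 1 ↔ (v : G) ∈ M := fun v => QuotientGroup.eq_one_iff v
  let φ : H →* T ⧸ M.subgroupOf T := f.comp (inclusion hHT)
  have nY : φ.range.Normal := ⟨by
    rintro _ ⟨v, rfl⟩ τ
    obtain ⟨τ, rfl⟩ := QuotientGroup.mk'_surjective _ τ
    exact ⟨⟨τ * v * τ⁻¹, hT τ τ.2 v v.2⟩, by
      show f _ = f τ * f _ * (f τ)⁻¹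
      rw [← map_inv, ← map_mul, ← map_mul]
      rfl⟩⟩
  have zY : IsZGroup φ.range := ⟨fun p hp P => by
    have := Fact.mk hp
    obtain ⟨Q, rfl⟩ := Sylow.mapSurjective_surjective φ.rangeRestrict_surjective p P
    by_cases e : ∀ w ∈ (Q : Subgroup H), (w : G) ∈ K
    · have : Subsingleton ((Q : Subgroup H).map φ.rangeRestrict) := by
        rw [show (Q : Subgroup H).map φ.rangeRestrict = ⊥ from eq_bot_iff.2 (by
          rintro _ ⟨w, hw, rfl⟩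
          exact mem_bot.2 (Subtype.ext ((hf _).2 (hKM (e w hw)))))]
        infer_instance
      exact isCyclic_of_subsingleton (α := (Q : Subgroup H).map φ.rangeRestrict)
    · have := minn_syl h ho hp Q.2 e
      exact isCyclic_of_surjective _ (φ.rangeRestrict.subgroupMap_surjective Q)⟩
  obtain ⟨_, ⟨z, rfl⟩, q, hq, oz, hz⟩ := minn_char φ.range fun e => hne (le_antisymm hMH fun v hv =>
    (hf (inclusion hHT ⟨v, hv⟩)).1 (mem_bot.1 (e.le ⟨⟨v, hv⟩, rfl⟩)))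
  have z1 : φ z ≠ 1 := fun e => hq.one_lt.ne (by rw [← oz, e, orderOf_one])
  refine ⟨z, z.2, fun e => z1 ((hf _).2 e), ⟨q, hq, hq.odd_of_ne_two fun e => z1 ?_, ?_⟩, fun τ hτ => ?_,
    fun α hα β hβ => ?_⟩
  · obtain ⟨m, r, hr, e1⟩ := Nat.exists_eq_two_pow_mul_odd (orderOf_pos z).ne'
    have e2 : φ (z ^ r) = 1 := (hf _).2 (hKM (ho _ (z ^ r).2 ⟨m, by
      show ((z : G) ^ r) ^ 2 ^ m = 1
      rw [← pow_mul, mul_comm, ← e1, ← orderOf_coe, pow_orderOf_eq_one]⟩))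
    obtain ⟨j, rfl⟩ := hr
    rwa [map_pow, pow_succ, pow_mul, ← e, ← oz, pow_orderOf_eq_one, one_pow, one_mul] at e2
  · refine (hf (inclusion hHT (z ^ q))).1 ?_
    show φ (z ^ q) = 1
    rw [map_pow, ← oz, pow_orderOf_eq_one]
  · obtain ⟨j, hj⟩ := hz (f ⟨τ, hτ⟩)
    have e : τ * z * τ⁻¹ * ((z : G) ^ j)⁻¹ ∈ M :=
      (hf (⟨τ, hτ⟩ * inclusion hHT z * ⟨τ, hτ⟩⁻¹ * (inclusion hHT z ^ j)⁻¹)).1 (by
        simp only [map_mul, map_inv, map_zpow]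
        exact mul_inv_eq_one.2 hj.symm)
    simpa using mul_mem_sup e (zpow_mem (mem_zpowers (z : G)) j)
  · refine (hf ((⟨α, hα⟩ * ⟨β, hβ⟩ * ⟨α, hα⟩⁻¹ * ⟨β, hβ⟩⁻¹) * inclusion hHT z *
      (⟨α, hα⟩ * ⟨β, hβ⟩ * ⟨α, hα⟩⁻¹ * ⟨β, hβ⟩⁻¹)⁻¹ * (inclusion hHT z)⁻¹)).1 ?_
    simp only [map_mul, map_inv]
    exact minn_comm hz _ _

end Cfsg.Agent.Q4
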