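/-
Project Q4.  In the local type `A₈` the setwise stabiliser of four fixed points normalises `Q`.
-/
import Cfsg.Agent.Q4.E8n
import Cfsg.Agent.Q4.MinN

set_option autoImplicit false
set_option linter.unusedSectionVars false

namespace Cfsg.Agent.Q4

open Subgroup

variable {G : Type*} [Group G] [Finite G] {Ω : Type*} [Fintype Ω] [DecidableEq Ω] [MulAction G Ω]
variable {N N' U V E H T M A B L Q Q' R : Subgroup G} {Γ Δ Δ' S F : Set Ω} {g s t u w y z : G}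
variable {x x' a b c d : Ω} {k l p q i n κ : ℕ}
variable {K P : Set Ω → Subgroup G}

theorem e8b_pt (h : QB κ K P) (hk : ∀ Δ : Set Ω, Δ.ncard = 4 → K Δ = P Δ) (hQ : Mx Ω κ Q) (hT : T8 Ω Q)
    (hΔ : Δ ⊆ Fx Ω Q) (e : Δ.ncard = 4) (hs : y ∈ St G Δ) (y3 : orderOf y = 3) (hg : g ∈ Ss G Δ)
    (gy : g * y = y * g) {v : G} (hv : v ∈ St G Δ) (h1 : v⁻¹ * y * v ∈ Nm Q) (h2 : v⁻¹ * g * v ∈ Nm Q) :
    ∃ (Q' : Subgroup G) (o : Ω), Mx Ω κ Q' ∧ (∀ u, u ∈ Q ↔ v * u * v⁻¹ ∈ Q') ∧ Δ ⊆ Fx Ω Q' ∧ o ∈ Fx Ω Q' ∧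
      o ∉ Δ ∧ y • o = o ∧ g • o = o := by
  obtain ⟨Q', m, c1, c2, c3, c4⟩ := hQ.conj v
  have hΔ' : Δ ⊆ Fx Ω Q' := fun x hx => by rw [← hv x hx, c3]; exact hΔ hx
  have yN : y ∈ Nm Q' := by simpa [mul_assoc] using (c2 _).1 h1
  have gN : g ∈ Nm Q' := by simpa [mul_assoc] using (c2 _).1 h2
  obtain ⟨o, o1, o2, o3⟩ := m.fix1 h hk (c4.trans hT.card) hΔ' e yN hs y3
  have yo : o ∈ fx Ω y := (o3.ge (Set.mem_insert _ _)).2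
  refine ⟨Q', o, m, c1, hΔ', o1, o2, yo, ?_⟩
  exact (o3.le ⟨inv_Nm g gN o o1, comm_fx gy yo⟩).resolve_right fun k => o2 ((hg o).1 k)

theorem e8b_claim (h : QB κ K P) (hk : ∀ Δ : Set Ω, Δ.ncard = 4 → K Δ = P Δ) (hQ : Mx Ω κ Q) (hT : T8 Ω Q)
    (hd : D4 a b c d) (hΔ : ({a, b, c, d} : Set Ω) ⊆ Fx Ω Q) (hQM : Q ≤ M) (hMN : M ≤ Nm Q)
    (hM : Nr M (Ss G ({a, b, c, d} : Set Ω))) (hz : z ∈ St G ({a, b, c, d} : Set Ω)) (ho : Odd q) (zq : z ^ q ∈ M)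
    (hc : ∀ α ∈ Ss G ({a, b, c, d} : Set Ω), ∀ β ∈ Ss G ({a, b, c, d} : Set Ω),
      (α * β * α⁻¹ * β⁻¹) * z * (α * β * α⁻¹ * β⁻¹)⁻¹ * z⁻¹ ∈ M) : z ∈ Nm Q := by
  by_contra zN
  obtain ⟨y, yN, ys, y3, hy, ⟨g, gN, gs, ga, gd, g3, gy, hg⟩, -⟩ := hT.elts h hk hQ hd hΔ
  have zT := St_le_Ss hz
  have key : ∀ u ∈ Nm Q, (∃ α ∈ Ss G ({a, b, c, d} : Set Ω), ∃ β ∈ Ss G ({a, b, c, d} : Set Ω),
      u * (α * β * α⁻¹ * β⁻¹)⁻¹ ∈ Q) → z⁻¹ * u * z ∈ Nm Q ∧ z⁻¹⁻¹ * u * z⁻¹ ∈ Nm Q := by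
    rintro u hu ⟨α, hα, β, hβ, hw⟩
    have k := hc α hα β hβ
    generalize α * β * α⁻¹ * β⁻¹ = γ at hw k
    have m : u * z * u⁻¹ * z⁻¹ ∈ M := by
      have := mul_mem (mul_mem (hQM hw) k) (hM z zT _ (inv_mem (hQM hw)))
      convert this using 1; group
    constructor
    · have := mul_mem (hMN (hM _ (inv_mem zT) _ m)) hu
      convert this using 1; group
    · have := mul_mem (hMN (inv_mem m)) hu
      convert this using 1; group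
  obtain ⟨y1, y2⟩ := key y yN hy
  obtain ⟨g1, g2⟩ := key g gN hg
  obtain ⟨Q0, o0, m0, c0, d0, f0, n0, p0, r0⟩ := e8b_pt h hk hQ hT hΔ hd.ncard ys y3 gs gy (one_mem _)
    (by simpa using yN) (by simpa using gN)
  obtain ⟨Q1, o1, m1, c1, d1, f1, n1, p1, r1⟩ := e8b_pt h hk hQ hT hΔ hd.ncard ys y3 gs gy hz y1 g1
  obtain ⟨Q2, o2, m2, c2, d2, f2, n2, p2, r2⟩ := e8b_pt h hk hQ hT hΔ hd.ncard ys y3 gs gy (inv_mem hz) y2 g2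
  have nm : ∀ {v w : G} {R : Subgroup G}, (∀ u, u ∈ Q ↔ v * u * v⁻¹ ∈ R) → (∀ u, u ∈ Q ↔ w * u * w⁻¹ ∈ R) →
      w⁻¹ * v ∈ Nm Q := fun {v w R} hv hw => mem_normalizer_iff.2 fun u => by
    rw [hv, hw, show w * (w⁻¹ * v * u * (w⁻¹ * v)⁻¹) * w⁻¹ = v * u * v⁻¹ by group]
  have dm : d ∈ ({a, b, c, d} : Set Ω) := by simp
  have D : D4 o0 o1 o2 d := by
    refine ⟨fun k => zN ?_, fun k => zN ?_, fun k => n0 (k ▸ dm), fun k => zN ?_, fun k => n1 (k ▸ dm),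
      fun k => n2 (k ▸ dm)⟩
    · have := m0.eq h m1 d0 d1 hd.ncard f0 (k ▸ f1) n0
      subst this
      simpa using nm c1 c0
    · have := m0.eq h m2 d0 d2 hd.ncard f0 (k ▸ f2) n0
      subst this
      simpa using nm c0 c2
    · have := m1.eq h m2 d1 d2 hd.ncard f1 (k ▸ f2) n1
      subst this
      have z2 := nm c1 c2
      rw [inv_inv, ← sq] at z2
      obtain ⟨j, rfl⟩ := ho
      have := hMN zq
      rwa [pow_succ, pow_mul, mul_mem_cancel_left (pow_mem z2 j)] at this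
  have nK : ∀ u : G, orderOf u = 3 → u ∉ K {o0, o1, o2, d} := fun u u3 hu => by
    rw [hk _ D.ncard, h.memP _ D.ncard] at hu
    have := hu.2.eq_one (by rw [u3]; decide)
    rw [this, orderOf_one] at u3
    omega
  have := (h.fk _ D.ncard).cyc Nat.prime_three (g := g) (y := y) (by simp [r0, r1, r2, gd])
    (by simp [p0, p1, p2, ys d dm]) (nK g g3) (nK y y3) g3 y3 gy
  exact ga (zpowers_le.2 ys this a (by simp))

theorem T8.stage (h : QB κ K P) (hk : ∀ Δ : Set Ω, Δ.ncard = 4 → K Δ = P Δ) (hQ : Mx Ω κ Q) (hT : T8 Ω Q) (h0 : Q ≠ ⊥) (hΔ : Δ ⊆ Fx Ω Q) (e : Δ.ncard = 4) :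
    Ss G Δ ≤ Nm Q := by
  obtain ⟨a, b, c, d, hd, rfl⟩ := exists_D4 e
  obtain ⟨y, yN, ys, y3, -⟩ := hT.elts h hk hQ hd hΔ
  have KN := hT.norm h hk hQ h0 hΔ e yN ys y3
  let M : Subgroup G :=
    { carrier := {m | m ∈ St G ({a, b, c, d} : Set Ω) ∧ ∀ τ ∈ Ss G ({a, b, c, d} : Set Ω), τ * m * τ⁻¹ ∈ Nm Q}
      one_mem' := ⟨one_mem _, fun τ _ => by simp⟩
      mul_mem' := fun {u v} hu hv => ⟨mul_mem hu.1 hv.1, fun τ hτ => by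
        rw [← conj_mul]; exact mul_mem (hu.2 τ hτ) (hv.2 τ hτ)⟩
      inv_mem' := fun {u} hu => ⟨inv_mem hu.1, fun τ hτ => by
        rw [← conj_inv]; exact inv_mem (hu.2 τ hτ)⟩ }
  have MN : M ≤ Nm Q := fun m hm => by simpa using hm.2 1 (one_mem _)
  have KM : K {a, b, c, d} ≤ M := fun m hm => ⟨(h.fk _ e).le hm, fun τ hτ => KN (h.toQK.ss e τ hτ m hm)⟩
  have nM : Nr M (Ss G ({a, b, c, d} : Set Ω)) := fun τ hτ m hm => ⟨nr_St τ hτ m hm.1, fun σ hσ => by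
    have := hm.2 _ (mul_mem hσ hτ)
    convert this using 1; group⟩
  have HN : St G ({a, b, c, d} : Set Ω) ≤ Nm Q := by
    by_contra hn
    obtain ⟨z, hz, zM, ⟨q, -, ho, zq⟩, h1, h2⟩ := (h.fk _ e).minN nr_St St_le_Ss nM KM (fun m hm => hm.1)
      (fun k => hn (k ▸ MN)) fun w hw h2 => by rw [hk _ e, h.memP _ e]; exact ⟨hw, h2⟩
    have zN := e8b_claim h hk hQ hT hd hΔ ((hQ.le h hΔ e).trans KM) MN nM hz ho zq h2
    exact zM ⟨hz, fun τ hτ => sup_le MN (zpowers_le.2 zN) (h1 τ hτ)⟩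
  intro τ hτ
  have ne : ∀ {x y : Ω}, x ≠ y → τ • x ≠ τ • y := fun k k' => k (smul_left_cancel τ k')
  obtain ⟨n, hn, e1, e2, e3, e4⟩ := tr4_iff.1 (hQ.tr h) a b c d (τ • a) (τ • b) (τ • c) (τ • d) hd
    ⟨ne hd.ab, ne hd.ac, ne hd.ad, ne hd.bc, ne hd.bd, ne hd.cd⟩ hΔ (by
      rintro x (rfl | rfl | rfl | rfl) <;> exact hΔ ((hτ _).2 (by simp)))
  have : n⁻¹ * τ ∈ St G ({a, b, c, d} : Set Ω) := by
    rintro x (rfl | rfl | rfl | rfl) <;> rw [mul_smul, inv_smul_eq_iff] <;> symm <;> assumption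
  exact (mul_mem_cancel_left (inv_mem hn)).1 (HN this)

end Cfsg.Agent.Q4
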