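import Cfsg.Agent.Q4.E8b

set_option autoImplicit false
set_option linter.unusedSectionVars false

namespace Cfsg.Agent.Q4

open Subgroup

variable {G : Type*} [Group G] [Finite G] {Ω : Type*} [Fintype Ω] [DecidableEq Ω] [MulAction G Ω]
variable {N N' U V E H T M A B L Q Q' R : Subgroup G} {Γ Δ Δ' S F : Set Ω} {g s t u w y z : G}
variable {x x' a b c d : Ω} {k l p q i n κ : ℕ}
variable {K P : Set Ω → Subgroup G}

theorem e8c_fix (hs : s ∈ Nm Q) (hs' : s ∈ Ss G Δ) (hi : s * y * s⁻¹ = y⁻¹) (hx : x ∉ Δ)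
    (e : Fx Ω Q ∩ fx Ω y = insert x Δ) : s • x = x := by
  have h1 : x ∈ Fx Ω Q ∩ fx Ω y := by rw [e]; exact Set.mem_insert _ _
  have h2 : s • x ∈ Fx Ω Q ∩ fx Ω y := by
    refine ⟨inv_Nm s hs x h1.1, ?_⟩
    have h3 : y⁻¹ • s • x = s • x := by
      rw [← hi, mul_smul, mul_smul, inv_smul_smul, h1.2]
    rw [mem_fx]
    exact (inv_smul_eq_iff.1 h3).symm
  rw [e] at h2
  rcases h2 with h2 | h2
  · exact h2
  · exact absurd ((hs' x).1 h2) hx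

theorem T8.uniq (h : QB κ K P) (hk : ∀ Δ : Set Ω, Δ.ncard = 4 → K Δ = P Δ) (hQ : Mx Ω κ Q) (hQ' : Mx Ω κ Q') (hT : T8 Ω Q) (hT' : T8 Ω Q') (h0 : Q ≠ ⊥)
    (h0' : Q' ≠ ⊥) (hΔ : Δ ⊆ Fx Ω Q) (hΔ' : Δ ⊆ Fx Ω Q') (e : Δ.ncard = 4) : Q = Q' := by
  obtain ⟨a, b, c, d, hd, rfl⟩ := exists_D4 e
  obtain ⟨y, hy, hys, y3, -, -, s, hs, hss, s2, sc, sd, si⟩ := T8.elts h hk hQ hT hd hΔ
  have st' := T8.stage h hk hQ' hT' h0' hΔ' e
  have hy' : y ∈ Nm Q' := st' (St_le_Ss hys)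
  have hs' : s ∈ Nm Q' := st' hss
  obtain ⟨o, ho, hoΔ, eo⟩ := Mx.fix1 h hk hQ hT.card hΔ e hy hys y3
  obtain ⟨o', ho', hoΔ', eo'⟩ := Mx.fix1 h hk hQ' hT'.card hΔ' e hy' hys y3
  by_cases hoo : o = o'
  · exact Mx.eq h hQ hQ' hΔ hΔ' e ho (hoo ▸ ho') hoΔ
  exfalso
  have so := e8c_fix hs hss si hoΔ eo
  have so' := e8c_fix hs' hss si hoΔ' eo'
  have yo : y • o = o := by
    have : o ∈ Fx Ω Q ∩ fx Ω y := by rw [eo]; exact Set.mem_insert _ _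
    exact this.2
  have yo' : y • o' = o' := by
    have : o' ∈ Fx Ω Q' ∩ fx Ω y := by rw [eo']; exact Set.mem_insert _ _
    exact this.2
  have hD : D4 c d o o' := ⟨hd.cd, fun h => hoΔ (by rw [← h]; simp), fun h => hoΔ' (by rw [← h]; simp),
    fun h => hoΔ (by rw [← h]; simp), fun h => hoΔ' (by rw [← h]; simp), hoo⟩
  have hsP : s ∈ P {c, d, o, o'} := (h.memP _ hD.ncard s).2 ⟨by
    intro x hx
    rcases hx with rfl | rfl | rfl | rfl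
    exacts [sc, sd, so, so'], s2⟩
  have hyS : y ∈ St G ({c, d, o, o'} : Set Ω) := by
    intro x hx
    rcases hx with rfl | rfl | rfl | rfl
    exacts [hys _ (by simp), hys _ (by simp), yo, yo']
  have hyN := QP.ss h.toQP hD.ncard (St_le_Ss hyS)
  have h1 : y * s * y⁻¹ * s⁻¹ ∈ P {c, d, o, o'} := mul_mem (nr_Nm y hyN s hsP) (inv_mem hsP)
  have h2 : y * s * y⁻¹ * s⁻¹ = y ^ 2 := by
    have : s * y⁻¹ * s⁻¹ = y := by
      have := congrArg Inv.inv si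
      rw [inv_inv] at this
      calc s * y⁻¹ * s⁻¹ = (s * y * s⁻¹)⁻¹ := by group
        _ = y := this
    rw [pow_two]
    calc y * s * y⁻¹ * s⁻¹ = y * (s * y⁻¹ * s⁻¹) := by group
      _ = y * y := by rw [this]
  rw [h2] at h1
  obtain ⟨m, hm⟩ := ((h.memP _ hD.ncard _).1 h1).2
  rw [← pow_mul, ← pow_succ'] at hm
  have h3 := orderOf_dvd_of_pow_eq_one hm
  rw [y3] at h3
  have := (Nat.Prime.dvd_of_dvd_pow Nat.prime_three h3)
  omega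

end Cfsg.Agent.Q4
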