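import Cfsg.Agent.Q4.GS
import Cfsg.Agent.Q4.Frob2

set_option autoImplicit false
set_option linter.unusedSectionVars false

namespace Cfsg.Agent.Q4

open Subgroup

variable {G : Type*} [Group G] [Finite G] {Ω : Type*} [Fintype Ω] [DecidableEq Ω] [MulAction G Ω]
variable {N N' U V E H T M A B L Q Q' R : Subgroup G} {Γ Δ Δ' S F : Set Ω} {g s t u w y z : G}
variable {x x' a b c d : Ω} {k l p q i n κ : ℕ}
variable {K P : Set Ω → Subgroup G}

theorem n5a_notK (h : QB κ K P) (hk : ∀ Δ : Set Ω, Δ.ncard = 4 → K Δ = P Δ) (hΔ : Δ.ncard = 4)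
    (y3 : orderOf y = 3) : y ∉ K Δ := by
  intro hy
  rw [hk Δ hΔ, h.memP Δ hΔ] at hy
  have := hy.2.eq_one (by rw [y3]; decide)
  rw [this, orderOf_one] at y3
  omega

theorem n5a_cyc (hu : Two u) (e : u ^ 3 • x = x) : u • x = x := by
  obtain ⟨n, hn⟩ := hu
  have h1 : u ∈ zpowers (u ^ 3) := by
    rw [mem_zpowers_pow_iff]
    exact Nat.Coprime.coprime_dvd_right (orderOf_dvd_of_pow_eq_one hn) (Nat.Coprime.pow_right n (by norm_num))
  have h2 : zpowers (u ^ 3) ≤ MulAction.stabilizer G x := by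
    rw [zpowers_le]; exact e
  exact h2 h1

/-- the fixed-point set of an element of order 3 with at least four fixed points -/
theorem QB.three (h : QB κ K P) (hk : ∀ Δ : Set Ω, Δ.ncard = 4 → K Δ = P Δ) (g3 : orderOf g = 3) (h4 : 4 ≤ (fx Ω g).ncard) :
    Tr 4 (Nm (zpowers g)) (fx Ω g) ∧
      (∀ s ∈ Nm (zpowers g), Two s → 4 ≤ (fx Ω g ∩ fx Ω s).ncard → s = 1) ∧
      ∀ Δ : Set Ω, Δ.ncard = 4 → ∃ y ∈ St G Δ, y ∉ K Δ ∧ orderOf y = 3 := by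
  obtain ⟨Δ, hΔ, e⟩ := Set.exists_subset_card_eq h4
  have hg : g ∈ St G Δ := fun x hx => hΔ hx
  refine ⟨?_, ?_, ?_⟩
  · rw [← Fx_zpowers]
    exact witt h.tr e (zpowers_le.2 hg) fun g' e' =>
      (h.fk Δ e).wc Nat.prime_three hg (n5a_notK h hk e g3) g3 g' e'
  · intro s hs h2 h4'
    obtain ⟨Δ', hΔ', e'⟩ := Set.exists_subset_card_eq h4'
    have hs' : s ∈ K Δ' := by
      rw [hk Δ' e', h.memP Δ' e']
      exact ⟨fun x hx => (hΔ' hx).2, h2⟩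
    exact (h.fk Δ' e').nm (fun x hx => (hΔ' hx).1) (n5a_notK h hk e' g3) hs' hs
  · intro Δ' e'
    obtain ⟨r, -, hr⟩ := h.tr.set4 (Set.subset_univ Δ) (Set.subset_univ Δ') e e'
    have ho : orderOf (r * g * r⁻¹) = 3 := by
      rw [← g3]; exact orderOf_injective (MulAut.conj r).toMonoidHom (MulAut.conj r).injective g
    refine ⟨r * g * r⁻¹, fun x hx => ?_, n5a_notK h hk e' ho, ho⟩
    have : r⁻¹ • x ∈ Δ := (hr _).1 (by rwa [smul_inv_smul])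
    rw [mul_smul, mul_smul, hg _ this, smul_inv_smul]
theorem S5.norm6 (h : QB κ K P) (hk : ∀ Δ : Set Ω, Δ.ncard = 4 → K Δ = P Δ) (hQ : Mx Ω κ Q) (hS : S5 K Q) (hΔ : Δ ⊆ Fx Ω Q) (e : Δ.ncard = 4)
    (hn : K Δ ≤ Nm Q) (h6 : (Fx Ω Q).ncard = 6) : False := by
  obtain ⟨a, b, c, d, hd, rfl⟩ := exists_D4 e
  set Δ : Set Ω := {a, b, c, d} with hΔdef
  obtain ⟨x, hx, hxΔ⟩ : ∃ x ∈ Fx Ω Q, x ∉ Δ := by
    by_contra hc
    push Not at hc
    have := Set.ncard_le_ncard (show Fx Ω Q ⊆ Δ from hc) (Set.toFinite _)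
    omega
  obtain ⟨g, hgN, z, hz, x', o₁, o₂, ga, gb, gc, -, -, hfx, x'd, x'x, o1Γ, -, -, go1, -, ⟨r, hr, ho1⟩, -⟩ :=
    hS.gs h hQ hd hΔ hx hxΔ
  have hx'm : x' ∈ Fx Ω Q ∩ fx Ω g := by rw [hfx]; simp
  have hxm : x ∈ Fx Ω Q ∩ fx Ω g := by rw [hfx]; simp
  have hdm : d ∈ Fx Ω Q ∩ fx Ω g := by rw [hfx]; simp
  have gx : g • x = x := hxm.2
  have gx' : g • x' = x' := hx'm.2
  have gd : g • d = d := hdm.2
  have ha : a ∈ Δ := by simp [Δ]
  have hb : b ∈ Δ := by simp [Δ]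
  have hc : c ∈ Δ := by simp [Δ]
  have hdd : d ∈ Δ := by simp [Δ]
  have x'Δ : x' ∉ Δ := by
    rintro (rfl | rfl | rfl | rfl)
    · exact hd.ab (gx'.symm.trans ga)
    · exact hd.bc (gx'.symm.trans gb)
    · exact hd.ac (gx'.symm.trans gc).symm
    · exact x'd rfl
  have hΓ : ∀ v ∈ Fx Ω Q, v ∈ Δ ∨ v = x ∨ v = x' := by
    have h1 : insert x (insert x' Δ) = Fx Ω Q := by
      apply Set.eq_of_subset_of_ncard_le _ _ (Set.toFinite _)
      · rintro v (rfl | rfl | hv)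
        exacts [hx, hx'm.1, hΔ hv]
      · rw [Set.ncard_insert_of_notMem _ (Set.toFinite _), Set.ncard_insert_of_notMem x'Δ (Set.toFinite _), e, h6]
        rintro (rfl | hv)
        exacts [x'x rfl, hxΔ hv]
    intro v hv
    rw [← h1] at hv
    rcases hv with rfl | rfl | hv
    exacts [Or.inr (Or.inl rfl), Or.inr (Or.inr rfl), Or.inl hv]
  have hF := h.fk Δ e
  have hw : r * z ∈ St G Δ := mul_mem (hF.le hr) hz
  set w := r * z with hwdef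
  have ho1' : o₁ = w • x := by rw [ho1, hwdef, mul_smul]
  obtain ⟨Q', hQ', hc1, hc2, hc3, -⟩ := hQ.conj w
  have hΔ' : Δ ⊆ Fx Ω Q' := fun v hv => by
    rw [← hw v hv]; exact (hc3 v).2 (hΔ hv)
  have hssw : ∀ u ∈ Ss G Δ, ∀ v, v ∉ Δ → u • v ∉ Δ := fun u hu v hv e' => hv ((hu v).1 e')
  have o1m : o₁ ∈ Fx Ω Q' := by rw [ho1']; exact (hc3 x).2 hx
  have o1Δ : o₁ ∉ Δ := fun e' => o1Γ (hΔ e')
  set o := w • x' with hodef
  have om : o ∈ Fx Ω Q' := (hc3 x').2 hx'm.1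
  have oΔ : o ∉ Δ := hssw w (St_le_Ss hw) x' x'Δ
  have oo : o₁ ≠ o := by
    rw [ho1', hodef]; intro e'; exact x'x (smul_left_cancel w e').symm
  have hne : Q ≠ Q' := fun e' => o1Γ (e' ▸ o1m)
  have oΓ : o ∉ Fx Ω Q := fun e' => hne (hQ.eq h hQ' hΔ hΔ' e e' om oΔ)
  have hΓ' : ∀ v ∈ Fx Ω Q', v ∈ Δ ∨ v = o₁ ∨ v = o := by
    intro v hv
    have : w⁻¹ • v ∈ Fx Ω Q := (hc3 _).1 (by rwa [smul_inv_smul])
    rcases hΓ _ this with h1 | h1 | h1
    · left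
      have := hw _ h1
      rw [smul_inv_smul] at this
      rwa [this]
    · right; left; rw [ho1', ← h1, smul_inv_smul]
    · right; right; rw [hodef, ← h1, smul_inv_smul]
  have hn' : K Δ ≤ Nm Q' := fun u hu => by
    have h1 : w⁻¹ * u * w⁻¹⁻¹ ∈ K Δ := hF.nrm _ (inv_mem hw) u hu
    have := (hc2 _).1 (hn h1)
    convert this using 1; group
  have gSs : g ∈ Ss G Δ := mem_Ss_of (by
    rintro v (rfl | rfl | rfl | rfl)
    · rwa [ga]
    · rwa [gb]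
    · rwa [gc]
    · rwa [gd])
  have gN' : g ∈ Nm Q' := by
    refine Subgroup.mem_normalizer_fintype (S := (Q' : Set G)) fun m hm => ?_
    refine hQ'.semi h hΔ' e (h.ss e g gSs m (hQ'.le h hΔ' e hm)) o1m o1Δ ?_
    have : g⁻¹ • o₁ = o₁ := by rw [inv_smul_eq_iff, go1]
    rw [mul_smul, mul_smul, this, o1m m hm, go1]
  have go : g • o = o := by
    rcases hΓ' _ (inv_Nm g gN' o om) with h1 | h1 | h1
    · exact absurd h1 (hssw g gSs o oΔ)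
    · exact absurd (smul_left_cancel g (h1.trans go1.symm)) oo.symm
    · exact h1
  obtain ⟨τ, hτ, hτQ⟩ : ∃ τ ∈ Q', τ ∉ Q := by
    by_contra hc
    push Not at hc
    exact hne (hQ'.max Q hc hQ.pw hQ.five)
  have τK : τ ∈ K Δ := hQ'.le h hΔ' e hτ
  have τS : τ ∈ St G Δ := hF.le τK
  have τ2 : Two τ := by
    have := τK
    rw [hk Δ e, h.memP Δ e] at this
    exact this.2
  have τx : τ • x = x' := by
    rcases hΓ _ (inv_Nm τ (hn τK) x hx) with h1 | h1 | h1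
    · exact absurd h1 (hssw τ (St_le_Ss τS) x hxΔ)
    · exact absurd (hQ.semi h hΔ e τK hx hxΔ h1) hτQ
    · exact h1
  have τx' : τ • x' = x := by
    rcases hΓ _ (inv_Nm τ (hn τK) x' hx'm.1) with h1 | h1 | h1
    · exact absurd h1 (hssw τ (St_le_Ss τS) x' x'Δ)
    · exact h1
    · exact absurd (smul_left_cancel τ (h1.trans τx.symm)) x'x
  have hD : ∀ v ∈ Fx Ω Q, ∀ v' ∈ Fx Ω Q, v ≠ v' → D4 o₁ o v v' := fun v hv v' hv' e' =>
    ⟨oo, fun e => o1Γ (e ▸ hv), fun e => o1Γ (e ▸ hv'), fun e => oΓ (e ▸ hv), fun e => oΓ (e ▸ hv'), e'⟩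
  have xd : x ≠ d := fun e' => hxΔ (e' ▸ hdd)
  have e1 := (hD x hx d hdm.1 xd).ncard
  set Δ1 : Set Ω := {o₁, o, x, d} with hΔ1
  have hQS : Q ≤ Ss G Δ1 := fun u hu => mem_Ss_of (by
    have uK := hQ.le h hΔ e hu
    have key : ∀ v ∈ Fx Ω Q', v ∉ Δ → u • v ∈ Δ1 := fun v hv hv' => by
      rcases hΓ' _ (inv_Nm u (hn' uK) v hv) with h1 | h1 | h1
      · exact absurd h1 (hssw u (St_le_Ss (hF.le uK)) v hv')
      · rw [h1]; simp [Δ1]
      · rw [h1]; simp [Δ1]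
    rintro v (rfl | rfl | rfl | rfl)
    · exact key _ o1m o1Δ
    · exact key _ om oΔ
    · rw [hx u hu]; simp [Δ1]
    · rw [hdm.1 u hu]; simp [Δ1])
  have hQ2 : ∀ u ∈ Q, Two u := fun u hu => by
    have := hQ.le h hΔ e hu
    rw [hk Δ e, h.memP Δ e] at this
    exact this.2
  have hP2 := h.toQP.two e1
  have hQN : Q ≤ Nm (P Δ1) := hQS.trans (h.toQP.ss e1)
  have hL : IsPGroup 2 ↥(P Δ1 ⊔ Q) := IsPGroup.to_sup_of_normal_left' (two_iff.1 hP2) (two_iff.1 hQ2) hQN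
  have : Fact (Nat.Prime 2) := ⟨Nat.prime_two⟩
  obtain ⟨σ, σP, σN, σQ⟩ := nil_grow (K := P Δ1 ⊔ Q) hL.isNilpotent le_sup_right le_sup_left
    (fun u hu m hm => nr_Nm u ((sup_le le_normalizer hQN : P Δ1 ⊔ Q ≤ Nm (P Δ1)) hu) m hm) (by
      intro hle
      have : a ∈ Δ1 := by rw [← h.fx4 Δ1 e1]; exact Fx_anti hle (hΔ ha)
      rcases this with h1 | h1 | h1 | h1
      · exact o1Δ (h1 ▸ ha)
      · exact oΔ (h1 ▸ ha)
      · exact hxΔ (h1 ▸ ha)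
      · exact hd.ad h1)
  have hPS : P Δ1 ≤ St G Δ1 := fun u hu => ((h.memP Δ1 e1 u).1 hu).1
  have fx1 : ∀ u ∈ P Δ1, u • o₁ = o₁ ∧ u • o = o ∧ u • x = x ∧ u • d = d := fun u hu =>
    ⟨hPS hu _ (by simp [Δ1]), hPS hu _ (by simp [Δ1]), hPS hu _ (by simp [Δ1]), hPS hu _ (by simp [Δ1])⟩
  obtain ⟨σ1, σo, σx, σd⟩ := fx1 σ σP
  by_cases hσ : σ • x' = x'
  · set R := P Δ1 ⊓ (Nm Q ⊓ St G ({x'} : Set Ω)) with hR
    have gP : g ∈ Nm (P Δ1) := h.toQP.ss e1 (St_le_Ss (by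
      rintro v (rfl | rfl | rfl | rfl)
      exacts [go1, go, gx, gd]))
    have gR : g ∈ Nm R := by
      refine Subgroup.mem_normalizer_fintype (S := (R : Set G)) fun m hm => ⟨nr_Nm g gP m hm.1,
        (Nm Q).mul_mem ((Nm Q).mul_mem hgN hm.2.1) ((Nm Q).inv_mem hgN), ?_⟩
      rintro v rfl
      have : g⁻¹ • v = v := by rw [inv_smul_eq_iff, gx']
      rw [mul_smul, mul_smul, this, hm.2.2 v rfl, gx']
    have hinv : Inv R ({a, b, c} : Set Ω) := by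
      intro u hu v hv
      have vΔ : v ∈ Δ := by
        rcases hv with rfl | rfl | rfl
        exacts [ha, hb, hc]
      have vd : v ≠ d := by
        rcases hv with rfl | rfl | rfl
        exacts [hd.ad, hd.bd, hd.cd]
      obtain ⟨-, -, ux, ud⟩ := fx1 u hu.1
      rcases hΓ _ (inv_Nm u hu.2.1 v (hΔ vΔ)) with h1 | h1 | h1
      · rcases h1 with h1 | h1 | h1 | h1
        · rw [h1]; simp
        · rw [h1]; simp
        · rw [h1]; simp
        · exact absurd (smul_left_cancel u (h1.trans ud.symm)) vd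
      · exact absurd (smul_left_cancel u (h1.trans ux.symm) ▸ vΔ) hxΔ
      · exact absurd (smul_left_cancel u (h1.trans (hu.2.2 x' rfl).symm) ▸ vΔ) x'Δ
    have hm := Fx_mod Nat.prime_two (two_iff.1 fun u (hu : u ∈ R) => hP2 u hu.1) hinv
    have h3 : ({a, b, c} : Set Ω).ncard = 3 := Set.ncard_eq_three.2 ⟨a, b, c, hd.ab, hd.ac, hd.bc, rfl⟩
    rw [h3] at hm
    obtain ⟨v, hv1, hv2⟩ : (({a, b, c} : Set Ω) ∩ Fx Ω R).Nonempty := by
      apply Set.nonempty_of_ncard_ne_zero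
      intro h0
      rw [h0] at hm
      exact absurd hm (by decide)
    have i1 := inv_Nm g gR v hv2
    have i2 := inv_Nm g gR _ i1
    have all : a ∈ Fx Ω R ∧ b ∈ Fx Ω R ∧ c ∈ Fx Ω R := by
      rcases hv1 with rfl | rfl | rfl
      · rw [ga] at i1 i2; rw [gb] at i2; exact ⟨hv2, i1, i2⟩
      · rw [gb] at i1 i2; rw [gc] at i2; exact ⟨i2, hv2, i1⟩
      · rw [gc] at i1 i2; rw [ga] at i2; exact ⟨i1, i2, hv2⟩
    have σR : σ ∈ R := ⟨σP, σN, by rintro v rfl; exact hσ⟩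
    apply σQ
    rw [← hQ.ker h]
    intro v hv
    rcases hΓ v hv with (rfl | rfl | rfl | rfl) | rfl | rfl
    exacts [all.1 σ σR, all.2.1 σ σR, all.2.2 σ σR, σd, σx, hσ]
  · set ε := σ • x' with hε
    have εΔ : ε ∈ Δ := by
      rcases hΓ _ (inv_Nm σ σN x' hx'm.1) with h1 | h1 | h1
      · exact h1
      · exact absurd (smul_left_cancel σ (h1.trans σx.symm)) x'x
      · exact absurd h1 hσ
    have εd : ε ≠ d := fun e' => x'd (smul_left_cancel σ (e'.trans σd.symm))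
    obtain ⟨b', b'Δ, b'd, b'ε⟩ : ∃ b' ∈ Δ, b' ≠ d ∧ b' ≠ ε := by
      by_cases h1 : a = ε
      · exact ⟨b, hb, hd.bd, h1 ▸ hd.ab.symm⟩
      · exact ⟨a, ha, hd.ad, h1⟩
    have σi : ∀ v : Ω, σ • v = v → σ⁻¹ • v = v := fun v hv => by rw [inv_smul_eq_iff, hv]
    have ρfix : ∀ v ∈ Fx Ω Q, v ≠ x → v ≠ ε → (σ * τ * σ⁻¹) • v = v := by
      intro v hv h1 h2
      rcases hΓ _ (inv_Nm σ⁻¹ (inv_mem σN) v hv) with h3 | h3 | h3
      · rw [mul_smul, mul_smul, τS _ h3, smul_inv_smul]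
      · rw [inv_smul_eq_iff, σx] at h3; exact absurd h3 h1
      · rw [inv_smul_eq_iff] at h3; exact absurd h3 h2
    have e2 := (hD d hdm.1 b' (hΔ b'Δ) b'd.symm).ncard
    have m1 : τ ∈ P {o₁, o, d, b'} := (h.memP _ e2 τ).2 ⟨by
      rintro v (rfl | rfl | rfl | rfl)
      exacts [o1m τ hτ, om τ hτ, τS _ hdd, τS _ b'Δ], τ2⟩
    have m2 : σ * τ * σ⁻¹ ∈ P {o₁, o, d, b'} := (h.memP _ e2 _).2 ⟨by
      rintro v (rfl | rfl | rfl | rfl)
      · rw [mul_smul, mul_smul, σi _ σ1, o1m τ hτ, σ1]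
      · rw [mul_smul, mul_smul, σi _ σo, om τ hτ, σo]
      · exact ρfix _ hdm.1 xd.symm εd.symm
      · exact ρfix _ (hΔ b'Δ) (fun e' => hxΔ (e' ▸ b'Δ)) b'ε, τ2.conj σ⟩
    have t2 := h.toQP.two e2 _ (mul_mem m1 m2)
    have c1 : (τ * (σ * τ * σ⁻¹)) • x = ε := by
      rw [mul_smul, mul_smul, mul_smul, σi _ σx, τx, ← hε, τS _ εΔ]
    have c2 : (τ * (σ * τ * σ⁻¹)) • ε = x' := by
      rw [mul_smul, mul_smul, mul_smul, hε, inv_smul_smul, τx', σx, τx]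
    have c3 : (τ * (σ * τ * σ⁻¹)) • x' = x := by
      rw [mul_smul, ρfix _ hx'm.1 x'x (fun e' => x'Δ (e' ▸ εΔ)), τx']
    have := n5a_cyc (x := x) t2 (by rw [pow_succ, pow_two, mul_smul, mul_smul, c1, c2, c3])
    rw [c1] at this
    exact hxΔ (this ▸ εΔ)

end Cfsg.Agent.Q4
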