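import Cfsg.Agent.Q4.E8c
import Cfsg.Agent.Q4.N5a
import Cfsg.Agent.Q4.Des
import Cfsg.Agent.Q4.Des3

set_option autoImplicit false
set_option linter.unusedSectionVars false

namespace Cfsg.Agent.Q4

open Subgroup

variable {G : Type*} [Group G] [Finite G] {Ω : Type*} [Fintype Ω] [DecidableEq Ω] [MulAction G Ω]
variable {N N' U V E H T M A B L Q Q' R : Subgroup G} {Γ Δ Δ' S F : Set Ω} {g s t u w y z : G}
variable {x x' a b c d : Ω} {k l p q i n κ : ℕ}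
variable {K P : Set Ω → Subgroup G}

theorem e8d_ex (h : QB κ K P) (e : Δ.ncard = 4) : ∃ Q : Subgroup G, Mx Ω κ Q ∧ Δ ⊆ Fx Ω Q := by
  obtain ⟨Q₀, hQ₀⟩ := h.exists_Mx
  obtain ⟨Δ₀, h1, h2⟩ := Set.exists_subset_card_eq (s := Fx Ω Q₀) (n := 4) (by have := hQ₀.five; omega)
  obtain ⟨g, -, hg⟩ := h.tr.set4 (Set.subset_univ Δ₀) (Set.subset_univ Δ) h2 e
  obtain ⟨Q', hQ', -, -, h3, -⟩ := hQ₀.conj g
  refine ⟨Q', hQ', fun v hv => ?_⟩
  have h4 : g⁻¹ • v ∈ Δ₀ := (hg _).1 (by rwa [smul_inv_smul])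
  have h5 := (h3 _).2 (h1 h4)
  rwa [smul_inv_smul] at h5

theorem T8.eight (h : QB κ K P) (hk : ∀ Δ : Set Ω, Δ.ncard = 4 → K Δ = P Δ) (hall : ∀ Q : Subgroup G, Mx Ω κ Q → T8 Ω Q) : Fintype.card Ω = 8 := by
  by_cases hb : Mx Ω κ (⊥ : Subgroup G)
  · have := (hall _ hb).card
    rwa [Fx_bot, Set.ncard_univ, Nat.card_eq_fintype_card] at this
  have h0 : ∀ Q : Subgroup G, Mx Ω κ Q → Q ≠ ⊥ := fun Q hQ e => hb (e ▸ hQ)
  have hex : ∀ Δ : Set Ω, Δ.ncard = 4 → ∃ Q : Subgroup G, Mx Ω κ Q ∧ Δ ⊆ Fx Ω Q :=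
    fun Δ e => e8d_ex h e
  choose! QQ hM hsub using hex
  have huniq : ∀ Δ Δ' : Set Ω, Δ.ncard = 4 → Δ'.ncard = 4 → Δ' ⊆ Fx Ω (QQ Δ) → QQ Δ' = QQ Δ :=
    fun Δ Δ' e e' hs => T8.uniq h hk (hM _ e') (hM _ e) (hall _ (hM _ e')) (hall _ (hM _ e))
      (h0 _ (hM _ e')) (h0 _ (hM _ e)) (hsub _ e') hs e'
  have hst : ∀ Δ : Set Ω, Δ.ncard = 4 → Ss G Δ ≤ Nm (QQ Δ) := fun Δ e =>
    T8.stage h hk (hM _ e) (hall _ (hM _ e)) (h0 _ (hM _ e)) (hsub _ e) e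
  have hD : Des (Set.univ : Set Ω) (fun Δ => Fx Ω (QQ Δ)) 8 :=
    ⟨fun Δ _ e => hsub Δ e, fun Δ _ _ => Set.subset_univ _, fun Δ _ e => (hall _ (hM _ e)).card,
      fun Δ _ e Δ' hs e' => by
        show Fx Ω (QQ Δ') = Fx Ω (QQ Δ)
        rw [huniq Δ Δ' e e' hs]⟩
  obtain ⟨Δ₀, e₀⟩ := h.four
  obtain ⟨a, b, c, d, hd, rfl⟩ := exists_D4 e₀
  obtain ⟨y, -, hys, y3, -⟩ := T8.elts h hk (hM _ e₀) (hall _ (hM _ e₀)) hd (hsub _ e₀)
  have h4 : 4 ≤ (fx Ω y).ncard := by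
    rw [← e₀]
    exact Set.ncard_le_ncard (fun v hv => hys v hv) (Set.toFinite _)
  have h5 : ∀ Δ ⊆ fx Ω y, Δ.ncard = 4 → (Fx Ω (QQ Δ) ∩ fx Ω y).ncard = 5 := by
    intro Δ hs e
    have hy : y ∈ St G Δ := fun v hv => hs hv
    obtain ⟨o, -, ho, h1⟩ := Mx.fix1 h hk (hM _ e) (hall _ (hM _ e)).card (hsub _ e) e
      (hst _ e (St_le_Ss hy)) hy y3
    rw [h1, Set.ncard_insert_of_notMem ho (Set.toFinite _), e]
  have hD5 : Des (fx Ω y) (fun Δ => Fx Ω (QQ Δ) ∩ fx Ω y) 5 :=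
    ⟨fun Δ hs e => Set.subset_inter (hsub Δ e) hs, fun Δ _ _ => Set.inter_subset_right, h5,
      fun Δ _ e Δ' hs e' => by
        show Fx Ω (QQ Δ') ∩ fx Ω y = Fx Ω (QQ Δ) ∩ fx Ω y
        rw [huniq Δ Δ' e e' (hs.trans Set.inter_subset_left)]⟩
  have hodd := hD5.dvd h4
  have hinv : Inv (Nm (zpowers y)) (fx Ω y) := by
    rw [← Fx_zpowers]; exact inv_Nm
  have hsh := sharp4 (QB.three h hk y3 h4).1 hinv h4 (by
    intro w hw hw4
    obtain ⟨Δ, h1, e⟩ := Set.exists_subset_card_eq hw4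
    have hy : y ∈ St G Δ := fun v hv => (h1 hv).1
    have hw' : w ∈ St G Δ := fun v hv => (h1 hv).2
    have hg := T8.gen h hk (hM _ e) (hall _ (hM _ e)) (hsub _ e) e (hst _ e (St_le_Ss hy)) hy y3
      (hst _ e (St_le_Ss hw')) hw'
    have hyK : y ∉ K Δ := by
      intro hyK
      rw [hk Δ e] at hyK
      have h2 := (((h.memP Δ e y).1 hyK).2).eq_one (by rw [y3]; decide)
      rw [h2, orderOf_one] at y3
      omega
    have hn : zpowers y ≤ Nm (K Δ) := zpowers_le.2 ((h.fk Δ e).nrm.le_Nm hy)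
    have hg' : w ∈ ((K Δ ⊔ zpowers y : Subgroup G) : Set G) := hg
    rw [Subgroup.coe_mul_of_right_le_normalizer_left _ _ hn] at hg'
    obtain ⟨r, hr, m, hm, rfl⟩ := hg'
    have hrn : r ∈ Nm (zpowers y) := by
      have := mul_mem hw (inv_mem (le_normalizer hm))
      simpa using this
    have hr1 := (h.fk Δ e).nm hy hyK hr hrn
    subst hr1
    intro v hv
    rw [← Fx_zpowers] at hv
    show (1 * m) • v = v
    rw [one_mul]
    exact hv m hm)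
  have hj : (fx Ω y).ncard = 5 ∨ (fx Ω y).ncard = 11 := by
    rcases hsh with e | e | e | e
    · rw [e] at hodd; omega
    · exact Or.inl e
    · rw [e] at hodd; omega
    · exact Or.inr e
  have hy3 : y ^ 3 = 1 := by rw [← y3, pow_orderOf_eq_one]
  rcases hD.cnt3 hy3 hj h5 (fun Δ e hs => mem_Ss_of fun v hv => inv_Nm y (hst Δ e hs) v hv) with e | e
  · exact e
  · exfalso
    have hP : IsPGroup 2 (P {a, b, c, d}) := two_iff.1 fun u hu => ((h.memP _ e₀ u).1 hu).2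
    have h1 := Fx_mod (Γ := (Set.univ : Set Ω)) Nat.prime_two hP (fun _ _ _ _ => Set.mem_univ _)
    rw [Set.univ_inter, h.fx4 _ e₀, e₀, Set.ncard_univ, Nat.card_eq_fintype_card, e] at h1
    exact absurd h1 (by decide)

end Cfsg.Agent.Q4
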