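import Cfsg.Agent.Q4.KFix
import Cfsg.Agent.S0033
import Cfsg.Agent.S3779

set_option autoImplicit false
set_option linter.unusedSectionVars false

namespace Cfsg.Agent.Q4

open Subgroup

variable {G : Type*} [Group G] [Finite G] {Ω : Type*} [Fintype Ω] [DecidableEq Ω] [MulAction G Ω]
variable {N N' U V E H T M A B L Q Q' R : Subgroup G} {Γ Δ Δ' S F : Set Ω} {g s t u w y z : G}
variable {x x' a b c d : Ω} {k l p q i n κ : ℕ}
variable {K : Subgroup G}

theorem FK.pow (h : FK H K) (hw : w ∈ H) (hK : w ∉ K) (e : w ^ n ∈ K) : w ^ n = 1 :=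
  h.fpf w hw hK _ e (Commute.self_pow w n).eq

theorem FK.inj (h : FK H K) (hw : w ∈ H) (hK : w ∉ K) (hA : A ≤ K) (hB : B ≤ A)
    (e : ∀ r ∈ A, r⁻¹ * (w * r * w⁻¹) ∈ B) : A ≤ B := by
  let f : A → B := fun r => ⟨(r : G)⁻¹ * (w * r * w⁻¹), e r r.2⟩
  have hf : Function.Injective f := by
    intro r s hrs
    have e1 : (r : G)⁻¹ * (w * r * w⁻¹) = (s : G)⁻¹ * (w * s * w⁻¹) := congrArg Subtype.val hrs
    have e2 : w * ((s : G) * (r : G)⁻¹) = ((s : G) * (r : G)⁻¹) * w := by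
      calc w * ((s : G) * (r : G)⁻¹) = s * ((s : G)⁻¹ * (w * s * w⁻¹)) * w * (r : G)⁻¹ := by group
        _ = s * ((r : G)⁻¹ * (w * r * w⁻¹)) * w * (r : G)⁻¹ := by rw [e1]
        _ = _ := by group
    have e3 := h.fpf w hw hK _ (hA (A.mul_mem s.2 (A.inv_mem r.2))) e2
    exact Subtype.ext (mul_inv_eq_one.1 e3).symm
  exact (Subgroup.eq_of_le_of_card_ge hB (Nat.card_le_card_of_injective f hf)).ge

theorem frob_zp (h : FK H K) (hw : w ∈ H) (hK : w ∉ K) (hg : g ∈ zpowers w) (h1 : g ≠ 1) :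
    g ∈ H ∧ g ∉ K := by
  obtain ⟨m, rfl⟩ := (Submonoid.mem_powers_iff _ _).1 (mem_powers_iff_mem_zpowers.2 hg)
  exact ⟨H.pow_mem hw m, fun e => h1 (h.pow hw hK e)⟩

theorem FK.dvd (h : FK H K) (hw : w ∈ H) (hK : w ∉ K) (hA : A ≤ K) (hn : ∀ r ∈ A, w * r * w⁻¹ ∈ A) :
    Nat.card A ≡ 1 [MOD orderOf w] := by
  classical
  have hwN : w ∈ Nm A := Subgroup.mem_normalizer_fintype (S := (A : Set G)) hn
  have hle : zpowers w ≤ Nm A := (Subgroup.zpowers_le).2 hwN
  let φ : zpowers w →* MulAut A := A.normalizerMonoidHom.comp (Subgroup.inclusion hle)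
  letI : MulAction (zpowers w) A := MulAction.compHom A φ
  have hs : ∀ (a : zpowers w) (r : A), ((a • r : A) : G) = a * r * (a : G)⁻¹ := fun a r => rfl
  haveI := Fintype.ofFinite (zpowers w)
  haveI : ∀ a : zpowers w, Fintype (MulAction.fixedBy A a) := fun a => Fintype.ofFinite _
  haveI : Fintype (MulAction.orbitRel.Quotient (zpowers w) A) := Fintype.ofFinite _
  have key := MulAction.sum_card_fixedBy_eq_card_orbits_mul_card_group (zpowers w) A
  have h1 : ∀ a : zpowers w, Fintype.card (MulAction.fixedBy A a) =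
      if a = 1 then Nat.card A else 1 := by
    intro a
    rw [← Nat.card_eq_fintype_card]
    split_ifs with ha
    · subst ha
      rw [MulAction.fixedBy_one_eq_univ]
      exact Nat.card_congr (Equiv.Set.univ _)
    · have ha' : (a : G) ≠ 1 := fun e => ha (Subtype.ext e)
      obtain ⟨a1, a2⟩ := frob_zp h hw hK a.2 ha'
      have : MulAction.fixedBy A a = {1} := by
        ext r
        rw [MulAction.mem_fixedBy, Set.mem_singleton_iff]
        constructor
        · intro e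
          have e1 : (a : G) * r * (a : G)⁻¹ = r := by rw [← hs, e]
          exact Subtype.ext (h.fpf a a1 a2 r (hA r.2) (mul_inv_eq_iff_eq_mul.1 e1))
        · rintro rfl
          exact Subtype.ext (by rw [hs]; simp)
      rw [this]; simp
  simp only [h1] at key
  rw [← Finset.add_sum_erase _ _ (Finset.mem_univ (1 : zpowers w)), if_pos rfl,
    Finset.sum_congr rfl (fun a ha => if_neg (Finset.ne_of_mem_erase ha)), Finset.sum_const,
    Finset.card_erase_of_mem (Finset.mem_univ _), Finset.card_univ, smul_eq_mul, mul_one,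
    ← Nat.card_eq_fintype_card (α := zpowers w), Nat.card_zpowers] at key
  have hpos : 0 < orderOf w := orderOf_pos w
  have e2 : Nat.card A + (orderOf w - 1) ≡ 1 + (orderOf w - 1) [MOD orderOf w] := by
    rw [key, show 1 + (orderOf w - 1) = orderOf w by omega]
    exact ((Nat.modEq_zero_iff_dvd.2 (Dvd.intro_left _ rfl)).trans
      (Nat.modEq_zero_iff_dvd.2 dvd_rfl).symm)
  exact Nat.ModEq.add_right_cancel' _ e2

theorem FK.mem_iff (h : FK H K) (hg : g ∈ H) : g ∈ K ↔ g ^ Nat.card K = 1 := by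
  refine ⟨fun e => ?_, fun e => ?_⟩
  · have := pow_card_eq_one' (G := K) (x := ⟨g, e⟩)
    exact congrArg Subtype.val this
  · by_contra hK
    have e1 := h.dvd hg hK le_rfl (h.nrm g hg)
    have e2 : orderOf g ∣ Nat.card K := orderOf_dvd_of_pow_eq_one e
    have e3 : orderOf g ∣ 1 := (e1.dvd_iff dvd_rfl).1 e2
    rw [Nat.dvd_one, orderOf_eq_one_iff] at e3
    exact hK (e3 ▸ K.one_mem)

theorem frob_ex (h : FK H K) : ∃ w ∈ H, w ∉ K := by
  by_contra hc
  push Not at hc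
  exact h.ne_top (le_antisymm h.le hc)

theorem frob_aut (h : FK H K) (hw : w ∈ H) (hK : w ∉ K) (hp : p.Prime) (ho : orderOf w = p) :
    ∃ φ : MulAut K, (∀ r : K, ((φ r : K) : G) = w * r * w⁻¹) ∧ orderOf φ = p ∧
      ∀ r : K, φ r = r → r = 1 := by
  have hwN : w ∈ Nm K := Subgroup.mem_normalizer_fintype (S := (K : Set G)) (h.nrm w hw)
  have hf : ∀ r : K, K.normalizerMonoidHom ⟨w, hwN⟩ r = r → r = 1 := by
    intro r e
    have e1 : w * r * w⁻¹ = r := congrArg Subtype.val e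
    exact Subtype.ext (h.fpf w hw hK r r.2 (mul_inv_eq_iff_eq_mul.1 e1))
  refine ⟨K.normalizerMonoidHom ⟨w, hwN⟩, fun r => rfl, ?_, hf⟩
  haveI := Fact.mk hp
  refine orderOf_eq_prime ?_ ?_
  · rw [← map_pow]
    have : (⟨w, hwN⟩ : Nm K) ^ p = 1 := Subtype.ext (by
      rw [← ho]; exact pow_orderOf_eq_one w)
    rw [this, map_one]
  · intro e
    apply h.ne_bot
    rw [eq_bot_iff]
    intro r hr
    have := hf ⟨r, hr⟩ (by rw [e]; rfl)
    exact Subgroup.mem_bot.2 (congrArg Subtype.val this)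

theorem FK.nil (h : FK H K) : Group.IsNilpotent K := by
  obtain ⟨w, hw, hK⟩ := frob_ex h
  have h1 : orderOf w ≠ 1 := fun e => hK (orderOf_eq_one_iff.1 e ▸ K.one_mem)
  have hp := Nat.minFac_prime h1
  have hd := Nat.minFac_dvd (orderOf w)
  have ho : orderOf (w ^ (orderOf w / (orderOf w).minFac)) = (orderOf w).minFac :=
    orderOf_pow_orderOf_div (orderOf_pos w).ne' hd
  have hne : w ^ (orderOf w / (orderOf w).minFac) ≠ 1 := fun e => by
    rw [e, orderOf_one] at ho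
    exact hp.one_lt.ne ho
  obtain ⟨φ, -, h2, h3⟩ := frob_aut h (H.pow_mem hw _) (fun e => hne (h.pow hw hK e)) hp ho
  exact Cfsg.Agent.S0033.result φ h3 _ hp h2

theorem FK.six (h : FK H K) : 6 ≤ Nat.card H := by
  obtain ⟨w, hw, hK⟩ := frob_ex h
  have h1 : orderOf w ≠ 1 := fun e => hK (orderOf_eq_one_iff.1 e ▸ K.one_mem)
  have e1 := h.dvd hw hK le_rfl (h.nrm w hw)
  have e2 : 1 < Nat.card K := (Subgroup.one_lt_card_iff_ne_bot K).2 h.ne_bot
  have e3 : Nat.card K ≠ 2 := fun e => by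
    rw [e] at e1
    exact h1 (Nat.dvd_one.1 ((Nat.modEq_iff_dvd' (by norm_num)).1 e1.symm))
  obtain ⟨m, hm⟩ := Subgroup.card_dvd_of_le h.le
  have e4 : m ≠ 0 := fun e => by
    rw [e, mul_zero] at hm
    exact Nat.card_pos.ne' hm
  have e5 : m ≠ 1 := fun e => by
    rw [e, mul_one] at hm
    exact h.ne_top (Subgroup.eq_of_le_of_card_ge h.le hm.le)
  rw [hm]
  calc 6 = 3 * 2 := rfl
    _ ≤ _ := Nat.mul_le_mul (by omega) (by omega)

theorem FK.inv (h : FK H K) (ht : t ∈ H) (hK : t ∉ K) (h2 : orderOf t = 2) (hu : u ∈ K) :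
    t * u * t⁻¹ = u⁻¹ := by
  obtain ⟨φ, h1, ho, h3⟩ := frob_aut h ht hK Nat.prime_two h2
  have hi : Function.Involutive φ := fun r => by
    have : φ ^ 2 = 1 := ho ▸ pow_orderOf_eq_one φ
    have e := congrArg (fun ψ : MulAut K => ψ r) this
    simpa [pow_two] using e
  have e := MonoidHom.FixedPointFree.coe_eq_inv_of_involutive (φ := φ) h3 hi
  have e' := congrFun e ⟨u, hu⟩
  rw [← h1 ⟨u, hu⟩, e']
  rfl

open scoped commutatorElement in
theorem FK.cls2 (h : FK H K) (hy : y ∈ H) (hK : y ∉ K) (h3 : orderOf y = 3) :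
    ∀ r ∈ K, ∀ s ∈ K, ∀ u ∈ K, (r * s * r⁻¹ * s⁻¹) * u = u * (r * s * r⁻¹ * s⁻¹) := by
  obtain ⟨φ, -, ho, hf⟩ := frob_aut h hy hK Nat.prime_three h3
  have e := (Cfsg.Agent.S3779.result Nat.prime_three φ ho hf).2.1 rfl
  intro r hr s hs u hu
  have m1 : ⁅(⟨r, hr⟩ : K), (⟨s, hs⟩ : K)⁆ ∈ (⊤ : Subgroup K).lowerCentralSeries 1 :=
    Subgroup.commutator_mem_commutator (Subgroup.mem_top _) (Subgroup.mem_top _)
  have m2 : ⁅⁅(⟨r, hr⟩ : K), (⟨s, hs⟩ : K)⁆, (⟨u, hu⟩ : K)⁆ ∈ (⊤ : Subgroup K).lowerCentralSeries 2 :=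
    Subgroup.commutator_mem_commutator m1 (Subgroup.mem_top _)
  rw [e, Subgroup.mem_bot, commutatorElement_eq_one_iff_mul_comm] at m2
  exact congrArg Subtype.val m2

end Cfsg.Agent.Q4
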