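import Cfsg.Agent.Q4.MxB
import Cfsg.Agent.Q4.MinN

set_option autoImplicit false
set_option linter.unusedSectionVars false

namespace Cfsg.Agent.Q4

open Subgroup

variable {G : Type*} [Group G] [Finite G] {Ω : Type*} [Fintype Ω] [DecidableEq Ω] [MulAction G Ω]
variable {N N' U V E H T M A B L Q Q' R : Subgroup G} {Γ Δ Δ' S F : Set Ω} {g s t u w y z : G}
variable {x x' a b c d : Ω} {k l p q i n κ : ℕ}
variable {K P : Set Ω → Subgroup G}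

theorem gs_five (hS : S5 K Q) (e4 : Δ.ncard = 4) (hΔ : Δ ⊆ Fx Ω Q) (hx : x ∈ Fx Ω Q) (hx' : x ∉ Δ)
    (hg : g ∈ Nm Q) (h1 : g ∈ St G Δ) (h2 : g • x = x) : g ∈ Q := hS.sharp g hg (by
  have := Set.ncard_le_ncard (Set.insert_subset (t := Fx Ω Q ∩ fx Ω g) ⟨hx, h2⟩ fun v hv => ⟨hΔ hv, h1 v hv⟩)
  rwa [Set.ncard_insert_of_notMem hx', e4] at this)

theorem gs_sep (h : QB κ K P) (hQ : Mx Ω κ Q) (hS : S5 K Q) (e4 : Δ.ncard = 4) (hΔ : Δ ⊆ Fx Ω Q)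
    (hx : x ∈ Fx Ω Q) (hx' : x ∉ Δ) (hw : w ∈ St G Δ) (e : w • x = x) : w ∈ K Δ := by
  refine hQ.le h hΔ e4 (gs_five hS e4 hΔ hx hx' (mem_normalizer_fintype (S := (Q : Set G)) fun u hu => ?_) hw e)
  refine hQ.semi h hΔ e4 ((h.fk Δ e4).nrm w hw u (hQ.le h hΔ e4 hu)) hx hx' ?_
  rw [mul_smul, mul_smul, inv_smul_eq_iff.2 e.symm, hx u hu, e]

theorem gs_out (h : QB κ K P) (hQ : Mx Ω κ Q) (hS : S5 K Q) (e4 : Δ.ncard = 4) (hΔ : Δ ⊆ Fx Ω Q)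
    (hx : x ∈ Fx Ω Q) (hx' : x ∉ Δ) (hw : w ∈ St G Δ) (e : w • x ∈ Fx Ω Q) : w ∈ K Δ := by
  have nd : ∀ u ∈ St G Δ, u • x ∉ Δ := fun u hu k => hx' ((St_le_Ss hu x).1 k)
  have c := orbit_card (K Δ ⊓ Nm Q) x
  have eq : K Δ ⊓ Nm Q ⊓ St G ({x} : Set Ω) = Q := le_antisymm
    (fun u hu => hQ.semi h hΔ e4 hu.1.1 hx hx' (hu.2 x rfl))
    (le_inf (le_inf (hQ.le h hΔ e4) le_normalizer) fun u hu v hv => hv ▸ hx u hu)
  rw [eq, hS.idx Δ hΔ e4, Nat.mul_left_inj Nat.card_pos.ne'] at c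
  have : {v : Ω | ∃ u ∈ K Δ ⊓ Nm Q, u • x = v} = Fx Ω Q \ Δ := Set.eq_of_subset_of_ncard_le
    (by rintro _ ⟨u, hu, rfl⟩; exact ⟨inv_Nm u hu.2 x hx, nd u ((h.fk Δ e4).le hu.1)⟩)
    (by rw [c, Set.ncard_sdiff hΔ, e4])
  obtain ⟨u, hu, k⟩ := this.ge ⟨e, nd w hw⟩
  have uK : u ∈ K Δ := hu.1
  exact (mul_mem_cancel_left (inv_mem uK)).1 (gs_sep h hQ hS e4 hΔ hx hx'
    (mul_mem (inv_mem ((h.fk Δ e4).le uK)) hw) (by rw [mul_smul, ← k, inv_smul_smul]))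

theorem gs_orb (h : QB κ K P) (hQ : Mx Ω κ Q) (hS : S5 K Q) (e4 : Δ.ncard = 4) (hΔ : Δ ⊆ Fx Ω Q)
    (hx : x ∈ Fx Ω Q) (hw : w ∈ St G Δ) (hg : g ∈ Ss G Δ) (gx : g • x = x) (g3 : g ^ 3 ^ i = 1)
    (e : w⁻¹ * g * w * g⁻¹ ∈ K Δ) : ∃ r ∈ K Δ, g • r • w • x = r • w • x := by
  have : Fact (Nat.Prime 3) := ⟨Nat.prime_three⟩
  obtain ⟨S⟩ : Nonempty (Sylow 3 (K Δ)) := inferInstance
  have le : (S : Subgroup (K Δ)) ≤ MulAction.stabilizer (K Δ) (w • x) := fun s hs => by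
    obtain ⟨k, hk⟩ := S.isPGroup' ⟨s, hs⟩
    have hk' : (s : G) ^ 3 ^ k = 1 := congrArg (fun t : S => ((t : K Δ) : G)) hk
    have m : w⁻¹ * s * w⁻¹⁻¹ ∈ Q := hQ.odd h (hS.card.imp_right Or.inr) hΔ e4
      ((h.fk Δ e4).nrm _ (inv_mem hw) _ s.2) (Odd.of_dvd_nat (Odd.pow (by decide))
        (orderOf_dvd_of_pow_eq_one (show _ ^ 3 ^ k = _ by rw [conj_pow, hk', mul_one, mul_inv_cancel])))
    have := hx _ m
    rwa [inv_inv, mul_smul, mul_smul, inv_smul_eq_iff] at this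
  have nd : ¬ 3 ∣ (MulAction.orbit (K Δ) (w • x)).ncard := fun k =>
    S.not_dvd_index ((MulAction.index_stabilizer (K Δ) (w • x) ▸ k).trans (index_dvd_of_le le))
  have m := fx_mod (Γ := MulAction.orbit (K Δ) (w • x)) (g := g) (i := i) Nat.prime_three (by
    rintro _ ⟨r, rfl⟩
    refine ⟨⟨_, mul_mem (h.toQK.ss e4 g hg _ r.2) ((h.fk Δ e4).nrm w hw _ e)⟩, ?_⟩
    show (g * r * g⁻¹ * (w * (w⁻¹ * g * w * g⁻¹) * w⁻¹)) • w • x = g • (r : G) • w • x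
    rw [← mul_smul, show g * r * g⁻¹ * (w * (w⁻¹ * g * w * g⁻¹) * w⁻¹) * w = g * (r * (w * g⁻¹)) by group,
      mul_smul, mul_smul, mul_smul, inv_smul_eq_iff.2 gx.symm]) fun v _ => by rw [g3, one_smul]
  obtain ⟨_, ⟨r, rfl⟩, k⟩ : (MulAction.orbit (K Δ) (w • x) ∩ fx Ω g).Nonempty :=
    Set.nonempty_of_ncard_ne_zero fun z => nd (Nat.modEq_zero_iff_dvd.1 (z ▸ m).symm)
  exact ⟨r, r.2, k⟩

theorem S5.gs (h : QB κ K P) (hQ : Mx Ω κ Q) (hS : S5 K Q) (hd : D4 a b c d)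
    (hΔ : ({a, b, c, d} : Set Ω) ⊆ Fx Ω Q) (hx : x ∈ Fx Ω Q) (hx' : x ∉ ({a, b, c, d} : Set Ω)) :
    ∃ g ∈ Nm Q, ∃ z ∈ St G ({a, b, c, d} : Set Ω), ∃ x' o₁ o₂ : Ω, g • a = b ∧ g • b = c ∧ g • c = a ∧
      (∃ i : ℕ, g ^ 3 ^ i = 1) ∧ g ^ 3 ∈ Q ∧ Fx Ω Q ∩ fx Ω g = {d, x, x'} ∧ x' ≠ d ∧ x' ≠ x ∧
      o₁ ∉ Fx Ω Q ∧ o₂ ∉ Fx Ω Q ∧ o₁ ≠ o₂ ∧ g • o₁ = o₁ ∧ g • o₂ = o₂ ∧
      (∃ r ∈ K {a, b, c, d}, o₁ = r • z • x) ∧ z⁻¹ * g * z * g⁻¹ ∈ K {a, b, c, d} := by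
  have e4 := hd.ncard
  have fk := h.fk _ e4
  obtain ⟨z, hz, zK, ⟨q, -, ⟨j, rfl⟩, zq⟩, -, hc⟩ := fk.minN nr_St St_le_Ss (h.toQK.ss e4) le_rfl fk.le fk.ne_top
    fun w hw h2 => h.le _ e4 ((h.memP _ e4 w).2 ⟨hw, h2⟩)
  have z2 : z * z ∉ K {a, b, c, d} := fun k => zK (by
    rwa [pow_succ, pow_mul, pow_two, mul_mem_cancel_left (pow_mem k j)] at zq)
  have s1 : ({b, a, c, d} : Set Ω) = {a, b, c, d} := Set.insert_comm _ _ _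
  have s2 : ({a, c, b, d} : Set Ω) = {a, b, c, d} := congrArg _ (Set.insert_comm _ _ _)
  obtain ⟨α, hα, a1, a2, a3, a4, a5⟩ := tr5_iff.1 hS.tr5 a b c d x b a c d x hd
    ⟨hd.ab.symm, hd.bc, hd.bd, hd.ac, hd.ad, hd.cd⟩ hΔ (s1 ▸ hΔ) hx hx hx' (s1 ▸ hx')
  obtain ⟨β, hβ, b1, b2, b3, b4, b5⟩ := tr5_iff.1 hS.tr5 a b c d x a c b d x hd
    ⟨hd.ac, hd.ab, hd.ad, hd.bc.symm, hd.cd, hd.bd⟩ hΔ (s2 ▸ hΔ) hx hx hx' (s2 ▸ hx')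
  have αT : α ∈ Ss G ({a, b, c, d} : Set Ω) := mem_Ss_of (by rintro _ (rfl | rfl | rfl | rfl) <;> simp [*])
  have βT : β ∈ Ss G ({a, b, c, d} : Set Ω) := mem_Ss_of (by rintro _ (rfl | rfl | rfl | rfl) <;> simp [*])
  have iv : ∀ {σ : G} {u v : Ω}, σ • u = v → σ⁻¹ • v = u := fun e => inv_smul_eq_iff.2 e.symm
  have hγ := hc β βT α αT
  obtain ⟨γ, eγ⟩ : ∃ γ, γ = β * α * β⁻¹ * α⁻¹ := ⟨_, rfl⟩
  rw [← eγ] at hγ
  have γN : γ ∈ Nm Q := eγ ▸ mul_mem (mul_mem (mul_mem hβ hα) (inv_mem hβ)) (inv_mem hα)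
  have c1 : γ • a = b := by rw [eγ, mul_smul, mul_smul, mul_smul, iv a2, iv b3, a3, b3]
  have c2 : γ • b = c := by rw [eγ, mul_smul, mul_smul, mul_smul, iv a1, iv b1, a1, b2]
  have c3 : γ • c = a := by rw [eγ, mul_smul, mul_smul, mul_smul, iv a3, iv b2, a2, b1]
  have c4 : γ • d = d := by rw [eγ, mul_smul, mul_smul, mul_smul, iv a4, iv b4, a4, b4]
  have c5 : γ • x = x := by rw [eγ, mul_smul, mul_smul, mul_smul, iv a5, iv b5, a5, b5]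
  have cube : ∀ g ∈ Nm Q, g • a = b → g • b = c → g • c = a → g • d = d → g • x = x → g ^ 3 ∈ Q :=
    fun g hg e1 e2 e3 e5 e6 => gs_five hS e4 hΔ hx hx' (pow_mem hg 3)
      (by rintro _ (rfl | rfl | rfl | rfl) <;> simp only [pow_three, mul_smul, e1, e2, e3, e5])
      (by simp only [pow_three, mul_smul, e6])
  obtain ⟨g, hg, ⟨i, gi⟩, gγ⟩ := p_lift Nat.prime_three (cube γ γN c1 c2 c3 c4 c5)
  have gN : g ∈ Nm Q := zpowers_le.2 γN hg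
  have ag : ∀ {u v : Ω}, v ∈ Fx Ω Q → γ • u = v → g • u = v := fun hv e => by
    rw [← inv_mul_cancel_right g γ, mul_smul, e, hv _ gγ]
  have g1 := ag (hΔ (by simp)) c1
  have g2 := ag (hΔ (by simp)) c2
  have g3 := ag (hΔ (by simp)) c3
  have g4 := ag (hΔ (by simp)) c4
  have g5 := ag hx c5
  have gT : g ∈ Ss G ({a, b, c, d} : Set Ω) := mem_Ss_of (by rintro _ (rfl | rfl | rfl | rfl) <;> simp [*])
  have dx : d ≠ x := fun e => hx' (by simp [e])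
  have sub : ({d, x} : Set Ω) ⊆ Fx Ω Q ∩ fx Ω g :=
    Set.insert_subset ⟨hΔ (by simp), g4⟩ (Set.singleton_subset_iff.2 ⟨hx, g5⟩)
  have n3 : (Fx Ω Q ∩ fx Ω g).ncard = 3 := by
    have m := fx_mod (Γ := Fx Ω Q) (i := i) Nat.prime_three (inv_Nm g gN) fun v _ => by rw [gi, one_smul]
    have l := Set.ncard_le_ncard sub
    have u : ¬ 5 ≤ (Fx Ω Q ∩ fx Ω g).ncard := fun k => hd.ab ((hΔ (by simp) g (hS.sharp g gN k)).symm.trans g1)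
    rw [Set.ncard_pair dx] at l
    have := hS.card
    unfold Nat.ModEq at m
    omega
  obtain ⟨x', m1, m2⟩ := Set.exists_mem_notMem_of_ncard_lt_ncard
    (show ({d, x} : Set Ω).ncard < (Fx Ω Q ∩ fx Ω g).ncard by rw [Set.ncard_pair dx, n3]; decide)
  simp only [Set.mem_insert_iff, Set.mem_singleton_iff, not_or] at m2
  have eS : Fx Ω Q ∩ fx Ω g = {d, x, x'} := (Set.eq_of_subset_of_ncard_le
    (Set.insert_subset (sub (by simp)) (Set.insert_subset (sub (by simp)) (Set.singleton_subset_iff.2 m1)))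
    (by rw [n3, Set.ncard_eq_three.2 ⟨d, x, x', dx, Ne.symm m2.1, Ne.symm m2.2, rfl⟩])).symm
  have wK := hQ.le h hΔ e4 gγ
  have k1 : z⁻¹ * g * z * g⁻¹ ∈ K {a, b, c, d} := by
    have := mul_mem (fk.nrm _ (inv_mem hz) _ (mul_mem wK hγ)) (inv_mem wK)
    convert this using 1
    group
  have k2 : (z * z)⁻¹ * g * (z * z) * g⁻¹ ∈ K {a, b, c, d} := by
    have := mul_mem (fk.nrm _ (inv_mem hz) _ k1) k1
    convert this using 1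
    group
  obtain ⟨r, hr, f1⟩ := gs_orb h hQ hS e4 hΔ hx hz gT g5 gi k1
  obtain ⟨r', hr', f2⟩ := gs_orb h hQ hS e4 hΔ hx (mul_mem hz hz) gT g5 gi k2
  refine ⟨g, gN, z, hz, x', r • z • x, r' • (z * z) • x, g1, g2, g3, ⟨i, gi⟩, cube g gN g1 g2 g3 g4 g5, eS, m2.1, m2.2,
    fun k => zK ?_, fun k => z2 ?_, fun k => zK ?_, f1, f2, ⟨r, hr, rfl⟩, k1⟩
  · exact (mul_mem_cancel_left hr).1 (gs_out h hQ hS e4 hΔ hx hx' (mul_mem (fk.le hr) hz) (by rwa [mul_smul]))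
  · exact (mul_mem_cancel_left hr').1
      (gs_out h hQ hS e4 hΔ hx hx' (mul_mem (fk.le hr') (mul_mem hz hz)) (by rwa [mul_smul]))
  · have n := fk.nrm _ (inv_mem hz) _ (mul_mem (inv_mem hr) hr')
    refine (mul_mem_cancel_left n).1 (gs_sep h hQ hS e4 hΔ hx hx' (mul_mem (fk.le n) hz) ?_)
    rw [show z⁻¹ * (r⁻¹ * r') * z⁻¹⁻¹ * z = z⁻¹ * (r⁻¹ * (r' * (z * z))) by group, mul_smul, mul_smul, mul_smul, ← k,
      inv_smul_smul, inv_smul_smul]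

end Cfsg.Agent.Q4
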