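import Cfsg.Agent.Q4.T12a

set_option autoImplicit false
set_option linter.unusedSectionVars false

namespace Cfsg.Agent.Q4

open Subgroup

variable {G : Type*} [Group G] [Finite G] {Ω : Type*} [Fintype Ω] [DecidableEq Ω] [MulAction G Ω]
variable {N N' U V E H T M A B L Q Q' R : Subgroup G} {Γ Δ Δ' S F : Set Ω} {g s t u w y z : G}
variable {x x' a b c d : Ω} {k l p q i n κ : ℕ}
variable {K P : Set Ω → Subgroup G}

theorem t12_abs {X : Type*} [Group X] {R : Subgroup X} {g : X} (g3 : g ^ 3 = 1)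
    (hn : ∀ r ∈ R, g * r * g⁻¹ ∈ R) (h8 : ∀ r ∈ R, r ^ 8 = 1) (hi : ∀ r ∈ R, r * r = 1 → g * r = r * g)
    (hu : ∀ r ∈ R, ∀ r' ∈ R, r ≠ 1 → r' ≠ 1 → g * r = r * g → g * r' = r' * g → r = r')
    {u v : X} (uR : u ∈ R) (vR : v ∈ R) (u1 : u ≠ 1) (v1 : v ≠ 1) (uc : ∀ r ∈ R, u * r = r * u)
    (vc : ∀ r ∈ R, v * r = r * v) : u = v := by
  have L : ∀ v ∈ R, (∀ r ∈ R, v * r = r * v) → v * v * (v * v) = 1 → v * v = 1 := by
    intro v vR vc v4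
    by_contra t1
    have tR : v * v ∈ R := mul_mem vR vR
    have tg := hi _ tR v4
    have wR : g * v * g⁻¹ * v⁻¹ ∈ R := mul_mem (hn v vR) (inv_mem vR)
    have c1 : Commute v (g * v * g⁻¹) := vc _ (hn v vR)
    have w2 : g * v * g⁻¹ * v⁻¹ * (g * v * g⁻¹ * v⁻¹) = 1 := by
      have e := c1.inv_left.eq
      calc g * v * g⁻¹ * v⁻¹ * (g * v * g⁻¹ * v⁻¹)
          = g * v * g⁻¹ * (v⁻¹ * (g * v * g⁻¹)) * v⁻¹ := by group
        _ = (g * (v * v)) * g⁻¹ * (v * v)⁻¹ := by rw [e]; group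
        _ = 1 := by rw [tg]; group
    by_cases w1 : g * v * g⁻¹ * v⁻¹ = 1
    · have gv : g * v = v * g := by
        calc g * v = g * v * g⁻¹ * v⁻¹ * (v * g) := by group
          _ = v * g := by rw [w1, one_mul]
      have v1 : v ≠ 1 := fun e => t1 (by rw [e, one_mul])
      have e := hu v vR _ tR v1 t1 gv tg
      exact v1 (by simpa using e)
    · have wg := hi _ wR w2
      generalize hw : g * v * g⁻¹ * v⁻¹ = w at w1 w2 wg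
      have e1 : g * v * g⁻¹ = w * v := by rw [← hw]; group
      have e0 : g * w * g⁻¹ = w := by rw [wg]; group
      have e2 : g * g * v * (g * g)⁻¹ = w * w * v := by
        calc g * g * v * (g * g)⁻¹ = g * (g * v * g⁻¹) * g⁻¹ := by group
          _ = g * (w * v) * g⁻¹ := by rw [e1]
          _ = (g * w * g⁻¹) * (g * v * g⁻¹) := by group
          _ = w * w * v := by rw [e0, e1, mul_assoc]
      rw [w2, one_mul] at e2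
      have e3 : g ^ 3 * v * (g ^ 3)⁻¹ = w * v := by
        calc g ^ 3 * v * (g ^ 3)⁻¹ = g * (g * g * v * (g * g)⁻¹) * g⁻¹ := by rw [pow_three]; group
          _ = w * v := by rw [e2, e1]
      rw [g3] at e3
      exact w1 (by simpa using e3.symm)
  have L2 : ∀ v ∈ R, (∀ r ∈ R, v * r = r * v) → g * v = v * g := by
    intro v vR vc
    refine hi v vR (L v vR vc (L _ (mul_mem vR vR) (fun r hr => ?_) ?_))
    · rw [mul_assoc, vc r hr, ← mul_assoc, vc r hr, mul_assoc]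
    · rw [← h8 v vR]; simp only [pow_succ, pow_zero, one_mul, mul_assoc]
  exact hu u uR v vR u1 v1 (L2 u uR uc) (L2 v vR vc)

theorem t12_five (h : QB κ K P) (hQ : Mx Ω κ Q) (hm : (Fx Ω Q).ncard = 12) (hΔ : Δ ⊆ Fx Ω Q) (e : Δ.ncard = 4)
    (hx : x ∈ Fx Ω Q) (hxΔ : x ∉ Δ) (hg : g ∈ Nm Q) (h1 : g ∈ St G Δ) (h2 : g • x = x) : g ∈ Q := by
  refine hQ.t12_sharp h hm hg ?_
  have : (insert x Δ).ncard = 5 := by rw [Set.ncard_insert_of_notMem hxΔ, e]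
  rw [← this]
  refine Set.ncard_le_ncard ?_
  rintro y (rfl | hy)
  · exact ⟨hx, h2⟩
  · exact ⟨hΔ hy, h1 y hy⟩

theorem t12_pt (hm : Γ.ncard = 12) (e : S.ncard < 12) : ∃ x ∈ Γ, x ∉ S :=
  Set.exists_mem_notMem_of_ncard_lt_ncard (hm ▸ e)

theorem t12_ct (h : QB κ K P) (hQ : Mx Ω κ Q) (hm : (Fx Ω Q).ncard = 12) (hΔ : Δ ⊆ Fx Ω Q) (e : Δ.ncard = 4)
    (ht : t ∈ P Δ) (hn : t ∈ Nm Q) (htQ : t ∉ Q) (h2 : t * t ∈ Q) (hg : g ∈ Nm Q) (hs : g ∈ Ss G Δ) :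
    g ∈ Ct Q t := by
  obtain ⟨x, hx, hxΔ⟩ := t12_pt (S := Δ) hm (by omega)
  have tr := hQ.ucov h hΔ e ht hn htQ h2 hx hxΔ
  obtain ⟨a, b, c, d, D, rfl⟩ := exists_D4 e
  have inj := MulAction.injective (β := Ω) g
  obtain ⟨v, hv, va, vb, vc, vd⟩ := tr4_iff.1 tr a b c d (g • a) (g • b) (g • c) (g • d) D
    ⟨inj.ne D.ab, inj.ne D.ac, inj.ne D.ad, inj.ne D.bc, inj.ne D.bd, inj.ne D.cd⟩ subset_rfl (by
      rintro y (rfl | rfl | rfl | rfl) <;> exact inv_Ss g hs _ (by simp))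
  have vN : v ∈ Nm Q := hv.1.1
  have w1 : v⁻¹ * g ∈ St G ({a, b, c, d} : Set Ω) := by
    rintro y (rfl | rfl | rfl | rfl) <;> rw [mul_smul, inv_smul_eq_iff] <;> symm <;> assumption
  have wN : v⁻¹ * g ∈ Nm Q := mul_mem (inv_mem vN) hg
  obtain ⟨r, hr, rx⟩ := hQ.t12_tr h hΔ e ht hn htQ h2 hm hx hxΔ (inv_Nm _ wN x hx)
    fun k => hxΔ ((St_le_Ss w1 x).1 k)
  have k : r⁻¹ * (v⁻¹ * g) ∈ Q := t12_five h hQ hm hΔ e hx hxΔ (mul_mem (inv_mem hr.2.1) wN)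
    (mul_mem (inv_mem ((h.fk _ e).le hr.1)) w1) (by rw [mul_smul, ← rx, inv_smul_smul])
  have k' : r⁻¹ * (v⁻¹ * g) ∈ Ct Q t := mem_Ct.2 ⟨le_normalizer k, by
    have := mul_mem k (nr_Nm t hn _ (inv_mem k))
    simpa only [mul_assoc] using this⟩
  exact ((Ct Q t).mul_mem_cancel_left ((Ct Q t).inv_mem hv.1)).1
    (((Ct Q t).mul_mem_cancel_left ((Ct Q t).inv_mem hr.2)).1 k')

theorem t12_inv (h : QB κ K P) (hQ : Mx Ω κ Q) (hm : (Fx Ω Q).ncard = 12) (hΔ : Δ ⊆ Fx Ω Q) (e : Δ.ncard = 4)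
    (ht : t ∈ K Δ) (hn : t ∈ Nm Q) (h2 : t * t ∈ Q) (hg : g ∈ Nm Q) (hs : g ∈ Ss G Δ) :
    g * t * g⁻¹ * t⁻¹ ∈ Q := by
  by_cases htQ : t ∈ Q
  · exact mul_mem (nr_Nm g hg t htQ) (inv_mem htQ)
  obtain ⟨s, hz, s2, es⟩ := two_lift (Γ := Fx Ω Q) (g := t) fun x hx => by rw [← mul_smul]; exact hx _ h2
  have sN : s ∈ Nm Q := zpowers_le.2 hn hz
  have st : t⁻¹ * s ∈ Q := hQ.ker h ▸ fun x hx => by rw [mul_smul, es x hx, inv_smul_smul]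
  have ss : s * s ∈ Q := hQ.ker h ▸ fun x hx => by
    rw [mul_smul, es x hx, es _ (inv_Nm t hn x hx), ← mul_smul]; exact hx _ h2
  have k := (t12_ct h hQ hm hΔ e ((h.memP _ e s).2 ⟨zpowers_le.2 ((h.fk _ e).le ht) hz, s2⟩) sN
    (fun k => htQ ((Q.mul_mem_cancel_right k).1 st |> (Q.inv_mem_iff).1)) ss hg hs).2
  have k1 := nr_Nm _ (mul_mem hg hn) _ (inv_mem st)
  have k2 := nr_Nm _ hn _ st
  have := mul_mem (mul_mem k1 k) k2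
  have c : s * t = t * s := by
    obtain ⟨j, rfl⟩ := mem_zpowers_iff.1 hz
    group
  have c' : s⁻¹ * t = t * s⁻¹ := (show Commute s t from c).inv_left.eq
  convert this using 1
  calc g * t * g⁻¹ * t⁻¹ = g * (t * (t * s⁻¹) * t⁻¹ * s) * g⁻¹ * t⁻¹ * (1 : G) := by
        rw [← c']
        calc g * t * g⁻¹ * t⁻¹ = g * (t * s⁻¹ * (t * t⁻¹) * s) * g⁻¹ * t⁻¹ := by group
          _ = _ := by group
    _ = g * t * (t⁻¹ * s)⁻¹ * (g * t)⁻¹ * (g * s * g⁻¹ * s⁻¹) * (t * (t⁻¹ * s) * t⁻¹) := by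
        rw [← c']; group

theorem t12_cen (h : QB κ K P) (hQ : Mx Ω κ Q) (hm : (Fx Ω Q).ncard = 12) (hΔ : Δ ⊆ Fx Ω Q) (e : Δ.ncard = 4)
    {u v : G} (hu : u ∈ K Δ ⊓ Nm Q) (hv : v ∈ K Δ ⊓ Nm Q) (uQ : u ∉ Q) (vQ : v ∉ Q)
    (uc : ∀ r ∈ K Δ ⊓ Nm Q, u * r * u⁻¹ * r⁻¹ ∈ Q) (vc : ∀ r ∈ K Δ ⊓ Nm Q, v * r * v⁻¹ * r⁻¹ ∈ Q) :
    u * v⁻¹ ∈ Q := by
  obtain ⟨x, hx, hxΔ⟩ := t12_pt (S := Δ) hm (by omega)
  obtain ⟨a, b, c, d, D, rfl⟩ := exists_D4 e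
  have perm : ({b, c, a, d} : Set Ω) = {a, b, c, d} := by ext; simp only [Set.mem_insert_iff]; tauto
  obtain ⟨g, gN, ga, gb, gc, gd, gx⟩ := tr5_iff.1 (hQ.t12_tr5 h hm) a b c d x b c a d x D
    ⟨D.bc, D.ab.symm, D.bd, D.ac.symm, D.cd, D.ad⟩ hΔ (perm ▸ hΔ) hx hx hxΔ (perm ▸ hxΔ)
  have gS : g ∈ Ss G ({a, b, c, d} : Set Ω) := mem_Ss_of (by
    rintro y (rfl | rfl | rfl | rfl) <;> simp [*])
  have g3 : g ^ 3 ∈ Q := t12_five h hQ hm hΔ e hx hxΔ (pow_mem gN 3) (by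
    rintro y (rfl | rfl | rfl | rfl) <;> simp only [pow_three, mul_smul, *]) (by
    simp only [pow_three, mul_smul, gx])
  have gQ : g ∉ Q := fun k => D.ab ((hΔ (show a ∈ _ by simp) g k).symm.trans ga)
  have md := fx_mod (Γ := Fx Ω Q) (g := g) (i := 1) Nat.prime_three (inv_Nm g gN)
    fun y hy => hy _ (by simpa using g3)
  have le3 : (Fx Ω Q ∩ fx Ω g).ncard ≤ 3 := by
    have : ¬ 5 ≤ (Fx Ω Q ∩ fx Ω g).ncard := fun k => gQ (hQ.t12_sharp h hm gN k)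
    rw [hm, Nat.ModEq] at md
    omega
  have St' : ∀ r ∈ K {a, b, c, d}, r • d = d := fun r hr => (h.fk _ e).le hr d (by simp)
  have pt : ∀ r ∈ K {a, b, c, d} ⊓ Nm Q, r ∉ Q → g * r * g⁻¹ * r⁻¹ ∈ Q →
      r • x ∈ Fx Ω Q ∩ fx Ω g ∧ d ≠ r • x ∧ x ≠ r • x := fun r hr rQ k => by
    have rx := inv_Nm r hr.2 x hx
    refine ⟨⟨rx, ?_⟩, fun k => hxΔ ?_, fun k => rQ (hQ.semi h hΔ e hr.1 hx hxΔ k.symm)⟩
    · have := rx _ k
      rw [mul_smul, inv_smul_smul, mul_smul, (inv_smul_eq_iff.2 gx.symm : g⁻¹ • x = x), mul_smul] at this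
      exact this
    · rw [← smul_left_cancel r ((St' r hr.1).trans k)]; simp
  have uq : ∀ r ∈ K {a, b, c, d} ⊓ Nm Q, ∀ r' ∈ K {a, b, c, d} ⊓ Nm Q, r ∉ Q → r' ∉ Q →
      g * r * g⁻¹ * r⁻¹ ∈ Q → g * r' * g⁻¹ * r'⁻¹ ∈ Q → r'⁻¹ * r ∈ Q := fun r hr r' hr' rQ rQ' k k' => by
    obtain ⟨p1, p2, p3⟩ := pt r hr rQ k
    obtain ⟨q1, q2, q3⟩ := pt r' hr' rQ' k'
    refine hQ.semi h hΔ e (mul_mem (inv_mem hr'.1) hr.1) hx hxΔ ?_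
    rw [mul_smul, inv_smul_eq_iff]
    by_contra ne
    have D' : D4 d x (r • x) (r' • x) := ⟨fun k => hxΔ (by simp [← k]), p2, q2, p3, q3, ne⟩
    have := Set.ncard_le_ncard (s := {d, x, r • x, r' • x}) (t := Fx Ω Q ∩ fx Ω g) (by
      rintro y (rfl | rfl | rfl | rfl)
      exacts [⟨hΔ (by simp), gd⟩, ⟨hx, gx⟩, p1, q1])
    rw [D'.ncard] at this
    omega
  have p8 : ∀ r ∈ K {a, b, c, d} ⊓ Nm Q, r ^ 8 ∈ Q := fun r hr => by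
    have QR : Q ≤ K {a, b, c, d} ⊓ Nm Q := le_inf (hQ.le h hΔ e) le_normalizer
    have := normal_subgroupOf_of_le_normalizer (inf_le_right : K {a, b, c, d} ⊓ Nm Q ≤ Nm Q)
    have k := (Q.subgroupOf (K {a, b, c, d} ⊓ Nm Q)).index_mul_card
    rw [hQ.t12_idx h hm hΔ e, Nat.card_congr (subgroupOfEquivOfLe QR).toEquiv] at k
    have k8 := Nat.eq_of_mul_eq_mul_right Nat.card_pos k
    have := (Q.subgroupOf (K {a, b, c, d} ⊓ Nm Q)).pow_index_mem ⟨r, hr⟩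
    rwa [k8] at this
  obtain ⟨X, _, φ, hφ⟩ : ∃ (X : Type _) (_ : Group X) (φ : Nm Q →* X), ∀ n : Nm Q, φ n = 1 ↔ (n : G) ∈ Q :=
    ⟨Nm Q ⧸ Q.subgroupOf (Nm Q), inferInstance, QuotientGroup.mk' _, fun n => QuotientGroup.eq_one_iff n⟩
  have cm : ∀ m n : Nm Q, φ m * φ n = φ n * φ m ↔ (m : G) * n * (m : G)⁻¹ * (n : G)⁻¹ ∈ Q := fun m n => by
    rw [← commutatorElement_eq_one_iff_mul_comm, ← map_commutatorElement, hφ]; rfl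
  have key := t12_abs (R := ((K {a, b, c, d}).subgroupOf (Nm Q)).map φ) (g := φ ⟨g, gN⟩)
    (by rw [← map_pow, hφ]; exact g3)
    (by
      rintro _ ⟨r, hr, rfl⟩
      exact ⟨⟨g, gN⟩ * r * ⟨g, gN⟩⁻¹, h.toQK.ss e g gS r hr, by simp only [map_mul, map_inv]⟩)
    (by
      rintro _ ⟨r, hr, rfl⟩
      rw [← map_pow, hφ]; exact p8 r ⟨hr, r.2⟩)
    (by
      rintro _ ⟨r, hr, rfl⟩ k
      rw [← map_mul, hφ] at k
      exact (cm _ _).2 (t12_inv h hQ hm hΔ e hr r.2 k gN gS))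
    (by
      rintro _ ⟨r, hr, rfl⟩ _ ⟨r', hr', rfl⟩ r1 r1' k k'
      have := uq r ⟨hr, r.2⟩ r' ⟨hr', r'.2⟩ (fun k => r1 ((hφ _).2 k)) (fun k => r1' ((hφ _).2 k))
        ((cm _ _).1 k) ((cm _ _).1 k')
      have := (hφ (r'⁻¹ * r)).2 this
      rw [map_mul, map_inv, inv_mul_eq_one] at this
      exact this.symm)
    (u := φ ⟨u, hu.2⟩) (v := φ ⟨v, hv.2⟩) ⟨_, hu.1, rfl⟩ ⟨_, hv.1, rfl⟩ (fun k => uQ ((hφ _).1 k))
    (fun k => vQ ((hφ _).1 k))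
    (by rintro _ ⟨r, hr, rfl⟩; exact (cm _ _).2 (uc r ⟨hr, r.2⟩))
    (by rintro _ ⟨r, hr, rfl⟩; exact (cm _ _).2 (vc r ⟨hr, r.2⟩))
  exact (hφ (⟨u, hu.2⟩ * ⟨v, hv.2⟩⁻¹)).1 (by rw [map_mul, map_inv, key, mul_inv_cancel])

theorem Mx.t12 (h : QB κ K P) (hQ : Mx Ω κ Q) (hm : (Fx Ω Q).ncard = 12) : S5 K Q := by
  refine ⟨.inr hm, hQ.t12_tr5 h hm, fun g hg k => hQ.t12_sharp h hm hg k, fun M hM hn e g hg _ => ?_,
    fun Δ hΔ e => by rw [hQ.t12_idx h hm hΔ e, hm],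
    fun Δ hΔ e u hu v hv uQ vQ uc vc => t12_cen h hQ hm hΔ e hu hv uQ vQ uc vc, fun _ Δ hΔ e => ?_⟩
  · have := simp12 (hQ.t12_tr5 h hm) inv_Nm hm (fun g hg k x hx => hx g (hQ.t12_sharp h hm hg k)) hM hn
      (by rwa [hQ.ker h])
    rw [hQ.ker h] at this
    exact sup_le_sup_left inf_le_right M (this hg)
  · by_contra c
    push Not at c
    obtain ⟨t, ht, tc, tQ, t2⟩ := hQ.grow h hΔ e (one_mem _) (one_mem _) ⟨0, by simp⟩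
    obtain ⟨x, hx, hxΔ⟩ := t12_pt (S := Δ) hm (by omega)
    have c5 : (insert x Δ).ncard = 5 := by rw [Set.ncard_insert_of_notMem hxΔ, e]
    obtain ⟨y, hy, hyΔ⟩ := t12_pt (S := insert x Δ) hm (by omega)
    have c6 : (insert y (insert x Δ)).ncard = 6 := by rw [Set.ncard_insert_of_notMem hyΔ, c5]
    obtain ⟨z, hz, hzΔ⟩ := t12_pt (S := insert y (insert x Δ)) hm (by omega)
    simp only [Set.mem_insert_iff, not_or] at hyΔ hzΔ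
    obtain ⟨r, hr, rx⟩ := hQ.t12_tr h hΔ e ht tc.1 tQ t2 hm hx hxΔ hy hyΔ.2
    obtain ⟨r', hr', rx'⟩ := hQ.t12_tr h hΔ e ht tc.1 tQ t2 hm hx hxΔ hz hzΔ.2.2
    have k := t12_cen h hQ hm hΔ e ⟨hr.1, hr.2.1⟩ ⟨hr'.1, hr'.2.1⟩
      (fun k => hyΔ.1 (rx.symm.trans (hx r k))) (fun k => hzΔ.2.1 (rx'.symm.trans (hx r' k)))
      (c r ⟨hr.1, hr.2.1⟩) (c r' ⟨hr'.1, hr'.2.1⟩)
    have := hz _ k
    rw [mul_smul, ← rx', inv_smul_smul, rx, rx'] at this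
    exact hzΔ.1 this.symm

theorem Mx.types (h : QB κ K P) (hQ : Mx Ω κ Q) : S5 K Q ∨ T8 Ω Q := by
  rcases hQ.sizes h with e | e | e | e
  exacts [.inl (hQ.t6 h e), .inr (hQ.t8 h e), absurd e (hQ.ne10 h), .inl (hQ.t12 h e)]

end Cfsg.Agent.Q4
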