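import Cfsg.Agent.Q4.GS
import Cfsg.Agent.Q4.T12
import Cfsg.Agent.Q4.KJor

set_option autoImplicit false
set_option linter.unusedSectionVars false

namespace Cfsg.Agent.Q4

open Subgroup

variable {G : Type*} [Group G] [Finite G] {Ω : Type*} [Fintype Ω] [DecidableEq Ω] [MulAction G Ω]
variable {N N' U V E H T M A B L Q Q' R : Subgroup G} {Γ Δ Δ' S F : Set Ω} {g s t u w y z : G}
variable {x x' a b c d : Ω} {k l p q i n κ : ℕ}
variable {K P : Set Ω → Subgroup G}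

theorem k0_ord (g u : G) : orderOf (g * u * g⁻¹) = orderOf u := by
  have := (MulAut.conj g).orderOf_eq u
  simpa using this

theorem k0_conj (h : QK κ K) (hΔ : Δ.ncard = 4) (hΔ' : Δ'.ncard = 4)
    (e : ∀ x, g • x ∈ Δ' ↔ x ∈ Δ) (hu : u ∈ K Δ) : g * u * g⁻¹ ∈ K Δ' := by
  rw [h.mem _ hΔ] at hu
  rw [h.mem _ hΔ']
  refine ⟨fun x hx => ?_, ?_⟩
  · have hx' : g⁻¹ • x ∈ Δ := (e _).1 (by rwa [smul_inv_smul])
    rw [mul_smul, mul_smul, hu.1 _ hx', smul_inv_smul]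
  · rw [conj_pow, hu.2, mul_one, mul_inv_cancel]

theorem k0_le (h : QK κ K) (hΔ : Δ.ncard = 4) (hΔ' : Δ'.ncard = 4) :
    {u : G | u ∈ K Δ ∧ Odd (orderOf u)}.ncard ≤ {u : G | u ∈ K Δ' ∧ Odd (orderOf u)}.ncard := by
  obtain ⟨g, -, e⟩ := h.tr.set4 (Set.subset_univ Δ) (Set.subset_univ Δ') hΔ hΔ'
  refine Set.ncard_le_ncard_of_injOn (fun u => g * u * g⁻¹) (fun u hu => ?_) (fun u _ v _ huv => ?_)
  · exact ⟨k0_conj h hΔ hΔ' e hu.1, by rw [k0_ord]; exact hu.2⟩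
  · simpa using huv

theorem k0_main (h : QB κ K P) (hΔ₀ : Δ'.ncard = 4) (hu₀ : u ∈ K Δ') (ho₀ : Odd (orderOf u)) :
    u = 1 := by
  by_contra hne
  obtain ⟨Q, hQ⟩ := h.exists_Mx
  have hty := hQ.types h
  have hm : (Fx Ω Q).ncard = 6 ∨ (Fx Ω Q).ncard = 8 ∨ (Fx Ω Q).ncard = 12 := by
    rcases hty with hS | hT
    · rcases hS.card with e | e
      · exact Or.inl e
      · exact Or.inr (Or.inr e)
    · exact Or.inr (Or.inl hT.card)
  obtain ⟨Δ, hΔ, e4⟩ := Set.exists_subset_card_eq (s := Fx Ω Q) (n := 4) (le_trans (by norm_num) hQ.five)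
  have hF := h.fk Δ e4
  have hnil := hF.nil
  obtain ⟨K₀, hK₀, mK₀⟩ := nil_odd hnil
  have hQK : Q ≤ K Δ := hQ.le h hΔ e4
  have hK₀Q : K₀ ≤ Q := fun v hv => hQ.odd h hm hΔ e4 ((mK₀ v).1 hv).1 ((mK₀ v).1 hv).2
  have hK₀ne : K₀ ≠ ⊥ := by
    obtain ⟨g, -, e⟩ := h.tr.set4 (Set.subset_univ Δ') (Set.subset_univ Δ) hΔ₀ e4
    intro hb
    have : g * u * g⁻¹ ∈ K₀ :=
      (mK₀ _).2 ⟨k0_conj h.toQK hΔ₀ e4 e hu₀, by rw [k0_ord]; exact ho₀⟩
    rw [hb, mem_bot] at this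
    apply hne
    simpa using this
  have nrN : Nr K₀ (Nm Q) := fun g hg v hv =>
    (mK₀ _).2 ⟨hQK (nr_Nm g hg v (hK₀Q hv)), by rw [k0_ord]; exact ((mK₀ v).1 hv).2⟩
  have nrH : Nr K₀ (St G Δ) := fun g hg v hv =>
    (mK₀ _).2 ⟨hF.nrm g hg v (hK₀ hv), by rw [k0_ord]; exact ((mK₀ v).1 hv).2⟩
  have nrK : Nr K₀ (K Δ) := fun g hg v hv => nrH g (hF.le hg) v hv
  obtain ⟨r, hr, r1, rc⟩ := nil_cen hnil hK₀ nrK hK₀ne
  set C : Subgroup G := Nm Q ⊓ centralizer (K₀ : Set G) with hC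
  have nrC : Nr C (Nm Q) := by
    intro g hg v hv
    refine mem_inf.2 ⟨(Nm Q).mul_mem ((Nm Q).mul_mem hg hv.1) ((Nm Q).inv_mem hg), ?_⟩
    refine (mem_centralizer_iff).2 fun m hm' => ?_
    have h1 : g⁻¹ * m * g⁻¹⁻¹ ∈ K₀ := nrN _ (inv_mem hg) m hm'
    have h2 := (mem_centralizer_iff.1 hv.2) _ h1
    calc m * (g * v * g⁻¹) = g * ((g⁻¹ * m * g⁻¹⁻¹) * v) * g⁻¹ := by group
      _ = g * (v * (g⁻¹ * m * g⁻¹⁻¹)) * g⁻¹ := by rw [h2]
      _ = g * v * g⁻¹ * m := by group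
  have hCQ : ¬ C ≤ Q := by
    obtain ⟨s, hsP, hsC, hsQ, -⟩ := hQ.grow h hΔ e4 (one_mem _) (one_mem _) ⟨0, by simp⟩
    intro hle
    refine hsQ (hle ⟨hsC.1, (mem_centralizer_iff).2 fun m hm' => ?_⟩)
    exact (nil_comm hnil (h.le Δ e4 hsP) (hK₀ hm') (((h.memP Δ e4 s).1 hsP).2)
      ((mK₀ m).1 hm').2).symm
  have hcr : ∀ g ∈ C ⊔ Q, g * r = r * g := by
    have : C ⊔ Q ≤ centralizer ({r} : Set G) := by
      refine sup_le (fun g hg => ?_) (fun g hg => ?_)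
      · rw [mem_centralizer_singleton_iff]
        exact ((mem_centralizer_iff.1 hg.2) r hr).symm
      · rw [mem_centralizer_singleton_iff]
        exact rc g (hQK hg)
    intro g hg
    exact mem_centralizer_singleton_iff.1 (this hg)
  rcases hty with hS | hT
  · obtain ⟨a, b, c, d, hd, rfl⟩ := exists_D4 e4
    obtain ⟨x, hx, hx'⟩ : ∃ x, x ∈ Fx Ω Q ∧ x ∉ ({a, b, c, d} : Set Ω) := by
      by_contra hc
      push Not at hc
      have := Set.ncard_le_ncard (show Fx Ω Q ⊆ {a, b, c, d} from hc)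
      have h5 := hQ.five
      omega
    obtain ⟨g, hg, z, hz, x', o₁, o₂, ga, -, -, ⟨i, gi⟩, g3, hfx, x'd, x'x, ho₁, -, -, go₁, -,
      ⟨r', hr', eo⟩, -⟩ := hS.gs h hQ hd hΔ hx hx'
    have hgr := hcr g (hS.nrm C inf_le_left nrC hCQ g hg g3)
    have hdΓ : d ∈ Fx Ω Q ∩ fx Ω g := by rw [hfx]; simp
    have hxΓ : x ∈ Fx Ω Q ∩ fx Ω g := by rw [hfx]; simp
    have hx'Γ : x' ∈ Fx Ω Q ∩ fx Ω g := by rw [hfx]; simp
    have hd' : D4 d x x' o₁ :=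
      ⟨fun e => hx' (by rw [← e]; simp), x'd.symm, fun e => ho₁ (e ▸ hdΓ.1), x'x.symm,
        fun e => ho₁ (e ▸ hxΓ.1), fun e => ho₁ (e ▸ hx'Γ.1)⟩
    have e4' := hd'.ncard
    have hsub : ∀ v ∈ K₀, v ∈ K {d, x, x', o₁} := by
      intro v hv
      rw [h.mem _ e4']
      refine ⟨?_, ((h.mem _ e4 v).1 (hK₀ hv)).2⟩
      intro o ho
      simp only [Set.mem_insert_iff, Set.mem_singleton_iff] at ho
      rcases ho with rfl | rfl | rfl | rfl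
      · exact hdΓ.1 v (hK₀Q hv)
      · exact hxΓ.1 v (hK₀Q hv)
      · exact hx'Γ.1 v (hK₀Q hv)
      · have hrz : r' * z ∈ St G ({a, b, c, d} : Set Ω) := mul_mem (hF.le hr') hz
        have h1 := nrH _ (inv_mem hrz) v hv
        have h2 := hx _ (hK₀Q h1)
        rw [inv_inv, mul_smul, mul_smul, inv_smul_eq_iff, mul_smul] at h2
        rw [eo]
        exact h2
    have heq : {v : G | v ∈ K {a, b, c, d} ∧ Odd (orderOf v)} =
        {v : G | v ∈ K {d, x, x', o₁} ∧ Odd (orderOf v)} := by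
      refine Set.eq_of_subset_of_ncard_le (fun v hv => ⟨hsub v ((mK₀ v).2 hv), hv.2⟩)
        (k0_le h.toQK e4' e4)
    have hgS : g ∈ St G ({d, x, x', o₁} : Set Ω) := by
      intro o ho
      simp only [Set.mem_insert_iff, Set.mem_singleton_iff] at ho
      rcases ho with rfl | rfl | rfl | rfl
      · exact hdΓ.2
      · exact hxΓ.2
      · exact hx'Γ.2
      · exact go₁
    have hgK : g ∈ K {d, x, x', o₁} := by
      by_contra hn
      exact r1 ((h.fk _ e4').fpf g hgS hn r (hsub r hr) hgr)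
    have hgo : Odd (orderOf g) :=
      Odd.of_dvd_nat (Odd.pow (by decide)) (orderOf_dvd_of_pow_eq_one gi)
    have hg0 : g ∈ {v : G | v ∈ K {a, b, c, d} ∧ Odd (orderOf v)} := by
      rw [heq]; exact ⟨hgK, hgo⟩
    have hgQ := hK₀Q ((mK₀ g).2 hg0)
    have := hΔ (show a ∈ ({a, b, c, d} : Set Ω) by simp) g hgQ
    exact hd.ab (this.symm.trans ga)
  · have e4' : (Fx Ω Q \ Δ).ncard = 4 := by
      rw [Set.ncard_diff hΔ, hT.card, e4]
    obtain ⟨a, b, c, d, hd, eD⟩ := exists_D4 e4'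
    have ha : a ∈ Fx Ω Q \ Δ := by rw [eD]; simp
    have hb : b ∈ Fx Ω Q \ Δ := by rw [eD]; simp
    have hc : c ∈ Fx Ω Q \ Δ := by rw [eD]; simp
    have hdd : d ∈ Fx Ω Q \ Δ := by rw [eD]; simp
    obtain ⟨y, hy, ya, -, -, yo⟩ := hT.alt.three ha.1 hb.1 hc.1 hd.ab hd.ac hd.bc
    have hyS : y ∈ St G Δ := fun o ho =>
      yo o (hΔ ho) (fun e => ha.2 (e ▸ ho)) (fun e => hb.2 (e ▸ ho)) (fun e => hc.2 (e ▸ ho))
    have hyr := hcr y (hT.simp C inf_le_left nrC hCQ hy)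
    have hyK : y ∈ K Δ := by
      by_contra hn
      exact r1 (hF.fpf y hyS hn r (hK₀ hr) hyr)
    have hyQ : y ∈ Q :=
      hQ.semi h hΔ e4 hyK hdd.1 hdd.2 (yo d hdd.1 hd.ad.symm hd.bd.symm hd.cd.symm)
    exact hd.ab ((ha.1 y hyQ).symm.trans ya)

theorem QB.kp (h : QB κ K P) : ∀ Δ : Set Ω, Δ.ncard = 4 → K Δ = P Δ := by
  intro Δ e
  refine le_antisymm (fun g hg => ?_) (h.le Δ e)
  refine (h.memP Δ e g).2 ⟨(h.fk Δ e).le hg, ?_⟩
  exact two_of_no_odd (fun v hv ho => k0_main h e hv ho) g hg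

end Cfsg.Agent.Q4
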