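import Cfsg.Agent.Q4.BlkP
import Cfsg.Agent.S0413
import Cfsg.Agent.S1664

set_option autoImplicit false
set_option linter.unusedSectionVars false

namespace Cfsg.Agent.Q4

open Subgroup

variable {G : Type*} [Group G] [Finite G] {Ω : Type*} [Fintype Ω] [DecidableEq Ω] [MulAction G Ω]
variable {N N' U V E H T M A B L Q Q' R : Subgroup G} {Γ Δ Δ' S F : Set Ω} {g s t u w y z : G}
variable {x x' a b c d : Ω} {k l p q i n κ : ℕ}
variable {K P : Set Ω → Subgroup G}

open scoped Pointwise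

/-- the blocks -/
def m23_B (P : Set Ω → Subgroup G) : Set (Finset Ω) :=
  {b | ∃ Δ : Set Ω, Δ.ncard = 4 ∧ (b : Set Ω) = Fx Ω (P Δ)}

theorem m23_steiner (h : QP P) (h7 : ∀ Δ : Set Ω, Δ.ncard = 4 → (Fx Ω (P Δ)).ncard = 7) :
    Cfsg.IsSteinerSystem 4 7 (m23_B P) := by
  refine ⟨fun b ⟨Δ, hΔ, e⟩ => by rw [← Set.ncard_coe_finset, e, h7 Δ hΔ], fun s hs => ?_⟩
  have h4 : (s : Set Ω).ncard = 4 := by rw [Set.ncard_coe_finset, hs]
  refine ⟨(Set.toFinite (Fx Ω (P s))).toFinset, ⟨⟨s, h4, Set.Finite.coe_toFinset _⟩, fun x hx =>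
    (Set.Finite.mem_toFinset _).2 (le_St.1 (BlkP.le h h4) hx)⟩, ?_⟩
  rintro b ⟨⟨Δ, hΔ, e⟩, l⟩
  rw [← Finset.coe_inj, Set.Finite.coe_toFinset, e, BlkP.eqP h hΔ h4 (e ▸ Finset.coe_subset.2 l)]

theorem m23_smul (h : QP P) (g : G) {b : Finset Ω} (hb : b ∈ m23_B P) :
    MulAction.toPermHom G Ω g • b ∈ m23_B P := by
  obtain ⟨Δ, hΔ, e⟩ := hb
  have hΔ' : ((g • ·) '' Δ).ncard = 4 := by rw [Set.ncard_image_of_injective _ (MulAction.injective g), hΔ]
  have k := h.conj (g := g) hΔ hΔ' fun x => (MulAction.injective g).mem_set_image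
  refine ⟨_, hΔ', Set.ext fun y => ?_⟩
  rw [Finset.mem_coe, ← Finset.inv_smul_mem_iff, ← map_inv, ← Finset.mem_coe, e]
  change g⁻¹ • y ∈ _ ↔ _
  refine ⟨fun hy v hv => ?_, fun hy u hu => ?_⟩
  · have := hy _ ((k (g⁻¹ * v * g)).2 (by simpa [mul_assoc] using hv))
    rw [mul_smul, mul_smul, smul_inv_smul] at this
    exact smul_left_cancel _ this
  · have := hy _ ((k u).1 hu)
    rw [mul_smul, mul_smul] at this
    exact eq_inv_smul_iff.2 this

theorem m23_mem (h : QP P) (g : G) : MulAction.toPermHom G Ω g ∈ Cfsg.setSystemAut (m23_B P) := by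
  rw [MulAction.mem_stabilizer_iff]
  ext b
  rw [Set.mem_smul_set_iff_inv_smul_mem, ← map_inv]
  refine ⟨fun hb => ?_, m23_smul h _⟩
  have := m23_smul h g hb
  rwa [map_inv, smul_inv_smul] at this

theorem m23_top {X : Type*} [Group X] (hX : Cfsg.IsM23 X) (R : Subgroup X) (hR : 212520 * 3 ≤ Nat.card R) :
    R = ⊤ := by
  have := hX.1
  have : Finite X := Nat.finite_of_card_ne_zero (by rw [hX.2]; norm_num)
  have e := R.index_mul_card
  rw [hX.2] at e
  have hi : R.index ≤ 16 := by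
    by_contra c
    have := Nat.mul_le_mul (show 17 ≤ R.index by omega) hR
    omega
  rcases R.normalCore_normal.eq_bot_or_eq_top with c | c
  · rw [normalCore_eq_ker, MonoidHom.ker_eq_bot_iff] at c
    have d := card_dvd_of_injective _ c
    rw [hX.2, Nat.card_perm] at d
    have := (Nat.Prime.dvd_factorial (by norm_num : Nat.Prime 23)).1 (Nat.dvd_trans (by norm_num) d)
    rw [← index_eq_card] at this
    omega
  · exact top_le_iff.1 (c ▸ R.normalCore_le)

theorem isoM23 (h : QP P) (hn : Fintype.card Ω = 23)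
    (h7 : ∀ Δ : Set Ω, Δ.ncard = 4 → (Fx Ω (P Δ)).ncard = 7)
    (h3 : ∀ Δ : Set Ω, Δ.ncard = 4 → 3 ≤ Nat.card (St G Δ)) : Cfsg.Spor.IsoM23 G := by
  have hA := (S0413.result hn (m23_steiner h h7)).1
  let φ : G →* Cfsg.setSystemAut (m23_B P) := (MulAction.toPermHom G Ω).codRestrict _ (m23_mem h)
  have inj : Function.Injective φ := (injective_iff_map_eq_one φ).2 fun g hg =>
    h.faith g fun x => congrArg (fun σ : Cfsg.setSystemAut (m23_B P) => (σ : Equiv.Perm Ω) x) hg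
  have hu : (Set.univ : Set Ω).ncard = 23 := by rw [Set.ncard_univ, Nat.card_eq_fintype_card, hn]
  obtain ⟨Δ, -, hΔ⟩ := Set.exists_subset_card_eq (s := (Set.univ : Set Ω)) (n := 4) (by omega)
  have c := h.tr.card (fun _ _ _ _ => trivial) (Set.subset_univ Δ) hΔ
  rw [hu, card_top, top_inf_eq] at c
  have top := m23_top hA φ.range (by
    rw [← Nat.card_congr (MonoidHom.ofInjective inj).toEquiv, c]
    exact Nat.mul_le_mul (by norm_num [Nat.descFactorial]) (h3 Δ hΔ))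
  obtain ⟨e⟩ := S1664.result hA
  exact ⟨(MulEquiv.ofBijective φ ⟨inj, MonoidHom.range_eq_top.1 top⟩).trans e⟩

end Cfsg.Agent.Q4
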