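import Cfsg.Agent.Q4.N5b

/-! Project Q4: the local types 6 and 12 are impossible (notes/Q4.md, section N5). -/

set_option autoImplicit false
set_option linter.unusedSectionVars false

namespace Cfsg.Agent.Q4

open Subgroup

variable {G : Type*} [Group G] [Finite G] {Ω : Type*} [Fintype Ω] [DecidableEq Ω] [MulAction G Ω]
variable {N N' U V E H T M A B L Q Q' R : Subgroup G} {Γ Δ Δ' S F : Set Ω} {g s t u w y z : G}
variable {x x' a b c d : Ω} {k l p q i n κ : ℕ}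
variable {K P : Set Ω → Subgroup G}

theorem n5_cos {v : G} (hZ : A ≤ B) (hB : Nat.card B = 16) (hA : Nat.card A = 4) (hu : u ∈ B) (hv : v ∈ B)
    (h1 : u ∉ A) (h2 : v ∉ A) (h3 : u * v ∉ A) (h4 : u⁻¹ * v ∉ A) (h5 : v⁻¹ * (u * v) ∉ A) :
    ∀ r ∈ B, ∃ z ∈ A, r = z ∨ r = u * z ∨ r = v * z ∨ r = u * v * z := by
  have hi : Nat.card (B ⧸ A.subgroupOf B) = 4 := by
    have := (A.subgroupOf B).card_mul_index
    rw [Nat.card_congr (subgroupOfEquivOfLe hZ).toEquiv, hA, hB] at this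
    show (A.subgroupOf B).index = 4
    omega
  let e : Fin 4 → B := ![1, ⟨u, hu⟩, ⟨v, hv⟩, ⟨u * v, mul_mem hu hv⟩]
  have key : ∀ i j : Fin 4, i < j → ((e i : B) : G)⁻¹ * (e j : B) ∉ A := by
    intro i j hij
    fin_cases i <;> fin_cases j <;> first | exact absurd hij (by decide) | simpa [e]
  have hf : Function.Injective fun i => (QuotientGroup.mk (e i) : B ⧸ A.subgroupOf B) := by
    intro i j hij
    rcases lt_trichotomy i j with h | h | h
    · exact absurd (QuotientGroup.eq.1 hij) (key i j h)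
    · exact h
    · exact absurd (QuotientGroup.eq.1 hij.symm) (key j i h)
  have hs := (hf.bijective_of_nat_card_le (by rw [hi, Nat.card_fin])).2
  intro r hr
  obtain ⟨i, hi⟩ := hs (QuotientGroup.mk ⟨r, hr⟩)
  have hz : ((e i : B) : G)⁻¹ * r ∈ A := (QuotientGroup.eq (s := A.subgroupOf B)).1 hi
  refine ⟨_, hz, ?_⟩
  fin_cases i <;> simp [e, mul_assoc]

theorem n5_sixteen (h : FK H B) (hy : y ∈ H) (hK : y ∉ B) (h3 : orderOf y = 3) (hB : Nat.card B = 16)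
    (hA : Nat.card ↥(B ⊓ centralizer (B : Set G)) = 4) {v : G} (hu : u ∈ B) (hv : v ∈ B) : u * v * u⁻¹ * v⁻¹ = 1 := by
  by_contra hc
  have cl := h.cls2 hy hK h3
  have hne : u * v ≠ v * u := fun e => hc (by rw [e]; group)
  have cen : ∀ {z}, z ∈ B ⊓ centralizer (B : Set G) → ∀ r ∈ B, r * z = z * r := fun hz r hr =>
    mem_centralizer_iff.1 hz.2 r hr
  have hcos := n5_cos inf_le_left hB hA hu hv (fun e => hne (cen e v hv).symm) (fun e => hne (cen e u hu))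
    (fun e => hne (mul_left_cancel (a := u) (by rw [cen e u hu, mul_assoc])))
    (fun e => hne (by
      have := cen e u hu
      rw [mul_inv_cancel_left, mul_assoc, eq_inv_mul_iff_mul_eq] at this
      exact this))
    (fun e => hne (by
      have := cen e v hv
      rw [mul_inv_cancel_left, mul_assoc, eq_inv_mul_iff_mul_eq, ← mul_assoc] at this
      exact (mul_right_cancel this).symm))
  have red : ∀ r ∈ B, ∀ s ∈ B, ∀ z ∈ B ⊓ centralizer (B : Set G), ∀ z' ∈ B ⊓ centralizer (B : Set G),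
      r * z * (s * z') * (r * z)⁻¹ * (s * z')⁻¹ = r * s * r⁻¹ * s⁻¹ := fun r hr s hs z hz z' hz' => by
    have e1 : z * (s * z') * z⁻¹ = s * z' := by rw [← cen hz _ (mul_mem hs hz'.1), mul_inv_cancel_right]
    have e2 : z' * r⁻¹ * z'⁻¹ = r⁻¹ := by rw [← cen hz' _ (inv_mem hr), mul_inv_cancel_right]
    calc _ = r * (z * (s * z') * z⁻¹) * r⁻¹ * (s * z')⁻¹ := by group
      _ = r * s * (z' * r⁻¹ * z'⁻¹) * s⁻¹ := by rw [e1]; group
      _ = _ := by rw [e2]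
  have c1 : u * (u * v * u⁻¹ * v⁻¹) * u⁻¹ = u * v * u⁻¹ * v⁻¹ := by rw [← cl u hu v hv u hu, mul_inv_cancel_right]
  have c2 : u * (u * v * u⁻¹ * v⁻¹)⁻¹ * u⁻¹ = (u * v * u⁻¹ * v⁻¹)⁻¹ := by rw [← conj_inv, c1]
  have all : ∀ r ∈ B, ∀ s ∈ B, r * s * r⁻¹ * s⁻¹ = 1 ∨ r * s * r⁻¹ * s⁻¹ = u * v * u⁻¹ * v⁻¹ ∨
      r * s * r⁻¹ * s⁻¹ = (u * v * u⁻¹ * v⁻¹)⁻¹ := by
    intro r hr s hs
    obtain ⟨z, hz, e⟩ := hcos r hr
    obtain ⟨z', hz', e'⟩ := hcos s hs
    have o := one_mem B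
    have huv := mul_mem hu hv
    rw [← one_mul z] at e
    rw [← one_mul z'] at e'
    simp only [← mul_assoc, mul_one] at e e'
    rcases e with rfl | rfl | rfl | rfl <;> rcases e' with rfl | rfl | rfl | rfl <;>
      rw [red _ (by assumption) _ (by assumption) z hz z' hz'] <;>
      first
      | (left; group; done)
      | (right; left; group; done)
      | (right; right; group; done)
      | (right; left; rw [← c1]; group; done)
      | (right; right; rw [← c2]; group)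
  have hcB : u * v * u⁻¹ * v⁻¹ ∈ B := mul_mem (mul_mem (mul_mem hu hv) (inv_mem hu)) (inv_mem hv)
  have e := all _ (h.nrm y hy u hu) _ (h.nrm y hy v hv)
  rw [show y * u * y⁻¹ * (y * v * y⁻¹) * (y * u * y⁻¹)⁻¹ * (y * v * y⁻¹)⁻¹ = y * (u * v * u⁻¹ * v⁻¹) * y⁻¹ by group] at e
  generalize u * v * u⁻¹ * v⁻¹ = c at *
  rcases e with e | e | e
  · exact hc (by simpa using e)
  · exact hc (h.fpf y hy hK c hcB (mul_inv_eq_iff_eq_mul.1 e))
  · refine hc (h.fpf (y * y) (mul_mem hy hy) (fun m => hK ?_) c hcB (mul_inv_eq_iff_eq_mul.1 ?_))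
    · have : y * y * (y * y) = y := by
        rw [show y * y * (y * y) = y ^ 3 * y by simp only [pow_succ, pow_zero, one_mul, mul_assoc], ← h3,
          pow_orderOf_eq_one, one_mul]
      exact this ▸ mul_mem m m
    · rw [show y * y * c * (y * y)⁻¹ = y * (y * c * y⁻¹) * y⁻¹ by group, e, ← conj_inv, e, inv_inv]

theorem S5.false (h : QB κ K P) (hk : ∀ Δ : Set Ω, Δ.ncard = 4 → K Δ = P Δ) (hQ : Mx Ω κ Q) (hS : S5 K Q) : False := by
  obtain ⟨Δ, hΔ, e⟩ := Set.exists_subset_card_eq (le_trans (by decide : 4 ≤ 5) hQ.five)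
  obtain ⟨x, hx, hx'⟩ : ∃ x ∈ Fx Ω Q, x ∉ Δ := by
    by_contra hn
    push Not at hn
    have := Set.ncard_le_ncard (show Fx Ω Q ⊆ Δ from hn)
    have := hQ.five
    omega
  have hle := hQ.le h hΔ e
  obtain ⟨y, hy, hyK, y3⟩ : ∃ y ∈ St G Δ, y ∉ K Δ ∧ orderOf y = 3 := by
    obtain ⟨a, b, c, d, hd, rfl⟩ := exists_D4 e
    obtain ⟨g, -, z, -, x', o, -, ga, -, -, ⟨i, gi⟩, g3, hf, n1, n2, ho, -, -, go, -⟩ := hS.gs h hQ hd hΔ hx hx'
    have t3 : g ^ 3 = 1 := Two.eq_one (((h.memP _ e _).1 (hk _ e ▸ hle g3)).2)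
      (Odd.of_dvd_nat (Odd.pow (by decide : Odd 3))
        ((orderOf_pow_dvd 3).trans (orderOf_dvd_of_pow_eq_one gi)))
    haveI : Fact (Nat.Prime 3) := ⟨Nat.prime_three⟩
    have o3 : orderOf g = 3 := orderOf_eq_prime t3 fun e1 => hd.ab (by rw [← ga, e1, one_smul])
    have m : ∀ w ∈ ({d, x, x'} : Set Ω), w ∈ Fx Ω Q ∩ fx Ω g := fun w hw => hf ▸ hw
    have d4 : D4 d x x' o := ⟨fun e1 => hx' (by simp [← e1]), n1.symm, fun e1 => ho (e1 ▸ (m d (by simp)).1),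
      n2.symm, fun e1 => ho (e1 ▸ hx), fun e1 => ho (e1 ▸ (m x' (by simp)).1)⟩
    refine (h.three hk o3 (d4.ncard ▸ Set.ncard_le_ncard ?_)).2.2 _ e
    rintro w (rfl | rfl | rfl | rfl)
    exacts [(m _ (by simp)).2, (m _ (by simp)).2, (m _ (by simp)).2, go]
  have fk := h.fk Δ e
  by_cases hc : ∀ u ∈ K Δ, (∀ r ∈ K Δ, r * u = u * r) → u ∈ Q
  · have cm : ∀ r ∈ K Δ, ∀ s ∈ K Δ, r * s * r⁻¹ * s⁻¹ ∈ Q := fun r hr s hs =>
      hc _ (mul_mem (mul_mem (mul_mem hr hs) (inv_mem hr)) (inv_mem hs)) fun w hw =>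
        (fk.cls2 hy hyK y3 r hr s hs w hw).symm
    have hn : K Δ ≤ Nm Q := Nr.le_Nm fun r hr s hs => by
      have := mul_mem (cm r hr s (hle hs)) hs
      rwa [inv_mul_cancel_right] at this
    rcases hS.card with h6 | h12
    · exact hS.norm6 h hk hQ hΔ e hn h6
    · obtain ⟨u, hu, v, hv, n⟩ := hS.nab h12 Δ hΔ e
      exact n (cm u hu.1 v hv.1)
  · push Not at hc
    obtain ⟨u, hu, hc, huQ⟩ := hc
    obtain ⟨q2, z4, qc⟩ := hS.cent h hk hQ hΔ e hu hc huQ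
    have hn : K Δ ≤ Nm Q := Nr.le_Nm fun r hr s hs => by
      rwa [mem_centralizer_iff.1 (qc hs) r hr, mul_inv_cancel_right]
    rcases hS.card with h6 | h12
    · exact hS.norm6 h hk hQ hΔ e hn h6
    · obtain ⟨u, hu, v, hv, n⟩ := hS.nab h12 Δ hΔ e
      have := hS.idx Δ hΔ e
      rw [inf_eq_left.2 hn, h12, q2] at this
      exact n (n5_sixteen fk hy hyK y3 this z4 hu.1 hv.1 ▸ one_mem Q)

end Cfsg.Agent.Q4
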