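import Cfsg.Agent.Q4.Setup
import Cfsg.Agent.Q4.BlkP
import Cfsg.Agent.Q4.KLift
import Cfsg.Agent.Q4.KNil
import Cfsg.Agent.Q4.KWitt

set_option autoImplicit false
set_option linter.unusedSectionVars false

namespace Cfsg.Agent.Q4

open Subgroup

variable {G : Type*} [Group G] [Finite G] {Ω : Type*} [Fintype Ω] [DecidableEq Ω] [MulAction G Ω]
variable {N N' U V E H T M A B L Q Q' R : Subgroup G} {Γ Δ Δ' S F : Set Ω} {g s t u w y z : G}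
variable {x x' a b c d : Ω} {k l p q i n κ : ℕ}
variable {K P : Set Ω → Subgroup G}

/-- centraliser of `t` modulo `Q` -/
def Ct (Q : Subgroup G) (t : G) : Subgroup G where
  carrier := {u | u ∈ Nm Q ∧ u * t * u⁻¹ * t⁻¹ ∈ Q}
  one_mem' := ⟨one_mem _, by simp⟩
  mul_mem' := fun {u v} hu hv => ⟨mul_mem hu.1 hv.1, by
    have := mul_mem (nr_Nm u hu.1 _ hv.2) hu.2
    convert this using 1; group⟩
  inv_mem' := fun {u} hu => ⟨inv_mem hu.1, by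
    have := nr_Nm u⁻¹ (inv_mem hu.1) _ (inv_mem hu.2)
    convert this using 1; group⟩

theorem mem_Ct : u ∈ Ct Q t ↔ u ∈ Nm Q ∧ u * t * u⁻¹ * t⁻¹ ∈ Q := Iff.rfl

theorem QB.exists_Mx (h : QB κ K P) : ∃ Q : Subgroup G, Mx Ω κ Q := by
  have h7 := h.toQK.seven
  have hne : ({Q : Subgroup G | (∀ u ∈ Q, u ^ κ = 1) ∧ 5 ≤ (Fx Ω Q).ncard}).Nonempty :=
    ⟨⊥, fun u hu => by rw [mem_bot.1 hu, one_pow], by
      rw [Fx_bot, Set.ncard_univ, Nat.card_eq_fintype_card]; omega⟩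
  obtain ⟨Q, hQ⟩ := (Set.toFinite _).exists_maximal hne
  exact ⟨Q, hQ.1.1, hQ.1.2, fun R hR h1 h2 => le_antisymm (hQ.2 ⟨h1, h2⟩ hR) hR⟩

/-- conjugate subgroup -/
def mxbCj (g : G) (Q : Subgroup G) : Subgroup G := Q.comap (MulAut.conj g⁻¹).toMonoidHom

theorem mxb_mem_cj : u ∈ mxbCj g Q ↔ g⁻¹ * u * g ∈ Q := by
  simp [mxbCj]

theorem mxb_fx_cj : g • x ∈ Fx Ω (mxbCj g Q) ↔ x ∈ Fx Ω Q := by
  constructor
  · intro hx u hu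
    have h1 : g * u * g⁻¹ ∈ mxbCj g Q := by
      rw [mxb_mem_cj]; convert hu using 1; group
    have h2 := hx _ h1
    rw [mul_smul, mul_smul, inv_smul_smul] at h2
    exact smul_left_cancel g h2
  · intro hx u hu
    have h2 := hx _ (mxb_mem_cj.1 hu)
    rw [mul_smul, mul_smul, inv_smul_eq_iff] at h2
    exact h2

theorem mxb_card_cj : (Fx Ω (mxbCj g Q)).ncard = (Fx Ω Q).ncard := by
  have : Fx Ω (mxbCj g Q) = (fun x => g • x) '' Fx Ω Q := by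
    ext x
    constructor
    · intro hx
      exact ⟨g⁻¹ • x, mxb_fx_cj.1 (by rwa [smul_inv_smul]), smul_inv_smul g x⟩
    · rintro ⟨x, hx, rfl⟩
      exact mxb_fx_cj.2 hx
  rw [this, Set.ncard_image_of_injective _ (MulAction.injective g)]

theorem Mx.conj (hQ : Mx Ω κ Q) (g : G) : ∃ Q' : Subgroup G, Mx Ω κ Q' ∧ (∀ u, u ∈ Q ↔ g * u * g⁻¹ ∈ Q') ∧
    (∀ u, u ∈ Nm Q ↔ g * u * g⁻¹ ∈ Nm Q') ∧ (∀ x, g • x ∈ Fx Ω Q' ↔ x ∈ Fx Ω Q) ∧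
    (Fx Ω Q').ncard = (Fx Ω Q).ncard := by
  have pw : ∀ (g : G) (Q : Subgroup G), (∀ u ∈ Q, u ^ κ = 1) → ∀ u ∈ mxbCj g Q, u ^ κ = 1 := by
    intro g Q hQ u hu
    have h1 := hQ _ (mxb_mem_cj.1 hu)
    have h2 : (g⁻¹ * u * g) ^ κ = g⁻¹ * u ^ κ * g := by
      have := conj_pow (a := g⁻¹) (b := u) (i := κ)
      rwa [inv_inv] at this
    rw [h2] at h1
    calc u ^ κ = g * (g⁻¹ * u ^ κ * g) * g⁻¹ := by group
      _ = 1 := by rw [h1]; group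
  have mem : ∀ u, u ∈ Q ↔ g * u * g⁻¹ ∈ mxbCj g Q := by
    intro u
    rw [mxb_mem_cj, show g⁻¹ * (g * u * g⁻¹) * g = u by group]
  refine ⟨mxbCj g Q, ⟨pw g Q hQ.pw, by rw [mxb_card_cj]; exact hQ.five, ?_⟩, mem, ?_,
    fun x => mxb_fx_cj, mxb_card_cj⟩
  · intro R hR h1 h2
    have h3 : mxbCj g⁻¹ R = Q := by
      refine hQ.max _ (fun u hu => ?_) (pw _ _ h1) (by rw [mxb_card_cj]; exact h2)
      rw [mxb_mem_cj, inv_inv]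
      exact hR ((mem u).1 hu)
    refine le_antisymm (fun u hu => ?_) hR
    rw [mxb_mem_cj, ← h3, mxb_mem_cj]
    convert hu using 1; group
  · intro u
    constructor
    · intro hu
      refine Subgroup.mem_normalizer_fintype (S := (mxbCj g Q : Set G)) (fun m hm => ?_)
      have h1 := nr_Nm u hu _ (mxb_mem_cj.1 hm)
      refine mxb_mem_cj.2 ?_
      convert h1 using 1; group
    · intro hu
      refine Subgroup.mem_normalizer_fintype (S := (Q : Set G)) (fun m hm => ?_)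
      have h1 := mxb_mem_cj.1 (nr_Nm _ hu _ ((mem m).1 hm))
      refine (show u * m * u⁻¹ ∈ Q from ?_)
      convert h1 using 1; group

theorem Mx.le (h : QB κ K P) (hQ : Mx Ω κ Q) (hΔ : Δ ⊆ Fx Ω Q) (e : Δ.ncard = 4) : Q ≤ K Δ :=
  fun u hu => (h.mem Δ e u).2 ⟨fun _ hx => hΔ hx u hu, hQ.pw u hu⟩

theorem mxb_eq (h : QB κ K P) (hQ : Mx Ω κ Q) (hΔ : Δ ⊆ Fx Ω Q) (e : Δ.ncard = 4)
    (hx : x ∈ Fx Ω Q) (hx' : x ∉ Δ) : K Δ ⊓ St G ({x} : Set Ω) = Q := by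
  refine hQ.max _ (le_inf (hQ.le h hΔ e) (le_St.2 (by simpa using hx)))
    (fun u hu => ((h.mem Δ e u).1 hu.1).2) ?_
  have h1 : insert x Δ ⊆ Fx Ω (K Δ ⊓ St G ({x} : Set Ω)) := by
    rintro v (rfl | hv) u hu
    · exact hu.2 _ rfl
    · exact ((h.mem Δ e u).1 hu.1).1 v hv
  have h2 := Set.ncard_le_ncard h1
  rw [Set.ncard_insert_of_notMem hx', e] at h2
  exact h2

theorem Mx.semi (h : QB κ K P) (hQ : Mx Ω κ Q) (hΔ : Δ ⊆ Fx Ω Q) (e : Δ.ncard = 4) (hu : u ∈ K Δ)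
    (hx : x ∈ Fx Ω Q) (hx' : x ∉ Δ) (hf : u • x = x) : u ∈ Q := by
  rw [← mxb_eq h hQ hΔ e hx hx']
  refine ⟨hu, fun v hv => ?_⟩
  rw [Set.mem_singleton_iff.1 hv, hf]

theorem Mx.eq (h : QB κ K P) (hQ : Mx Ω κ Q) (hQ' : Mx Ω κ Q') (hΔ : Δ ⊆ Fx Ω Q) (hΔ' : Δ ⊆ Fx Ω Q')
    (e : Δ.ncard = 4) (hx : x ∈ Fx Ω Q) (hx' : x ∈ Fx Ω Q') (hxΔ : x ∉ Δ) : Q = Q' := by
  rw [← mxb_eq h hQ hΔ e hx hxΔ, mxb_eq h hQ' hΔ' e hx' hxΔ]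

theorem mxb_pick (h5 : 5 ≤ S.ncard) : ∃ Δ ⊆ S, Δ.ncard = 4 ∧ ∃ x ∈ S, x ∉ Δ := by
  obtain ⟨Δ, hΔ, e⟩ := Set.exists_subset_card_eq (s := S) (n := 4) (by omega)
  refine ⟨Δ, hΔ, e, ?_⟩
  by_contra hc
  push Not at hc
  have := Set.ncard_le_ncard (show S ⊆ Δ from hc)
  omega

theorem Mx.two (h : QB κ K P) (hQ : Mx Ω κ Q) (h2 : Two g) (h5 : 5 ≤ (Fx Ω Q ∩ fx Ω g).ncard) : g ∈ Q := by
  obtain ⟨Δ, hΔ, e, x, hx, hx'⟩ := mxb_pick h5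
  have h1 : g ∈ P Δ := (h.memP Δ e g).2 ⟨fun v hv => (hΔ hv).2, h2⟩
  exact hQ.semi h (fun v hv => (hΔ hv).1) e (h.le Δ e h1) hx.1 hx' hx.2

theorem Mx.grow (h : QB κ K P) (hQ : Mx Ω κ Q) (hΔ : Δ ⊆ Fx Ω Q) (e : Δ.ncard = 4) (ht : t ∈ Nm Q)
    (hs : t ∈ Ss G Δ) (h2 : Two t) : ∃ s ∈ P Δ, s ∈ Ct Q t ∧ s ∉ Q ∧ s * s ∈ Q := by
  have hP : ¬ P Δ ≤ Q := fun hc => by
    have h1 := Set.ncard_le_ncard (show Fx Ω Q ⊆ Δ from h.fx4 Δ e ▸ Fx_anti hc)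
    have := hQ.five
    omega
  have hP' : ∃ r ∈ P Δ, r ∈ Nm Q ∧ r ∉ Q :=
    nil_grow (h.fk Δ e).nil (hQ.le h hΔ e) (h.le Δ e)
      (fun g hg => nr_Nm g (h.toQP.ss e (St_le_Ss ((h.fk Δ e).le hg)))) hP
  obtain ⟨r, hr, hrN, hrQ⟩ := hP'
  have htR : t ∈ Nm (P Δ ⊓ Nm Q) := by
    refine Subgroup.mem_normalizer_fintype (S := ((P Δ ⊓ Nm Q : Subgroup G) : Set G)) (fun m hm => ?_)
    exact ⟨nr_Nm t (h.toQP.ss e hs) m hm.1,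
      (Nm Q).mul_mem ((Nm Q).mul_mem ht hm.2) ((Nm Q).inv_mem ht)⟩
  obtain ⟨s, hs1, hs2, hs3, hs4⟩ := two_fix (R := P Δ ⊓ Nm Q) (Q := Q)
    (fun u hu => h.toQP.two e u hu.1) inf_le_right (fun hc => hrQ (hc ⟨hr, hrN⟩)) ht htR h2
  exact ⟨s, hs1.1, ⟨hs1.2, hs4⟩, hs2, hs3⟩

theorem mxb_grow1 (h : QB κ K P) (hQ : Mx Ω κ Q) (hΔ : Δ ⊆ Fx Ω Q) (e : Δ.ncard = 4) :
    ∃ s ∈ P Δ, s ∈ Nm Q ∧ s ∉ Q := by
  obtain ⟨s, h1, h2, h3, -⟩ := hQ.grow h hΔ e (one_mem _) (one_mem _) ⟨0, one_pow _⟩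
  exact ⟨s, h1, h2.1, h3⟩

theorem Mx.ker (h : QB κ K P) (hQ : Mx Ω κ Q) : St G (Fx Ω Q) = Q := by
  refine le_antisymm (fun w hw => ?_) (le_St.2 subset_rfl)
  obtain ⟨Δ, hΔ, e, x, hx, hx'⟩ := mxb_pick hQ.five
  by_cases hK : w ∈ K Δ
  · exact hQ.semi h hΔ e hK hx hx' (hw x hx)
  exfalso
  have hwH : w ∈ St G Δ := St_anti hΔ hw
  have hwi : w⁻¹ • x = x := (St G (Fx Ω Q)).inv_mem hw x hx
  have h1 : K Δ ⊓ Nm Q ≤ Q := by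
    refine (h.fk Δ e).inj hwH hK inf_le_left (le_inf (hQ.le h hΔ e) le_normalizer) (fun r hr => ?_)
    refine hQ.semi h hΔ e (mul_mem (inv_mem hr.1) ((h.fk Δ e).nrm w hwH r hr.1)) hx hx' ?_
    rw [mul_smul, mul_smul, mul_smul, hwi, hw _ (inv_Nm r hr.2 x hx), inv_smul_smul]
  obtain ⟨s, h2, h3, h4⟩ := mxb_grow1 h hQ hΔ e
  exact h4 (h1 ⟨h.le Δ e h2, h3⟩)

theorem Mx.tr (h : QB κ K P) (hQ : Mx Ω κ Q) : Tr 4 (Nm Q) (Fx Ω Q) := by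
  refine gleason inv_Nm hQ.five (fun Δ hΔ e => ⟨P Δ ⊓ Nm Q, inf_le_right,
    fun u hu => h.toQP.two e u hu.1, ?_⟩)
  refine Set.Subset.antisymm (fun x hx => ?_) (fun x hx => ⟨hΔ hx, fun u hu => ?_⟩)
  · by_contra hx'
    obtain ⟨s, h2, h3, h4⟩ := mxb_grow1 h hQ hΔ e
    exact h4 (hQ.semi h hΔ e (h.le Δ e h2) hx.1 hx' (hx.2 s ⟨h2, h3⟩))
  · exact ((h.memP Δ e u).1 hu.1).1 x hx

theorem mxb_pow (n : ℕ) : Odd n → ∀ r : G, r ∉ Q → r ^ n ∈ Q →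
    ∃ p : ℕ, p.Prime ∧ Odd p ∧ ∃ i : ℕ, r ^ i ∉ Q ∧ (r ^ i) ^ p ∈ Q := by
  induction n using Nat.strong_induction_on with
  | _ n ih =>
    intro hn r hr hrn
    have h1 : n ≠ 1 := fun e => hr (by rwa [e, pow_one] at hrn)
    obtain ⟨p, hp, m, rfl⟩ := Nat.exists_prime_and_dvd h1
    have ho := Nat.odd_mul.1 hn
    by_cases hm : r ^ m ∈ Q
    · refine ih m ?_ ho.2 r hr hm
      have := hp.two_le
      have := ho.2.pos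
      nlinarith
    · exact ⟨p, hp, ho.1, m, hm, by rwa [← pow_mul, mul_comm]⟩

theorem Mx.odd (h : QB κ K P) (hQ : Mx Ω κ Q)
    (hm : (Fx Ω Q).ncard = 6 ∨ (Fx Ω Q).ncard = 8 ∨ (Fx Ω Q).ncard = 12) (hΔ : Δ ⊆ Fx Ω Q)
    (e : Δ.ncard = 4) (hu : u ∈ K Δ) (ho : Odd (orderOf u)) : u ∈ Q := by
  by_contra huQ
  obtain ⟨R, hR, hmem⟩ := nil_odd (h.fk Δ e).nil
  have hn : Nr R (K Δ) := fun g hg m hm => by
    refine (hmem _).2 ⟨mul_mem (mul_mem hg (hR hm)) (inv_mem hg), ?_⟩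
    have : orderOf (g * m * g⁻¹) = orderOf m := (MulAut.conj g).orderOf_eq m
    rw [this]
    exact ((hmem m).1 hm).2
  obtain ⟨r, hr, hrN, hrQ⟩ := nil_grow (h.fk Δ e).nil (hQ.le h hΔ e) hR hn
    (fun hc => huQ (hc ((hmem u).2 ⟨hu, ho⟩)))
  obtain ⟨p, hp, hpo, i, h1, h2⟩ := mxb_pow (Q := Q) _ ((hmem r).1 hr).2 r hrQ
    (by rw [pow_orderOf_eq_one]; exact one_mem _)
  have hK : r ^ i ∈ K Δ := pow_mem (hR hr) i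
  have h3 : p ∣ (Fx Ω Q \ fx Ω (r ^ i)).ncard :=
    mv_dvd (i := 1) hp (inv_Nm _ (pow_mem hrN i)) (fun x hx => by rw [pow_one]; exact hx _ h2)
  have h4 : Fx Ω Q \ fx Ω (r ^ i) = Fx Ω Q \ Δ := by
    ext x
    constructor
    · rintro ⟨hx, hx'⟩
      exact ⟨hx, fun hc => hx' ((h.fk Δ e).le hK x hc)⟩
    · rintro ⟨hx, hx'⟩
      exact ⟨hx, fun hc => h1 (hQ.semi h hΔ e hK hx hx' hc)⟩
  rw [h4, Set.ncard_sdiff hΔ, e] at h3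
  have h5 : p ∣ 2 ^ 3 := by
    rcases hm with hm | hm | hm <;> rw [hm] at h3
    · exact h3.trans (by norm_num)
    · exact h3.trans (by norm_num)
    · exact h3.trans (by norm_num)
  have h6 := (Nat.prime_dvd_prime_iff_eq hp Nat.prime_two).1 (hp.dvd_of_dvd_pow h5)
  rw [h6] at hpo
  exact absurd hpo (by decide)

end Cfsg.Agent.Q4
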