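import Cfsg.Agent.Q4.MxB

set_option autoImplicit false
set_option linter.unusedSectionVars false

namespace Cfsg.Agent.Q4

open Subgroup

variable {G : Type*} [Group G] [Finite G] {Ω : Type*} [Fintype Ω] [DecidableEq Ω] [MulAction G Ω]
variable {N N' U V E H T M A B L Q Q' R : Subgroup G} {Γ Δ Δ' S F : Set Ω} {g s t u w y z : G}
variable {x x' a b c d : Ω} {k l p q i n κ : ℕ}
variable {K P : Set Ω → Subgroup G}

theorem mxc_last (e : Δ.ncard = 4) (ha : a ∈ Δ) (hb : b ∈ Δ) (hc : c ∈ Δ) (hx : x ∈ Δ) (hx' : x' ∈ Δ)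
    (hd : D4 a b c x) (h1 : x' ≠ a) (h2 : x' ≠ b) (h3 : x' ≠ c) : x' = x := by
  have hs : ({a, b, c, x} : Set Ω) ⊆ Δ := by
    rintro v (rfl | rfl | rfl | rfl) <;> assumption
  have he := Set.eq_of_subset_of_ncard_le hs (by rw [e, hd.ncard]) (Set.toFinite _)
  rw [← he] at hx'
  rcases hx' with h | h | h | h
  · exact absurd h h1
  · exact absurd h h2
  · exact absurd h h3
  · exact h

theorem mxc_tr (hi : Inv N Δ)
    (hm : ∀ a ∈ Δ, ∀ b ∈ Δ, a ≠ b → ∃ g ∈ N, g • a = b ∧ ∀ v ∈ Δ, v ≠ a → v ≠ b → g • v = v) (k : ℕ) :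
    Tr k N Δ := by
  intro X Y hX hY hx hy
  have key : ∀ s : Finset (Fin k), ∃ g ∈ N, ∀ i ∈ s, g • X i = Y i := by
    intro s
    induction s using Finset.induction_on with
    | empty => exact ⟨1, one_mem _, fun i hi => absurd hi (Finset.notMem_empty i)⟩
    | insert j s hj ih =>
      obtain ⟨g, hg, h1⟩ := ih
      by_cases h2 : g • X j = Y j
      · refine ⟨g, hg, fun i hi => ?_⟩
        rcases Finset.mem_insert.1 hi with rfl | hi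
        · exact h2
        · exact h1 i hi
      · obtain ⟨g', hg', h3, h4⟩ := hm _ (hi g hg _ (hx j)) _ (hy j) h2
        refine ⟨g' * g, mul_mem hg' hg, fun i hi' => ?_⟩
        rcases Finset.mem_insert.1 hi' with rfl | hi'
        · rw [mul_smul, h3]
        · have hij : i ≠ j := fun h => hj (h ▸ hi')
          rw [mul_smul, h1 i hi']
          refine h4 _ (hy i) (fun h => hij (hX ?_)) (fun h => hij (hY h))
          rw [← h1 i hi'] at h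
          exact smul_left_cancel g h
  obtain ⟨g, hg, h1⟩ := key Finset.univ
  exact ⟨g, hg, fun i => h1 i (Finset.mem_univ i)⟩

theorem Mx.ufix (h : QB κ K P) (hQ : Mx Ω κ Q) (hΔ : Δ ⊆ Fx Ω Q) (e : Δ.ncard = 4) (ht : t ∈ P Δ) (hn : t ∈ Nm Q)
    (htQ : t ∉ Q) (h2 : t * t ∈ Q) : Fx Ω Q ∩ fx Ω t = Δ := by
  have _ := hn
  have _ := h2
  refine Set.Subset.antisymm (fun v hv => ?_) (fun v hv => ⟨hΔ hv, ((h.memP Δ e t).1 ht).1 v hv⟩)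
  by_contra hv'
  exact htQ (Mx.semi h hQ hΔ e (h.le Δ e ht) hv.1 hv' hv.2)

theorem Mx.uinv (h : QB κ K P) (hQ : Mx Ω κ Q) (hΔ : Δ ⊆ Fx Ω Q) (e : Δ.ncard = 4) (ht : t ∈ P Δ) (hn : t ∈ Nm Q)
    (htQ : t ∉ Q) (h2 : t * t ∈ Q) : Inv (Ct Q t) Δ := by
  intro u hu v hv
  rw [← Mx.ufix h hQ hΔ e ht hn htQ h2]
  refine ⟨inv_Nm u hu.1 v (hΔ hv), ?_⟩
  have h1 : t • v = v := ((h.memP Δ e t).1 ht).1 v hv
  have h3 := hΔ hv _ ((Ct Q t).inv_mem hu).2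
  have h4 : t⁻¹ • v = v := by rw [inv_smul_eq_iff, h1]
  rw [inv_inv, mul_smul, h4, mul_smul, mul_smul, inv_smul_eq_iff] at h3
  exact h3

theorem Mx.uker (h : QB κ K P) (hQ : Mx Ω κ Q) (hΔ : Δ ⊆ Fx Ω Q) (e : Δ.ncard = 4) (ht : t ∈ P Δ) (hn : t ∈ Nm Q)
    (htQ : t ∉ Q) (h2 : t * t ∈ Q) (hu : u ∈ Ct Q t) (hs : u ∈ St G Δ) : u ∈ K Δ := by
  have _ := h2
  by_contra hK
  have hB : Q ≤ K Δ ⊓ Ct Q u := fun r hr => ⟨Mx.le h hQ hΔ e hr, le_normalizer hr, by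
    have := mul_mem hr (nr_Nm u hu.1 _ (inv_mem hr))
    simpa only [mul_assoc] using this⟩
  have hA := FK.inj (h.fk Δ e) hs hK (A := K Δ ⊓ Ct Q u) inf_le_left hB (fun r hr => by
    have := ((Ct Q u).inv_mem hr.2).2
    simpa only [mul_assoc, inv_inv] using this)
  refine htQ (hA ⟨h.le Δ e ht, hn, ?_⟩)
  have := inv_mem hu.2
  convert this using 1
  group

theorem mxc_mv (h : QB κ K P) (hQ : Mx Ω κ Q) (hΔ : Δ ⊆ Fx Ω Q) (e : Δ.ncard = 4) (ht : t ∈ P Δ) (hn : t ∈ Nm Q)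
    (htQ : t ∉ Q) (h2 : t * t ∈ Q) (hx : x ∈ Fx Ω Q) (hx' : x ∉ Δ) :
    t • x ∈ Fx Ω Q ∧ t • x ∉ Δ ∧ t • x ≠ x ∧ t • t • x = x := by
  have hf := Mx.ufix h hQ hΔ e ht hn htQ h2
  have h1 : t • x ≠ x := fun h1 => hx' (hf ▸ ⟨hx, h1⟩)
  refine ⟨inv_Nm t hn x hx, fun h3 => h1 ?_, h1, by rw [← mul_smul]; exact hx _ h2⟩
  rw [← hf] at h3
  exact smul_left_cancel t h3.2

theorem Mx.ucov (h : QB κ K P) (hQ : Mx Ω κ Q) (hΔ : Δ ⊆ Fx Ω Q) (e : Δ.ncard = 4) (ht : t ∈ P Δ) (hn : t ∈ Nm Q)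
    (htQ : t ∉ Q) (h2 : t * t ∈ Q) (hx : x ∈ Fx Ω Q) (hx' : x ∉ Δ) :
    Tr 4 (Ct Q t ⊓ St G ({x} : Set Ω)) Δ := by
  have hi := Mx.uinv h hQ hΔ e ht hn htQ h2
  obtain ⟨m1, m2, m3, m4⟩ := mxc_mv h hQ hΔ e ht hn htQ h2 hx hx'
  have hst := ((h.memP Δ e t).1 ht).1
  refine mxc_tr (fun g hg => hi g (mem_inf.1 hg).1) (fun a ha b hb hab => ?_) 4
  have hs : ({a, b} : Set Ω) ⊆ Δ := by
    rintro v (rfl | rfl) <;> assumption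
  have hc : (Δ \ {a, b}).ncard = 2 := by rw [Set.ncard_sdiff hs, e, Set.ncard_pair hab]
  obtain ⟨c, d, hcd, he⟩ := Set.ncard_eq_two.1 hc
  have hc' : c ∈ Δ \ {a, b} := he ▸ Or.inl rfl
  have hd' : d ∈ Δ \ {a, b} := he ▸ Or.inr rfl
  have n1 : ∀ v ∈ Δ, x ≠ v := fun v hv h => hx' (h ▸ hv)
  have n2 : ∀ v ∈ Δ, t • x ≠ v := fun v hv h => m2 (h ▸ hv)
  have hD : D4 x (t • x) c d := ⟨m3.symm, n1 _ hc'.1, n1 _ hd'.1, n2 _ hc'.1, n2 _ hd'.1, hcd⟩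
  have hsub : ({x, t • x, c, d} : Set Ω) ⊆ Fx Ω Q := by
    rintro v (rfl | rfl | rfl | rfl)
    exacts [hx, m1, hΔ hc'.1, hΔ hd'.1]
  have hss : t ∈ Ss G ({x, t • x, c, d} : Set Ω) := mem_Ss_of (by
    rintro v (rfl | rfl | rfl | rfl)
    · exact Or.inr (Or.inl rfl)
    · exact Or.inl m4
    · exact Or.inr (Or.inr (Or.inl (hst _ hc'.1)))
    · exact Or.inr (Or.inr (Or.inr (hst _ hd'.1))))
  obtain ⟨s, s1, s2, s3, s4⟩ := Mx.grow h hQ hsub hD.ncard hn hss ((h.memP Δ e t).1 ht).2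
  have hf := Mx.ufix h hQ hsub hD.ncard s1 s2.1 s3 s4
  have sst := ((h.memP _ hD.ncard s).1 s1).1
  have sc : s • c = c := sst c (Or.inr (Or.inr (Or.inl rfl)))
  have sd : s • d = d := sst d (Or.inr (Or.inr (Or.inr rfl)))
  have ac : a ≠ c := fun h => hc'.2 (Or.inl h.symm)
  have ad : a ≠ d := fun h => hd'.2 (Or.inl h.symm)
  refine ⟨s, ⟨s2, fun v hv => by rw [hv]; exact sst x (Or.inl rfl)⟩, ?_, fun v hv h1 h3 => ?_⟩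
  · refine mxc_last e ha hc'.1 hd'.1 hb (hi s s2 a ha)
      ⟨ac, ad, hab, hcd, fun h => hc'.2 (Or.inr h), fun h => hd'.2 (Or.inr h)⟩ (fun h1 => ?_)
      (fun h1 => ac (smul_left_cancel s (h1.trans sc.symm))) (fun h1 => ad (smul_left_cancel s (h1.trans sd.symm)))
    have h3 : a ∈ ({x, t • x, c, d} : Set Ω) := hf ▸ ⟨hΔ ha, h1⟩
    rcases h3 with h3 | h3 | h3 | h3
    exacts [n1 a ha h3.symm, n2 a ha h3.symm, ac h3, ad h3]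
  · have h4 : v ∈ ({c, d} : Set Ω) := he ▸ ⟨hv, fun h => h.elim h1 h3⟩
    rcases h4 with rfl | rfl
    exacts [sc, sd]

theorem Mx.ucyc (h : QB κ K P) (hQ : Mx Ω κ Q) (hΔ : Δ ⊆ Fx Ω Q) (e : Δ.ncard = 4) (ht : t ∈ P Δ) (hn : t ∈ Nm Q)
    (htQ : t ∉ Q) (h2 : t * t ∈ Q) (hx : x ∈ Fx Ω Q) (hx' : x ∉ Δ) (ha : a ∈ Fx Ω Q) (ha' : a ∉ Δ) (h1 : a ≠ x)
    (h3 : a ≠ t • x) : ∃ s ∈ Ct Q t, s * s ∈ Q ∧ Fx Ω Q ∩ fx Ω s = {x, t • x, a, t • a} := by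
  obtain ⟨m1, -, m3, m4⟩ := mxc_mv h hQ hΔ e ht hn htQ h2 hx hx'
  obtain ⟨n1, -, n3, n4⟩ := mxc_mv h hQ hΔ e ht hn htQ h2 ha ha'
  have hD : D4 x (t • x) a (t • a) := ⟨m3.symm, h1.symm, fun h => h3 (by rw [h, n4]), h3.symm,
    fun h => h1 (smul_left_cancel t h).symm, n3.symm⟩
  have hsub : ({x, t • x, a, t • a} : Set Ω) ⊆ Fx Ω Q := by
    rintro v (rfl | rfl | rfl | rfl)
    exacts [hx, m1, ha, n1]
  have hss : t ∈ Ss G ({x, t • x, a, t • a} : Set Ω) := mem_Ss_of (by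
    rintro v (rfl | rfl | rfl | rfl)
    · exact Or.inr (Or.inl rfl)
    · exact Or.inl m4
    · exact Or.inr (Or.inr (Or.inr rfl))
    · exact Or.inr (Or.inr (Or.inl n4)))
  obtain ⟨s, s1, s2, s3, s4⟩ := Mx.grow h hQ hsub hD.ncard hn hss ((h.memP Δ e t).1 ht).2
  exact ⟨s, s2, s4, Mx.ufix h hQ hsub hD.ncard s1 s2.1 s3 s4⟩

theorem mxc_agree (e : Δ.ncard = 4) (ha : a ∈ Δ) (h1 : ∀ v ∈ Δ, s • v ∈ Δ ∧ s • v ≠ v ∧ s • s • v = v)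
    (h2 : ∀ v ∈ Δ, u • v ∈ Δ ∧ u • v ≠ v ∧ u • u • v = v) (h : s • a = u • a) : ∀ v ∈ Δ, s • v = u • v := by
  intro v hv
  by_cases c1 : v = a
  · rw [c1, h]
  by_cases c2 : v = s • a
  · rw [c2, (h1 a ha).2.2, h, (h2 a ha).2.2]
  refine mxc_last e ha (h1 a ha).1 hv (h2 v hv).1 (h1 v hv).1
    ⟨(h1 a ha).2.1.symm, Ne.symm c1, fun h3 => c2 ?_, Ne.symm c2, fun h3 => c1 ?_, (h2 v hv).2.1.symm⟩
    (fun h3 => c2 ?_) (fun h3 => c1 (smul_left_cancel s h3)) (h1 v hv).2.1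
  · rw [h, h3, (h2 v hv).2.2]
  · rw [h] at h3
    exact (smul_left_cancel u h3).symm
  · rw [← h3, (h1 v hv).2.2]

theorem Mx.sizes (h : QB κ K P) (hQ : Mx Ω κ Q) :
    (Fx Ω Q).ncard = 6 ∨ (Fx Ω Q).ncard = 8 ∨ (Fx Ω Q).ncard = 10 ∨ (Fx Ω Q).ncard = 12 := by
  have h5 := hQ.five
  obtain ⟨Δ, hΔ, e⟩ := Set.exists_subset_card_eq (s := Fx Ω Q) (n := 4) (by omega)
  obtain ⟨t, ht, hct, htQ, h2⟩ := Mx.grow h hQ hΔ e (one_mem _) (one_mem _) ⟨0, one_pow _⟩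
  have hn : t ∈ Nm Q := hct.1
  have hf := Mx.ufix h hQ hΔ e ht hn htQ h2
  have hi := Mx.uinv h hQ hΔ e ht hn htQ h2
  have hev := fx_mod (Γ := Fx Ω Q) (g := t) (i := 1) Nat.prime_two (inv_Nm t hn)
    (fun v hv => by rw [pow_one, pow_two]; exact hv _ h2)
  rw [hf, e] at hev
  obtain ⟨x, hx, hx'⟩ : ∃ x ∈ Fx Ω Q, x ∉ Δ := by
    by_contra hc
    have := Set.ncard_le_ncard (s := Fx Ω Q) (t := Δ) (fun v hv => by_contra fun h' => hc ⟨v, hv, h'⟩)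
    omega
  obtain ⟨-, m2, -, -⟩ := mxc_mv h hQ hΔ e ht hn htQ h2 hx hx'
  obtain ⟨a, b, c, d, hD, hΔe⟩ := exists_D4 e
  have ha : a ∈ Δ := hΔe ▸ Or.inl rfl
  let Fib : Ω → Set Ω := fun v => {o | o ∈ Fx Ω Q ∧ o ∉ Δ ∧ o ≠ x ∧ o ≠ t • x ∧
    ∃ s ∈ Ct Q t, s * s ∈ Q ∧ Fx Ω Q ∩ fx Ω s = {x, t • x, o, t • o} ∧ s • a = v}
  have act : ∀ o ∈ Fx Ω Q, o ∉ Δ → ∀ s ∈ Ct Q t, s * s ∈ Q → Fx Ω Q ∩ fx Ω s = {x, t • x, o, t • o} →
      ∀ v ∈ Δ, s • v ∈ Δ ∧ s • v ≠ v ∧ s • s • v = v := by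
    intro o ho ho' s s1 s2 s3 v hv
    refine ⟨hi s s1 v hv, fun h3 => ?_, by rw [← mul_smul]; exact hΔ hv _ s2⟩
    have h4 : v ∈ ({x, t • x, o, t • o} : Set Ω) := s3 ▸ ⟨hΔ hv, h3⟩
    rcases h4 with rfl | rfl | rfl | rfl
    exacts [hx' hv, m2 hv, ho' hv, (mxc_mv h hQ hΔ e ht hn htQ h2 ho ho').2.1 hv]
  have fib : ∀ v, (Fib v).ncard ≤ 2 := by
    intro v
    rcases (Fib v).eq_empty_or_nonempty with h0 | ⟨o, ho, ho', -, -, s, s1, s2, s3, s4⟩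
    · rw [h0, Set.ncard_empty]; omega
    refine le_trans (Set.ncard_le_ncard (t := {o, t • o}) ?_) ((Set.ncard_insert_le _ _).trans (by simp))
    rintro o' ⟨hp, hp', p1, p2, u, u1, u2, u3, u4⟩
    have ag := mxc_agree e ha (act o ho ho' s s1 s2 s3) (act o' hp hp' u u1 u2 u3) (s4.trans u4.symm)
    have hK : s⁻¹ * u ∈ K Δ := Mx.uker h hQ hΔ e ht hn htQ h2 (mul_mem (inv_mem s1) u1)
      (fun v hv => by rw [mul_smul, ← ag v hv, inv_smul_smul])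
    have sx : s • x = x := (s3.symm ▸ Or.inl rfl : x ∈ Fx Ω Q ∩ fx Ω s).2
    have ux : u • x = x := (u3.symm ▸ Or.inl rfl : x ∈ Fx Ω Q ∩ fx Ω u).2
    have uo : u • o' = o' := (u3.symm ▸ Or.inr (Or.inr (Or.inl rfl)) : o' ∈ Fx Ω Q ∩ fx Ω u).2
    have hq := Mx.semi h hQ hΔ e hK hx hx' (by rw [mul_smul, ux, inv_smul_eq_iff, sx])
    have h3 := hp _ hq
    rw [mul_smul, uo, inv_smul_eq_iff] at h3
    have h4 : o' ∈ ({x, t • x, o, t • o} : Set Ω) := s3 ▸ ⟨hp, h3.symm⟩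
    rcases h4 with h4 | h4 | h4
    exacts [absurd h4 p1, absurd h4 p2, h4]
  have cov : Fx Ω Q ⊆ (Δ ∪ {x, t • x}) ∪ (Fib b ∪ (Fib c ∪ Fib d)) := by
    intro o ho
    by_cases c1 : o ∈ Δ
    · exact Or.inl (Or.inl c1)
    by_cases c2 : o = x
    · exact Or.inl (Or.inr (Or.inl c2))
    by_cases c3 : o = t • x
    · exact Or.inl (Or.inr (Or.inr c3))
    obtain ⟨s, s1, s2, s3⟩ := Mx.ucyc h hQ hΔ e ht hn htQ h2 hx hx' ho c1 c2 c3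
    obtain ⟨r1, r2, -⟩ := act o ho c1 s s1 s2 s3 a ha
    rw [hΔe] at r1
    rcases r1 with r1 | r1 | r1 | r1
    · exact absurd r1 r2
    · exact Or.inr (Or.inl ⟨ho, c1, c2, c3, s, s1, s2, s3, r1⟩)
    · exact Or.inr (Or.inr (Or.inl ⟨ho, c1, c2, c3, s, s1, s2, s3, r1⟩))
    · exact Or.inr (Or.inr (Or.inr ⟨ho, c1, c2, c3, s, s1, s2, s3, r1⟩))
  have l1 := Set.ncard_le_ncard cov
  have l2 := Set.ncard_union_le (Δ ∪ {x, t • x}) (Fib b ∪ (Fib c ∪ Fib d))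
  have l3 := Set.ncard_union_le Δ {x, t • x}
  have l4 := Set.ncard_union_le (Fib b) (Fib c ∪ Fib d)
  have l5 := Set.ncard_union_le (Fib c) (Fib d)
  have l6 : ({x, t • x} : Set Ω).ncard ≤ 2 := (Set.ncard_insert_le _ _).trans (by simp)
  have := fib b
  have := fib c
  have := fib d
  unfold Nat.ModEq at hev
  omega

end Cfsg.Agent.Q4
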