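import Cfsg.Agent.Q4.N5a

set_option autoImplicit false
set_option linter.unusedSectionVars false

namespace Cfsg.Agent.Q4

open Subgroup

variable {G : Type*} [Group G] [Finite G] {Ω : Type*} [Fintype Ω] [DecidableEq Ω] [MulAction G Ω]
variable {N N' U V E H T M A B L Q Q' R : Subgroup G} {Γ Δ Δ' S F : Set Ω} {g s t u w y z : G}
variable {x x' a b c d : Ω} {k l p q i n κ : ℕ}
variable {K P : Set Ω → Subgroup G}

theorem n5b_two3 (h2 : Two g) (h3 : g ^ 3 ^ i = 1) : g = 1 :=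
  h2.eq_one ((by decide : Odd 3).pow.of_dvd_nat (orderOf_dvd_of_pow_eq_one h3))

/-- elements acting on `Q` like an element of `Q` -/
def n5bD (Q : Subgroup G) : Subgroup G where
  carrier := {g | ∃ q ∈ Q, ∀ r ∈ Q, g * r * g⁻¹ = q * r * q⁻¹}
  one_mem' := ⟨1, Q.one_mem, fun _ _ => rfl⟩
  mul_mem' := by
    rintro g g' ⟨q, hq, e⟩ ⟨q', hq', e'⟩
    refine ⟨q * q', Q.mul_mem hq hq', fun r hr => ?_⟩
    have := e (q' * r * q'⁻¹) (Q.mul_mem (Q.mul_mem hq' hr) (Q.inv_mem hq'))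
    calc g * g' * r * (g * g')⁻¹ = g * (g' * r * g'⁻¹) * g⁻¹ := by group
      _ = q * q' * r * (q * q')⁻¹ := by rw [e' r hr, this]; group
  inv_mem' := by
    rintro g ⟨q, hq, e⟩
    refine ⟨q⁻¹, Q.inv_mem hq, fun r hr => ?_⟩
    have := e (q⁻¹ * r * q) (Q.mul_mem (Q.mul_mem (Q.inv_mem hq) hr) hq)
    calc g⁻¹ * r * g⁻¹⁻¹ = g⁻¹ * (q * (q⁻¹ * r * q) * q⁻¹) * g := by group
      _ = q⁻¹ * r * q⁻¹⁻¹ := by rw [← this]; group

theorem n5b_cent (hQ : ∀ u ∈ Q, Two u) (g3 : g ^ 3 = 1) (hg : g ∈ n5bD Q) :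
    ∀ r ∈ Q, g * r = r * g := by
  obtain ⟨q, hq, e⟩ := hg
  obtain ⟨n, hn⟩ := hQ q hq
  have key : ∀ m : ℕ, ∀ r ∈ Q, g ^ m * r * (g ^ m)⁻¹ = q ^ m * r * (q ^ m)⁻¹ := by
    intro m
    induction m with
    | zero => simp
    | succ m ih =>
      intro r hr
      have := e _ (Q.mul_mem (Q.mul_mem (Q.pow_mem hq m) hr) (Q.inv_mem (Q.pow_mem hq m)))
      calc g ^ (m + 1) * r * (g ^ (m + 1))⁻¹ = g * (g ^ m * r * (g ^ m)⁻¹) * g⁻¹ := by group
        _ = _ := by rw [ih r hr, this]; group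
  intro r hr
  have h1 := key (2 ^ n * 2 ^ n) r hr
  have h2 : g ^ (2 ^ n * 2 ^ n) = g := by
    have : 2 ^ n * 2 ^ n ≡ 1 [MOD 3] := by
      rw [← mul_pow]; simpa using (by decide : 2 * 2 ≡ 1 [MOD 3]).pow n
    rw [← Nat.div_add_mod (2 ^ n * 2 ^ n) 3, this, pow_add, pow_mul, g3]; simp
  rw [h2, pow_mul, hn, one_pow] at h1
  rw [← mul_inv_eq_iff_eq_mul, h1]; group

theorem n5b_nm (e : s * g = g * s) : s ∈ Nm (zpowers g) :=
  centralizer_le_normalizer _ (mem_centralizer_iff.2 (by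
    rintro _ ⟨n, rfl⟩
    exact ((show Commute s g from e).zpow_right n).eq.symm))

theorem n5b_Fx : Fx Ω (zpowers g) = fx Ω g := by
  ext x
  refine ⟨fun h => h g (mem_zpowers g), fun h u hu => ?_⟩
  exact (zpowers_le.2 (show g ∈ MulAction.stabilizer G x from h)) hu

theorem n5b_le (hu : ∀ v ∈ A, v ∉ Q → v * u⁻¹ ∈ Q) (huA : u ∈ A) :
    Nat.card A ≤ 2 * Nat.card ↥(A ⊓ Q) := by
  have h1 : (A : Set G) ⊆ ((A ⊓ Q : Subgroup G) : Set G) ∪ (· * u) '' ((A ⊓ Q : Subgroup G) : Set G) := by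
    intro v hv
    by_cases e : v ∈ Q
    · exact Or.inl ⟨hv, e⟩
    · exact Or.inr ⟨v * u⁻¹, ⟨A.mul_mem hv (A.inv_mem huA), hu v hv e⟩, by simp⟩
  have h2 := (Set.ncard_le_ncard h1).trans (Set.ncard_union_le _ _)
  have h3 := Set.ncard_image_le (s := ((A ⊓ Q : Subgroup G) : Set G)) (f := (· * u))
  have h4 : Nat.card A = (A : Set G).ncard := rfl
  have h5 : Nat.card ↥(A ⊓ Q) = ((A ⊓ Q : Subgroup G) : Set G).ncard := rfl
  omega

theorem n5b_four (h1 : Nat.card A ≡ 1 [MOD 3]) (hu : u ∈ A) (hu1 : u ≠ 1) : 4 ≤ Nat.card A := by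
  have h2 : Nat.card A ≠ 1 := fun e => hu1 (mem_bot.1 (card_eq_one.1 e ▸ hu))
  have h3 : 0 < Nat.card A := Nat.card_pos
  unfold Nat.ModEq at h1
  omega

theorem S5.cent (h : QB κ K P) (hk : ∀ Δ : Set Ω, Δ.ncard = 4 → K Δ = P Δ) (hQ : Mx Ω κ Q) (hS : S5 K Q) (hΔ : Δ ⊆ Fx Ω Q) (e : Δ.ncard = 4)
    (hu : u ∈ K Δ) (hc : ∀ r ∈ K Δ, r * u = u * r) (huQ : u ∉ Q) :
    Nat.card Q = 2 ∧ Nat.card ↥(K Δ ⊓ centralizer (K Δ : Set G)) = 4 ∧ Q ≤ centralizer (K Δ : Set G) := by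
  obtain ⟨a, b, c, d, hd, rfl⟩ := exists_D4 e
  obtain ⟨x, hx, hx'⟩ : ∃ x ∈ Fx Ω Q, x ∉ ({a, b, c, d} : Set Ω) := by
    by_contra hne
    push Not at hne
    have := Set.ncard_le_ncard (show Fx Ω Q ⊆ {a, b, c, d} from hne)
    have := hQ.five
    omega
  obtain ⟨g, hg, z, -, x', o₁, o₂, ga, gb, gc, ⟨i, gi⟩, g3, hf, x'd, x'x, h1, h2, o12, go1, go2, -, -⟩ :=
    hS.gs h hQ hd hΔ hx hx'
  have hQK := hQ.le h hΔ e
  have fk := h.fk _ e
  have K2 : ∀ v ∈ K {a, b, c, d}, Two v := fun v hv => h.toQP.two e v (hk _ e ▸ hv)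
  have Q2 : ∀ v ∈ Q, Two v := fun v hv => K2 v (hQK hv)
  have g3' : g ^ 3 = 1 := n5b_two3 (i := i) (Q2 _ g3) (by rw [← pow_mul, mul_comm, pow_mul, gi, one_pow])
  have g1 : g ≠ 1 := by rintro rfl; exact hd.ab (by simpa using ga)
  have go : orderOf g = 3 := orderOf_eq_prime (hp := ⟨Nat.prime_three⟩) g3' g1
  have hdxx : ∀ v ∈ ({d, x, x'} : Set Ω), v ∈ Fx Ω Q ∧ v ∈ fx Ω g := fun v hv => by
    rw [← hf] at hv; exact hv
  have gd : g • d = d := (hdxx d (by simp)).2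
  have xd : x ≠ d := by rintro rfl; exact hx' (by simp)
  have hx'' : x' ∉ ({a, b, c, d} : Set Ω) := by
    have := (hdxx x' (by simp)).2
    rw [mem_fx] at this
    rintro (rfl | rfl | rfl | rfl)
    · exact hd.ab (this.symm.trans ga)
    · exact hd.bc (this.symm.trans gb)
    · exact hd.ac (this.symm.trans gc).symm
    · exact x'd rfl
  generalize hA : K {a, b, c, d} ⊓ centralizer (K {a, b, c, d} : Set G) = A
  have mA : ∀ v, v ∈ A ↔ v ∈ K {a, b, c, d} ∧ ∀ r ∈ K {a, b, c, d}, r * v = v * r := fun v => by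
    rw [← hA, mem_inf, mem_centralizer_iff]; rfl
  have uA : u ∈ A := (mA u).2 ⟨hu, hc⟩
  have AK : A ≤ K {a, b, c, d} := fun v hv => ((mA v).1 hv).1
  have AC : A ≤ centralizer (Q : Set G) := fun v hv =>
    mem_centralizer_iff.2 fun r hr => ((mA v).1 hv).2 r (hQK hr)
  have AN : A ≤ Nm Q := AC.trans (centralizer_le_normalizer _)
  have nA : ∀ w ∈ Ss G ({a, b, c, d} : Set Ω), ∀ v ∈ A, w * v * w⁻¹ ∈ A := fun w hw v hv => by
    have hs := h.toQK.ss e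
    refine (mA _).2 ⟨hs w hw v (AK hv), fun r hr => ?_⟩
    have := ((mA v).1 hv).2 _ (hs _ ((Ss G _).inv_mem hw) r hr)
    calc r * (w * v * w⁻¹) = w * (w⁻¹ * r * w⁻¹⁻¹ * v) * w⁻¹ := by group
      _ = _ := by rw [this]; group
  have co : ∀ v ∈ A, v ∉ Q → ∀ v' ∈ A, v' ∉ Q → v * v'⁻¹ ∈ Q := fun v hv e1 v' hv' e2 => by
    refine hS.cen _ hΔ e v ⟨AK hv, AN hv⟩ v' ⟨AK hv', AN hv'⟩ e1 e2 (fun r hr => ?_) fun r hr => ?_
    · rw [← ((mA v).1 hv).2 r hr.1]; simp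
    · rw [← ((mA v').1 hv').2 r hr.1]; simp
  -- `g` centralises `Q` and `A`
  have gQ : ∀ r ∈ Q, g * r = r * g := by
    refine n5b_cent Q2 g3' ((sup_le (fun w hw => ?_) fun w hw => ⟨w, hw, fun _ _ => rfl⟩ : _ ≤ n5bD Q)
      (hS.nrm (Nm Q ⊓ centralizer (Q : Set G)) inf_le_left (fun w hw m hm => ?_)
        (fun hle => huQ (hle ⟨AN uA, AC uA⟩)) g hg g3))
    · refine ⟨1, Q.one_mem, fun r hr => ?_⟩
      rw [← mem_centralizer_iff.1 hw.2 r hr]; simp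
    · refine ⟨(Nm Q).mul_mem ((Nm Q).mul_mem hw hm.1) ((Nm Q).inv_mem hw),
        mem_centralizer_iff.2 fun r hr => ?_⟩
      have := mem_centralizer_iff.1 hm.2 _ (nr_Nm _ ((Nm Q).inv_mem hw) r hr)
      calc r * (w * m * w⁻¹) = w * (w⁻¹ * r * w⁻¹⁻¹ * m) * w⁻¹ := by group
        _ = _ := by rw [this]; group
  have gS : g ∈ Ss G ({a, b, c, d} : Set Ω) := mem_Ss_of (by
    rintro v (rfl | rfl | rfl | rfl) <;> simp [ga, gb, gc, gd])
  have gA : ∀ v ∈ A, g * v = v * g := fun v hv => by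
    by_cases e1 : v ∈ Q
    · exact gQ v e1
    have e2 : g * v * g⁻¹ ∉ Q := fun e2 => e1 (by
      have := nr_Nm _ ((Nm Q).inv_mem hg) _ e2
      rwa [show g⁻¹ * (g * v * g⁻¹) * g⁻¹⁻¹ = v by group] at this)
    have e3 := co _ (nA g gS v hv) e2 v hv e1
    obtain ⟨r, hr⟩ : ∃ r, r = g * v * g⁻¹ * v⁻¹ := ⟨_, rfl⟩
    rw [← hr] at e3
    have e4 : g * v = r * v * g := by rw [hr]; group
    have e5 := gQ r e3
    have e7 : ∀ n : ℕ, g ^ n * v = r ^ n * v * g ^ n := fun n => by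
      induction n with
      | zero => simp
      | succ n ih =>
        calc g ^ (n + 1) * v = g ^ n * (g * v) := by group
          _ = g ^ n * r * v * g := by rw [e4]; group
          _ = r * (g ^ n * v) * g := by rw [((show Commute g r from e5).pow_left n).eq]; group
          _ = _ := by rw [ih]; group
    have e6 := e7 3
    rw [g3', one_mul, mul_one, right_eq_mul] at e6
    rw [e4, n5b_two3 (i := 1) (Q2 r e3) (by simpa using e6), one_mul]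
  have h5 : 5 ≤ (fx Ω g).ncard := by
    have hs : insert o₁ (insert o₂ (Fx Ω Q ∩ fx Ω g)) ⊆ fx Ω g := by
      rintro v (rfl | rfl | hv)
      exacts [go1, go2, hv.2]
    have := Set.ncard_le_ncard hs
    rwa [Set.ncard_insert_of_notMem (by rintro (e | e); exacts [o12 e, h1 e.1]),
      Set.ncard_insert_of_notMem (fun e => h2 e.1), hf,
      Set.ncard_eq_three.2 ⟨d, x, x', xd.symm, x'd.symm, x'x.symm, rfl⟩] at this
  obtain ⟨t4, sh, hy⟩ := h.three hk go (by omega)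
  obtain ⟨y, hy, yK, y3⟩ := hy _ e
  have A1 := fk.dvd hy yK AK (nA y (St_le_Ss hy))
  rw [y3] at A1
  have u1 : u ≠ 1 := by rintro rfl; exact huQ Q.one_mem
  have A4 := n5b_four A1 uA u1
  obtain ⟨hj, ev, -⟩ := odd4 t4 (n5b_Fx (Ω := Ω) (g := g) ▸ inv_Nm) (by omega)
    fun s hs s2 s4 => by rw [sh s hs s2 s4]; exact fun v _ => one_smul _ _
  obtain ⟨O, hO⟩ : ∃ O, O = fx Ω g \ Fx Ω Q := ⟨_, rfl⟩
  have cO : O.ncard + 3 = (fx Ω g).ncard := by
    have := Set.ncard_inter_add_ncard_sdiff_eq_ncard (fx Ω g) (Fx Ω Q)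
    rw [Set.inter_comm, hf, Set.ncard_eq_three.2 ⟨d, x, x', xd.symm, x'd.symm, x'x.symm, rfl⟩] at this
    rw [hO]; omega
  have iO : ∀ v ∈ Nm Q, g * v = v * g → ∀ o ∈ O, v • o ∈ O := fun v hv e1 o ho => by
    rw [hO] at ho ⊢
    refine ⟨comm_fx e1.symm ho.1, fun e2 => ho.2 ?_⟩
    simpa using inv_Nm _ ((Nm Q).inv_mem hv) _ e2
  have sQ : ∀ r ∈ Q, ∀ o ∈ O, r • o = o → r = 1 := fun r hr o ho e1 => by
    rw [hO] at ho
    refine sh r (n5b_nm (gQ r hr).symm) (Q2 r hr) ?_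
    have hs : insert o (Fx Ω Q ∩ fx Ω g) ⊆ fx Ω g ∩ fx Ω r := by
      rintro v (rfl | hv)
      exacts [⟨ho.1, e1⟩, ⟨hv.2, hv.1 r hr⟩]
    have := Set.ncard_le_ncard hs
    rwa [Set.ncard_insert_of_notMem (fun e => ho.2 e.1), hf,
      Set.ncard_eq_three.2 ⟨d, x, x', xd.symm, x'd.symm, x'x.symm, rfl⟩] at this
  have Ad : ∀ v ∈ A, v • d = d := fun v hv => fk.le (AK hv) d (by simp)
  by_cases hv : ∃ v ∈ A, v ≠ 1 ∧ ∃ o ∈ O, v • o = o
  · obtain ⟨v, hv, v1, o, ho, vo⟩ := hv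
    have c2 : (O ∩ fx Ω v).ncard ≤ 2 := by
      by_contra hlt
      refine v1 (sh v (n5b_nm (gA v hv).symm) (K2 v (AK hv)) ?_)
      have hs : insert d (O ∩ fx Ω v) ⊆ fx Ω g ∩ fx Ω v := by
        rintro w (rfl | hw)
        exacts [⟨gd, Ad v hv⟩, ⟨(hO ▸ hw.1).1, hw.2⟩]
      have := Set.ncard_le_ncard hs
      rw [Set.ncard_insert_of_notMem fun e => (hO ▸ e.1).2 (hΔ (by simp))] at this
      omega
    have c0 : 0 < (O ∩ fx Ω v).ncard := (Set.ncard_pos).2 ⟨o, ho, vo⟩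
    have c1 := semi_dvd (U := Q) (V := ⊥) (Γ := O ∩ fx Ω v)
      (fun r hr w hw => ⟨iO r (le_normalizer hr) (gQ r hr) w hw.1,
        comm_fx (mem_centralizer_iff.1 (AC hv) r hr) hw.2⟩)
      fun r hr w hw => ⟨fun e1 => mem_bot.2 (sQ r hr w hw.1 e1), fun e1 => by rw [mem_bot.1 e1, one_smul]⟩
    rw [bot_inf_eq, card_bot, one_mul] at c1
    have c3 := Nat.le_of_dvd c0 c1
    have c4 := n5b_le (fun w hw e1 => co w hw e1 u uA huQ) uA
    have c5 := card_le_of_le (inf_le_right : A ⊓ Q ≤ Q)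
    have c6 : A ⊓ Q = Q := eq_of_le_of_card_ge inf_le_right (by omega)
    exact ⟨by omega, by omega, fun r hr => (hA.ge (c6.ge hr).1).2⟩
  exfalso
  push Not at hv
  have c1 := semi_dvd (U := A) (V := ⊥) (Γ := O) (fun r hr w hw => iO r (AN hr) (gA r hr) w hw)
    fun r hr w hw => ⟨fun e1 => mem_bot.2 (by by_contra e2; exact hv r hr e2 w hw e1),
      fun e1 => by rw [mem_bot.1 e1, one_smul]⟩
  rw [bot_inf_eq, card_bot, one_mul] at c1
  have c2 := Nat.le_of_dvd (by omega) c1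
  have c3 : Nat.card A = 4 ∧ (O.ncard = 4 ∨ O.ncard = 8) := by
    unfold Nat.ModEq at A1
    have : Nat.card A = 4 ∨ Nat.card A = 7 := by omega
    rcases this with e1 | e1 <;> rw [e1] at c1 <;> omega
  let B : Subgroup G :=
    { carrier := {v | v ∈ A ∧ v * v = 1}
      one_mem' := ⟨A.one_mem, one_mul 1⟩
      mul_mem' := fun {v w} hv hw => ⟨A.mul_mem hv.1 hw.1, by
        calc v * w * (v * w) = v * (w * v) * w := by group
          _ = v * v * (w * w) := by rw [((mA v).1 hv.1).2 w (AK hw.1)]; group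
          _ = 1 := by rw [hv.2, hw.2, one_mul]⟩
      inv_mem' := fun {v} hv => ⟨A.inv_mem hv.1, by rw [← mul_inv_rev, hv.2, inv_one]⟩ }
  have BA : B ≤ A := fun v hv => hv.1
  have B1 := fk.dvd hy yK (BA.trans AK) fun r hr => ⟨nA y (St_le_Ss hy) r hr.1, by
    calc y * r * y⁻¹ * (y * r * y⁻¹) = y * (r * r) * y⁻¹ := by group
      _ = 1 := by rw [hr.2]; group⟩
  rw [y3] at B1
  obtain ⟨v, v2⟩ := exists_prime_orderOf_dvd_card' (G := A) 2 (by rw [c3.1]; norm_num)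
  have B4 := n5b_four (u := (v : G)) B1 ⟨v.2, by
    rw [← sq, ← Subgroup.coe_pow, ← v2, pow_orderOf_eq_one, Subgroup.coe_one]⟩ (by
    intro e1
    rw [show v = 1 from Subtype.ext e1, orderOf_one] at v2
    omega)
  have u2 : u * u = 1 := ((eq_of_le_of_card_ge BA (by omega)).ge uA).2
  have c4 := ev (by omega) u (n5b_nm (gA u uA).symm) fun v _ => by rw [← mul_smul, u2, one_smul]
  have c5 : fx Ω g \ fx Ω u = fx Ω g \ {d} := by
    ext v
    refine and_congr_right fun hv' => not_congr ⟨fun e1 => ?_, fun e1 => e1 ▸ Ad u uA⟩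
    by_cases e2 : v ∈ Fx Ω Q
    · rcases hf.le ⟨e2, hv'⟩ with rfl | rfl | rfl
      · rfl
      · exact (huQ (hQ.semi h hΔ e hu e2 hx' e1)).elim
      · exact (huQ (hQ.semi h hΔ e hu e2 hx'' e1)).elim
    · exact (hv u uA u1 v (hO ▸ ⟨hv', e2⟩) e1).elim
  rw [c5, Set.ncard_sdiff_singleton_of_mem (show d ∈ fx Ω g from gd)] at c4
  omega

end Cfsg.Agent.Q4
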