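import Cfsg.Agent.Q4.KTr
import Cfsg.Agent.Q4.KOdd
import Cfsg.Agent.Q4.KNil
import Cfsg.Agent.Q4.Frob
import Cfsg.Agent.S0035
import Cfsg.Agent.S0039

set_option autoImplicit false
set_option linter.unusedSectionVars false

namespace Cfsg.Agent.Q4

open Subgroup

variable {G : Type*} [Group G] [Finite G] {Ω : Type*} [Fintype Ω] [DecidableEq Ω] [MulAction G Ω]
variable {N N' U V E H T M A B L Q Q' R : Subgroup G} {Γ Δ Δ' S F : Set Ω} {g s t u w y z : G}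
variable {x x' a b c d : Ω} {k l p q i n κ : ℕ}
variable {K P : Set Ω → Subgroup G}

theorem setup_fk (hF : ∃ C : Subgroup H, Cfsg.IsFrobeniusComplement C) : ∃ M, FK H M := by
  obtain ⟨C, hC⟩ := hF
  obtain ⟨N, hN, hn, hc⟩ := Cfsg.Agent.S0035.result C hC
  have hb : N ≠ ⊥ := fun e => hC.2.1 (isComplement'_bot_left.1 (e ▸ hc))
  have hf := (Cfsg.Agent.S0039.result N C hc hb hC.1).1 hC
  refine ⟨N.map H.subtype, map_subtype_le N, ?_, ?_, ?_, ?_⟩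
  · rintro g hg _ ⟨m, hm, rfl⟩
    exact ⟨_, hn.conj_mem m hm ⟨g, hg⟩, rfl⟩
  · exact fun e => hb ((map_eq_bot_iff_of_injective N H.subtype_injective).1 e)
  · intro e
    have : N = ⊤ := top_unique fun v _ => by
      obtain ⟨m, hm, e'⟩ : (v : G) ∈ N.map H.subtype := by rw [e]; exact v.2
      rwa [← Subtype.ext e']
    exact hC.1 (isComplement'_top_left.1 (this ▸ hc))
  · rintro w hw hK _ ⟨m, hm, rfl⟩ e
    have h1 : (⟨w, hw⟩ : H) ∉ Cfsg.frobeniusKernel C := fun k => hK ⟨_, (hN ▸ k : (⟨w, hw⟩ : H) ∈ (N : Set H)), rfl⟩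
    simp only [Cfsg.frobeniusKernel, Set.mem_ofPred_eq, not_or, not_forall, not_not] at h1
    obtain ⟨w1, g, hg⟩ := h1
    rw [mem_pointwise_smul_iff_inv_smul_mem, ← map_inv, MulAut.smul_def, MulAut.conj_apply] at hg
    have e' : (⟨w, hw⟩ : H) * m = m * ⟨w, hw⟩ := Subtype.ext e
    have h2 : g⁻¹ * m * g⁻¹⁻¹ ∈ N ⊓ centralizer {g⁻¹ * ⟨w, hw⟩ * g⁻¹⁻¹} :=
      ⟨hn.conj_mem m hm _, mem_centralizer_singleton_iff.2 (by
        calc _ = g⁻¹ * (m * ⟨w, hw⟩) * g := by group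
          _ = _ := by rw [← e']; group)⟩
    rw [hf _ hg (fun k => w1 (conj_eq_one_iff.1 k)), mem_bot, conj_eq_one_iff] at h2
    rw [h2, map_one]

theorem setup_map (h : FK H M) (f : G ≃* G) : FK (H.map f.toMonoidHom) (M.map f.toMonoidHom) := by
  refine ⟨map_mono h.le, ?_, fun e => h.ne_bot ((map_eq_bot_iff_of_injective M f.injective).1 e),
    fun e => h.ne_top (map_injective f.injective e), ?_⟩
  · rintro _ ⟨g, hg, rfl⟩ _ ⟨m, hm, rfl⟩
    exact ⟨_, h.nrm g hg m hm, by simp⟩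
  · rintro _ ⟨w, hw, rfl⟩ hK _ ⟨m, hm, rfl⟩ e
    rw [h.fpf w hw (fun k => hK ⟨w, k, rfl⟩) m hm (f.injective (by simpa using e)), map_one]

theorem setup_st (h : Q0 G Ω) (e : Δ.ncard = 4) (e' : Δ'.ncard = 4) :
    ∃ f : G ≃* G, St G Δ' = (St G Δ).map f.toMonoidHom := by
  obtain ⟨g, -, hg⟩ := h.tr.set4 (Set.subset_univ Δ) (Set.subset_univ Δ') e e'
  refine ⟨MulAut.conj g, Subgroup.ext fun u => ?_⟩
  rw [mem_map_equiv, MulAut.conj_symm_apply, mem_St, mem_St]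
  refine ⟨fun k x hx => ?_, fun k x hx => ?_⟩
  · rw [mul_smul, mul_smul, k _ ((hg x).2 hx), inv_smul_smul]
  · have := k (g⁻¹ • x) ((hg _).1 (by rwa [smul_inv_smul]))
    rwa [mul_smul, mul_smul, smul_inv_smul, smul_left_cancel_iff] at this

theorem setup (h : Q0 G Ω) (hd : D4 a b c d)
    (hF : ∃ H : Subgroup ↥(MulAction.stabilizer G a ⊓ MulAction.stabilizer G b ⊓ MulAction.stabilizer G c ⊓
      MulAction.stabilizer G d), Cfsg.IsFrobeniusComplement H) :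
    ∃ (κ : ℕ) (K : Set Ω → Subgroup G), QK κ K := by
  obtain ⟨M, hM⟩ := setup_fk hF
  have e : MulAction.stabilizer G a ⊓ MulAction.stabilizer G b ⊓ MulAction.stabilizer G c ⊓
      MulAction.stabilizer G d = St G ({a, b, c, d} : Set Ω) := by
    ext u
    simp [and_assoc]
  rw [e] at hM
  have : ∀ Δ : Set Ω, ∃ M' : Subgroup G, Δ.ncard = 4 → FK (St G Δ) M' ∧ Nat.card M' = Nat.card M := fun Δ => by
    by_cases hΔ : Δ.ncard = 4
    · obtain ⟨f, hf⟩ := setup_st h hd.ncard hΔ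
      exact ⟨M.map f.toMonoidHom, fun _ => ⟨hf ▸ setup_map hM f, card_map_of_injective f.injective⟩⟩
    · exact ⟨⊥, fun k => absurd k hΔ⟩
  choose K hK using this
  refine ⟨Nat.card M, K, h, ⟨_, hd.ncard⟩, fun Δ k => (hK Δ k).1, fun Δ k => (hK Δ k).2, fun Δ k g => ?_⟩
  rw [← (hK Δ k).2]
  exact ⟨fun m => ⟨(hK Δ k).1.le m, ((hK Δ k).1.mem_iff ((hK Δ k).1.le m)).1 m⟩,
    fun m => ((hK Δ k).1.mem_iff m.1).2 m.2⟩

theorem setup_even (h2 : Two g) (h1 : g ≠ 1) : 2 ∣ orderOf g := by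
  obtain ⟨n, hn⟩ := h2
  obtain ⟨j, -, e⟩ := (Nat.dvd_prime_pow Nat.prime_two).1 (orderOf_dvd_of_pow_eq_one hn)
  rcases j with _ | j
  · exact absurd (orderOf_eq_one_iff.1 (by simpa using e)) h1
  · rw [e]
    exact dvd_pow_self 2 j.succ_ne_zero

theorem setup_inv (e : 2 ∣ Nat.card H) : ∃ t ∈ H, orderOf t = 2 := by
  obtain ⟨t, ht⟩ := exists_prime_orderOf_dvd_card' 2 e
  exact ⟨t, t.2, by rw [Subgroup.orderOf_coe, ht]⟩

theorem QK.seven (h : QK κ K) : 7 ≤ Fintype.card Ω := by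
  obtain ⟨Δ, hΔ⟩ := h.four
  have h1 := (h.fk Δ hΔ).six.trans (Nat.le_of_dvd (Nat.factorial_pos _) (faith_card h.faith Δ))
  by_contra hn
  have := Nat.factorial_le (show Fintype.card Ω - Δ.ncard ≤ 2 by omega)
  rw [Nat.factorial_two] at this
  omega

theorem QK.inv (h : QK κ K) (hΔ : Δ.ncard = 4) : ∃ t ∈ St G Δ, orderOf t = 2 := by
  by_contra hn
  have h4 : 4 ≤ (Set.univ : Set Ω).ncard := hΔ ▸ Set.ncard_le_ncard (Set.subset_univ Δ)
  have := (odd4 h.tr (fun _ _ _ _ => trivial) h4 fun g _ h2 hc => by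
    obtain ⟨Δ', hs, e⟩ := Set.exists_subset_card_eq hc
    obtain ⟨f, hf⟩ := setup_st h.toQ0 hΔ e
    by_cases h1 : g = 1
    · exact fun x _ => by rw [h1]; exact one_smul G x
    · refine absurd (setup_inv ((setup_even h2 h1).trans ?_)) hn
      rw [← card_map_of_injective (K := St G Δ) (f := f.toMonoidHom) f.injective, ← hf]
      exact orderOf_dvd_natCard _ fun x hx => (hs hx).2).2.2 Δ (Set.subset_univ Δ) hΔ
  have hb : St G (Set.univ : Set Ω) = ⊥ := eq_bot_iff.2 fun g hg => h.faith g fun x => hg x trivial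
  rw [top_inf_eq, top_inf_eq, hb, card_bot] at this
  have := (h.fk Δ hΔ).six
  omega

theorem QK.exists_P (h : QK κ K) (he : Even κ) :
    ∃ P : Set Ω → Subgroup G, QP P ∧ ∀ Δ : Set Ω, Δ.ncard = 4 → P Δ ≤ K Δ := by
  have : ∀ Δ : Set Ω, ∃ R : Subgroup G, Δ.ncard = 4 → R ≤ K Δ ∧ ∀ g, g ∈ R ↔ g ∈ K Δ ∧ Two g := fun Δ => by
    by_cases hΔ : Δ.ncard = 4
    · obtain ⟨R, hR⟩ := nil_two (h.fk Δ hΔ).nil
      exact ⟨R, fun _ => hR⟩
    · exact ⟨⊥, fun k => absurd k hΔ⟩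
  choose P hP using this
  refine ⟨P, ⟨h.toQ0, fun Δ k g => ?_, fun Δ k e => ?_⟩, fun Δ k => (hP Δ k).1⟩
  · rw [(hP Δ k).2]
    refine and_congr_left fun h2 => ⟨fun m => (h.fk Δ k).le m, fun m => ?_⟩
    by_contra hK
    have h1 := ((h.fk Δ k).dvd m hK le_rfl ((h.fk Δ k).nrm g m)).of_dvd
      (setup_even h2 fun e => hK (e ▸ one_mem _))
    rw [h.card Δ k, Nat.ModEq, Nat.even_iff.1 he] at h1
    omega
  · obtain ⟨t, ht, h2⟩ := setup_inv (H := K Δ) (by rw [h.card Δ k]; exact he.two_dvd)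
    have : t ∈ P Δ := ((hP Δ k).2 t).2 ⟨ht, 1, by rw [pow_one, ← h2, pow_orderOf_eq_one]⟩
    rw [e, mem_bot] at this
    rw [this, orderOf_one] at h2
    omega

theorem QK.ss (h : QK κ K) (hΔ : Δ.ncard = 4) : Nr (K Δ) (Ss G Δ) := fun g hg m hm => by
  obtain ⟨h1, h2⟩ := (h.mem Δ hΔ m).1 hm
  exact (h.mem Δ hΔ _).2 ⟨nr_St g hg m h1, by rw [conj_pow, h2, mul_one, mul_inv_cancel]⟩

end Cfsg.Agent.Q4
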