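import Cfsg.Agent.Q4.Setup
import Cfsg.Agent.Q4.Frob2
import Cfsg.Agent.Q4.KJor
import Cfsg.Agent.Q4.KWitt

set_option autoImplicit false
set_option linter.unusedSectionVars false

namespace Cfsg.Agent.Q4

open Subgroup

variable {G : Type*} [Group G] [Finite G] {Ω : Type*} [Fintype Ω] [DecidableEq Ω] [MulAction G Ω]
variable {N N' U V E H T M A B L Q Q' R : Subgroup G} {Γ Δ Δ' S F : Set Ω} {g s t u w y z : G}
variable {x x' a b c d : Ω} {k l p q i n κ : ℕ}
variable {K P : Set Ω → Subgroup G}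

theorem sma_zp (h2 : orderOf t = 2) (hs : s ∈ zpowers t) (h1 : s ≠ 1) : s = t := by
  have ht : t ^ 2 = 1 := by rw [← h2]; exact pow_orderOf_eq_one t
  obtain ⟨m, rfl⟩ := (mem_powers_iff_mem_zpowers.2 hs)
  rcases Nat.even_or_odd' m with ⟨j, rfl | rfl⟩
  · exact absurd (by simp only [pow_mul, ht, one_pow]) h1
  · simp only [pow_succ, pow_mul, ht, one_pow, one_mul]

theorem sma_notK (h : QK κ K) (ho : Odd κ) (hΔ : Δ.ncard = 4) (h2 : orderOf t = 2) : t ∉ K Δ := by
  intro e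
  have := orderOf_dvd_of_pow_eq_one ((h.mem Δ hΔ t).1 e).2
  rw [h2] at this
  exact (Nat.not_even_iff_odd.2 ho) (even_iff_two_dvd.2 this)

theorem QK.no4 (h : QK κ K) (ho : Odd κ) (hΔ : Δ.ncard = 4) : No4 (St G Δ) := by
  intro s hs t ht s2 t2 e
  refine sma_zp t2 ((h.fk Δ hΔ).cyc Nat.prime_two hs ht (sma_notK h ho hΔ s2) (sma_notK h ho hΔ t2)
    s2 t2 e) ?_
  rintro rfl
  simp at s2

theorem sma_ext (hf : ∀ g : G, (∀ x : Ω, g • x = x) → g = 1) (e : ∀ x : Ω, g • x = s • x) : g = s := by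
  have := hf (s⁻¹ * g) fun x => by rw [mul_smul, e, inv_smul_smul]
  rw [inv_mul_eq_one] at this
  exact this.symm

theorem sma_ord (hf : ∀ g : G, (∀ x : Ω, g • x = x) → g = 1) (e : ∀ x : Ω, g • g • x = x)
    (h1 : g • a ≠ a) : orderOf g = 2 := by
  refine orderOf_eq_prime (hf _ fun x => by rw [pow_two, mul_smul, e]) ?_
  rintro rfl
  exact h1 (one_smul _ _)

theorem QK.not_alt (h : QK κ K) (ho : Odd κ) (h8 : 8 ≤ Fintype.card Ω) :
    ¬ Alt (⊤ : Subgroup G) (Set.univ : Set Ω) := by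
  intro hA
  obtain ⟨Δ, hΔ⟩ := h.four
  have hc : 4 ≤ (Δᶜ).ncard := by
    have := Set.ncard_add_ncard_compl Δ
    rw [Nat.card_eq_fintype_card] at this
    omega
  obtain ⟨Δ', hs, h4⟩ := Set.exists_subset_card_eq hc
  obtain ⟨a, b, c, d, hd, rfl⟩ := exists_D4 h4
  have hd' : D4 a c b d := ⟨hd.ac, hd.ab, hd.ad, hd.bc.symm, hd.cd, hd.bd⟩
  obtain ⟨g, -, g1, g2, g3, g4, g5⟩ := hA.dbl hd (Set.subset_univ _)
  obtain ⟨s, -, s1, s2, s3, s4, s5⟩ := hA.dbl hd' (Set.subset_univ _)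
  have cs : ∀ x : Ω, x = a ∨ x = b ∨ x = c ∨ x = d ∨ (g • x = x ∧ s • x = x) := by
    intro x
    by_cases e : x ∈ ({a, b, c, d} : Set Ω)
    · simp only [Set.mem_insert_iff, Set.mem_singleton_iff] at e
      tauto
    · refine Or.inr (Or.inr (Or.inr (Or.inr ⟨g5 x trivial e, s5 x trivial ?_⟩)))
      simp only [Set.mem_insert_iff, Set.mem_singleton_iff] at e ⊢
      tauto
  have hΔ' : ∀ x ∈ Δ, g • x = x ∧ s • x = x := by
    intro x hx
    rcases cs x with rfl | rfl | rfl | rfl | e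
    · exact absurd hx (hs (by simp))
    · exact absurd hx (hs (by simp))
    · exact absurd hx (hs (by simp))
    · exact absurd hx (hs (by simp))
    · exact e
  have og : orderOf g = 2 := by
    refine sma_ord h.faith (a := a) (fun x => ?_) (by rw [g1]; exact hd.ab.symm)
    rcases cs x with rfl | rfl | rfl | rfl | e
    · rw [g1, g2]
    · rw [g2, g1]
    · rw [g3, g4]
    · rw [g4, g3]
    · rw [e.1, e.1]
  have os : orderOf s = 2 := by
    refine sma_ord h.faith (a := a) (fun x => ?_) (by rw [s1]; exact hd.ac.symm)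
    rcases cs x with rfl | rfl | rfl | rfl | e
    · rw [s1, s2]
    · rw [s3, s4]
    · rw [s2, s1]
    · rw [s4, s3]
    · rw [e.2, e.2]
  have hc : g * s = s * g := by
    refine sma_ext h.faith fun x => ?_
    rw [mul_smul, mul_smul]
    rcases cs x with rfl | rfl | rfl | rfl | e
    · rw [s1, g3, g1, s3]
    · rw [s3, g4, g2, s1]
    · rw [s2, g1, g3, s4]
    · rw [s4, g2, g4, s2]
    · rw [e.2, e.1, e.2]
  have := h.no4 ho hΔ g (fun x hx => (hΔ' x hx).1) s (fun x hx => (hΔ' x hx).2) og os hc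
  rw [this, s1] at g1
  exact hd.bc g1.symm

theorem sma_cyc (h : QK κ K) (ho : Odd κ) (h8 : 8 ≤ Fintype.card Ω) (hp : p.Prime)
    (e : ∀ x : Ω, g ^ p • x = x) (h0 : g • a ≠ a) (hl : (Set.univ \ fx Ω g).ncard < 2 * p)
    (hn : p ≤ 3 ∨ p + 3 ≤ Fintype.card Ω) : False := by
  have hu : (Set.univ : Set Ω).ncard = Fintype.card Ω := by
    rw [Set.ncard_univ, Nat.card_eq_fintype_card]
  have hd : p ∣ (Set.univ \ fx Ω g).ncard :=
    mv_dvd (i := 1) hp (fun _ _ => trivial) (fun x _ => by rw [pow_one]; exact e x)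
  have hpos : 0 < (Set.univ \ fx Ω g).ncard :=
    (Set.ncard_pos (Set.toFinite _)).2 ⟨a, trivial, h0⟩
  have hs : (Set.univ \ fx Ω g).ncard = p := by
    obtain ⟨m, hm⟩ := hd
    rw [hm] at hl hpos ⊢
    have h1 : m < 2 := by
      by_contra hh
      have := Nat.mul_le_mul_left p (not_lt.1 hh)
      omega
    have h2 : m ≠ 0 := by rintro rfl; simp at hpos
    obtain rfl : m = 1 := by omega
    simp
  exact h.not_alt ho h8 (jordan (h.tr.mono (by norm_num) (by rw [hu]; omega)) (fun _ _ _ _ => trivial)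
    (mem_top g) hp (fun x _ => e x) hs (by rw [hu]; exact hn))

theorem QK.inv_fix (h : QK κ K) (ho : Odd κ) (h8 : 10 ≤ Fintype.card Ω) (h13 : Fintype.card Ω ≤ 13)
    (h2 : orderOf t = 2) (h4 : 4 ≤ (fx Ω t).ncard) : (fx Ω t).ncard = 4 ∧ Fintype.card Ω = 12 := by
  have hu : (Set.univ : Set Ω).ncard = Fintype.card Ω := by
    rw [Set.ncard_univ, Nat.card_eq_fintype_card]
  have ht : t ^ 2 = 1 := by rw [← h2]; exact pow_orderOf_eq_one t
  have t1 : t ≠ 1 := by rintro rfl; simp at h2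
  have hcomp : ∀ S : Set Ω, S.ncard + (Set.univ \ S).ncard = Fintype.card Ω := by
    intro S
    have := Set.ncard_add_ncard_compl S
    rwa [Nat.card_eq_fintype_card, Set.compl_eq_univ_sdiff] at this
  have hev : 2 ∣ (Set.univ \ fx Ω t).ncard :=
    mv_dvd (i := 1) Nat.prime_two (fun _ _ => trivial) (fun x _ => by rw [pow_one, ht, one_smul])
  obtain ⟨a, ha⟩ : ∃ a : Ω, t • a ≠ a := by
    by_contra hh
    push Not at hh
    exact t1 (h.faith t hh)
  have h44 : 4 ≤ (Set.univ \ fx Ω t).ncard := by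
    by_contra hh
    exact sma_cyc h ho (by omega) Nat.prime_two (fun x => by rw [ht, one_smul]) ha (by omega)
      (Or.inl (by norm_num))
  have hct := hcomp (fx Ω t)
  obtain ⟨Δ, hs, hΔ⟩ := Set.exists_subset_card_eq h4
  have htΔ : t ∈ St G Δ := fun x hx => hs hx
  have htr : Tr 4 (Nm (zpowers t)) (fx Ω t) := by
    rw [← Fx_zpowers]
    exact witt h.tr hΔ ((zpowers_le).2 htΔ)
      ((h.fk Δ hΔ).wc Nat.prime_two htΔ (sma_notK h ho hΔ h2) h2)
  have hinv : Inv (Nm (zpowers t)) (fx Ω t) := by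
    rw [← Fx_zpowers]; exact inv_Nm
  have key : ∀ p : ℕ, p.Prime → 5 ≤ p → p ≤ 7 → (fx Ω t).ncard < 2 * p → 5 ≤ (fx Ω t).ncard →
      p ∣ (fx Ω t).ncard.descFactorial 4 → False := by
    intro p hp p5 p7 hl h5 hd
    obtain ⟨g, hg, ⟨i, hi⟩, ⟨x, hx, hx'⟩, hgp⟩ := htr.prime hinv h4 hp hd
    have hc : g * t = t * g := by
      have := sma_zp h2 (nr_Nm g hg t (mem_zpowers t)) (by
        intro e
        apply t1
        have : t = g⁻¹ * (g * t * g⁻¹) * g := by group
        rw [this, e]; simp)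
      rw [mul_inv_eq_iff_eq_mul] at this
      exact this
    have back : ∀ {u v : G}, u * v = v * u → ∀ x : Ω, u • x ∈ fx Ω v → x ∈ fx Ω v := by
      intro u v e x hx
      rw [mem_fx, ← mul_smul, ← e, mul_smul] at hx
      exact smul_left_cancel u hx
    have d1 : p ∣ ((Set.univ \ fx Ω t) \ fx Ω g).ncard :=
      mv_dvd (i := i) hp (fun x hx => ⟨trivial, fun e => hx.2 (back hc x e)⟩)
        (fun x _ => by rw [hi, one_smul])
    have d2 : 2 ∣ (((Set.univ \ fx Ω t) \ fx Ω g) \ fx Ω t).ncard :=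
      mv_dvd (i := 1) Nat.prime_two
        (fun x hx => ⟨⟨trivial, fun e => hx.1.2 (back rfl x e)⟩, fun e => hx.2 (back hc.symm x e)⟩)
        (fun x _ => by rw [pow_one, ht, one_smul])
    have e2 : ((Set.univ \ fx Ω t) \ fx Ω g) \ fx Ω t = (Set.univ \ fx Ω t) \ fx Ω g :=
      Set.ext fun x => ⟨fun e => e.1, fun e => ⟨e, e.1.2⟩⟩
    rw [e2] at d2
    have d3 := Nat.Coprime.mul_dvd_of_dvd_of_dvd
      ((Nat.coprime_primes Nat.prime_two hp).2 (by omega)) d2 d1
    have hle : ((Set.univ \ fx Ω t) \ fx Ω g).ncard ≤ (Set.univ \ fx Ω t).ncard :=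
      Set.ncard_le_ncard Set.sdiff_subset
    have h0 := Nat.eq_zero_of_dvd_of_lt d3 (by omega)
    rw [Set.ncard_eq_zero] at h0
    have hfix : ∀ x, x ∉ fx Ω t → g • x = x := by
      intro x hx
      by_contra e
      exact (Set.eq_empty_iff_forall_notMem.1 h0 x) ⟨⟨trivial, hx⟩, e⟩
    refine sma_cyc h ho (by omega) hp (g := g) (fun x => ?_) hx' (lt_of_le_of_lt ?_ hl) (Or.inr (by omega))
    · by_cases e : x ∈ fx Ω t
      · exact hgp x e
      · exact (MulAction.stabilizer G x).pow_mem (hfix x e) p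
    · refine Set.ncard_le_ncard fun x hx => ?_
      by_contra e
      exact hx.2 (hfix x e)
  have hf4 : (fx Ω t).ncard = 4 := by
    by_contra hh
    have h9 : (fx Ω t).ncard ≤ 9 := by omega
    by_cases e9 : (fx Ω t).ncard = 9
    · exact key 7 (by norm_num) (by norm_num) le_rfl (by omega) (by omega) (by rw [e9]; decide)
    · refine key 5 (by norm_num) le_rfl (by norm_num) (by omega) (by omega) ?_
      have : (fx Ω t).ncard = 5 ∨ (fx Ω t).ncard = 6 ∨ (fx Ω t).ncard = 7 ∨ (fx Ω t).ncard = 8 := by omega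
      rcases this with e | e | e | e <;> rw [e] <;> decide
  refine ⟨hf4, ?_⟩
  by_contra hh
  have h10 : Fintype.card Ω = 10 := by omega
  obtain ⟨g, -, -, ⟨x, -, hx⟩, hgp⟩ := h.tr.prime (p := 7) (fun _ _ _ _ => trivial) (by omega) (by norm_num)
    (by rw [hu, h10]; decide)
  have := hcomp (fx Ω g)
  exact sma_cyc h ho (by omega) (by norm_num : Nat.Prime 7) (fun x => hgp x trivial) hx (by omega)
    (Or.inr (by omega))

end Cfsg.Agent.Q4
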