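import Cfsg.Agent.Q4.SmA

set_option autoImplicit false
set_option linter.unusedSectionVars false

namespace Cfsg.Agent.Q4

open Subgroup

variable {G : Type*} [Group G] [Finite G] {Ω : Type*} [Fintype Ω] [DecidableEq Ω] [MulAction G Ω]
variable {N N' U V E H T M A B L Q Q' R : Subgroup G} {Γ Δ Δ' S F : Set Ω} {g s t u w y z : G}
variable {x x' a b c d : Ω} {k l p q i n κ : ℕ}
variable {K P : Set Ω → Subgroup G}

/-- the cycle of `y` through `o` -/
def smb_C (y : G) (o : Ω) : Set Ω := {v | ∃ i : ℤ, v = y ^ i • o}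

theorem smb_fix (i : ℤ) {o : Ω} (h : y ^ i • o ∈ fx Ω y) : o ∈ fx Ω y := by
  have := comm_fx (g := (y ^ i)⁻¹) (h := y) (by group) h
  rwa [inv_smul_smul] at this

theorem smb_three (h3 : y ^ 3 = 1) {o : Ω} (ho : o ∉ fx Ω y) : 3 ≤ (smb_C y o).ncard := by
  have e : ({o, y • o, y⁻¹ • o} : Set Ω).ncard = 3 := Set.ncard_eq_three.2
    ⟨_, _, _, fun e => ho e.symm, fun e => ho (eq_inv_smul_iff.1 e), fun e => ho (by
      have k : y • y • y • o = o := by rw [← mul_smul, ← mul_smul, ← pow_three', h3, one_smul]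
      rwa [eq_inv_smul_iff.1 e] at k), rfl⟩
  rw [← e]
  refine Set.ncard_le_ncard ?_
  rintro v (rfl | rfl | rfl)
  · exact ⟨0, by simp⟩
  · exact ⟨1, by simp⟩
  · exact ⟨-1, by simp⟩

theorem smb_cover (h3 : y ^ 3 = 1) (h6 : (Set.univ \ fx Ω y).ncard = 6) {o o' v : Ω} (ho : o ∉ fx Ω y)
    (ho' : o' ∉ fx Ω y) (e : o' ∉ smb_C y o) (hv : v ∉ fx Ω y) (e' : v ∉ smb_C y o') : v ∈ smb_C y o := by
  have dj : Disjoint (smb_C y o) (smb_C y o') := Set.disjoint_left.2 (by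
    rintro _ ⟨i, rfl⟩ ⟨j, k⟩
    exact e ⟨-j + i, by rw [zpow_add, mul_smul, k, zpow_neg, inv_smul_smul]⟩)
  have sub : smb_C y o ∪ smb_C y o' ⊆ Set.univ \ fx Ω y := by
    rintro _ (⟨i, rfl⟩ | ⟨i, rfl⟩)
    · exact ⟨trivial, fun k => ho (smb_fix i k)⟩
    · exact ⟨trivial, fun k => ho' (smb_fix i k)⟩
  have := Set.eq_of_subset_of_ncard_le sub (by
    rw [Set.ncard_union_eq dj, h6]
    have := smb_three h3 ho
    have := smb_three h3 ho'
    omega)
  have m : v ∈ smb_C y o ∪ smb_C y o' := by rw [this]; exact ⟨trivial, hv⟩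
  exact m.resolve_right e'

theorem smb_inv (e : t * y * t⁻¹ = y⁻¹) {o : Ω} : t • o ∈ fx Ω y ↔ o ∈ fx Ω y := by
  have k : t * y⁻¹ = y * t := by
    calc t * y⁻¹ = (t * y * t⁻¹)⁻¹ * t := by group
      _ = _ := by rw [e, inv_inv]
  rw [mem_fx, mem_fx, ← mul_smul, ← k, mul_smul, smul_left_cancel_iff, inv_smul_eq_iff, eq_comm]

theorem smb_other (h3 : y ^ 3 = 1) (e : t * y * t⁻¹ = y⁻¹) (f : fx Ω t ⊆ fx Ω y) {o : Ω} (ho : o ∉ fx Ω y) :
    t • o ∉ smb_C y o := by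
  rintro ⟨i, k⟩
  refine ho (smb_fix (2 * i) (f ?_))
  have c : t * y ^ (2 * i) = y ^ (-(2 * i)) * t := by
    calc t * y ^ (2 * i) = (t * y * t⁻¹) ^ (2 * i) * t := by rw [conj_zpow]; group
      _ = _ := by rw [e]; group
  have h3' : y ^ (3 * i) = 1 := by rw [zpow_mul, show y ^ (3 : ℤ) = 1 by exact_mod_cast h3, one_zpow]
  rw [mem_fx, ← mul_smul, c, mul_smul, k, ← mul_smul, ← zpow_add,
    show 2 * i = 3 * i + (-(2 * i) + i) by ring, zpow_add y (3 * i), h3', one_mul]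
  congr 2
  ring

theorem smb_swap (e : t * y * t⁻¹ = y⁻¹) (ha : a ∈ fx Ω y) (ha' : a ∉ fx Ω t)
    (cov : ∀ v ∈ fx Ω y, v ∉ fx Ω t → v = a ∨ v = b) : t • a = b :=
  (cov _ ((smb_inv e).2 ha) fun k => ha' (smul_left_cancel t k)).resolve_left ha'

theorem QK.small (h : QK κ K) (ho : Odd κ) : Fintype.card Ω < 10 ∨ 13 < Fintype.card Ω := by
  by_contra hn
  have h10 : 10 ≤ Fintype.card Ω := by omega
  have h13 : Fintype.card Ω ≤ 13 := by omega
  obtain ⟨Δ, hΔ⟩ := h.four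
  have sub4 : ∀ {Δ : Set Ω} {t : G}, Δ.ncard = 4 → t ∈ St G Δ → 4 ≤ (fx Ω t).ncard := fun hΔ ht =>
    hΔ ▸ Set.ncard_le_ncard fun x hx => ht x hx
  have h12 : Fintype.card Ω = 12 := by
    obtain ⟨t, ht, t2⟩ := h.inv hΔ
    exact (h.inv_fix ho h10 h13 t2 (sub4 hΔ ht)).2
  have un : (Set.univ : Set Ω).ncard = 12 := by rw [Set.ncard_univ, Nat.card_eq_fintype_card, h12]
  obtain ⟨p, hp, pd⟩ := Nat.exists_prime_and_dvd (n := Nat.card (K Δ)) fun e => (h.fk Δ hΔ).ne_bot (eq_bot_of_card_eq _ e)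
  have := Fact.mk hp
  obtain ⟨⟨y, yK⟩, yp⟩ := exists_prime_orderOf_dvd_card' p pd
  replace yp : orderOf y = p := (orderOf_mk _ _).symm.trans yp
  obtain ⟨yS, yκ⟩ := (h.mem Δ hΔ y).1 yK
  have p2 : p ≠ 2 := by
    rintro rfl
    rw [h.card Δ hΔ] at pd
    exact Nat.not_even_iff_odd.2 ho (even_iff_two_dvd.2 pd)
  have yp1 : y ^ p = 1 := by rw [← yp, pow_orderOf_eq_one]
  have dv : p ∣ (Set.univ \ fx Ω y).ncard := mv_dvd (i := 1) hp (fun _ _ => trivial) fun x _ => by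
    rw [pow_one, yp1, one_smul]
  have cs : (Set.univ \ fx Ω y).ncard + (fx Ω y).ncard = 12 := by
    rw [Set.ncard_diff_add_ncard_of_subset (Set.subset_univ _), un]
  have f4 := sub4 hΔ yS
  have m0 : (Set.univ \ fx Ω y).ncard ≠ 0 := fun e => by
    have : y = 1 := h.faith y fun x => by
      by_contra k
      have : x ∈ Set.univ \ fx Ω y := ⟨trivial, k⟩
      rw [(Set.ncard_eq_zero).1 e] at this
      exact this
    rw [this, orderOf_one] at yp
    exact hp.one_lt.ne yp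
  have mp : (Set.univ \ fx Ω y).ncard ≠ p := fun e => h.not_alt ho (by omega)
    (jordan (h.tr.mono (by omega) (by omega)) (fun _ _ _ _ => trivial) (mem_top y) hp
      (fun x _ => by rw [yp1, one_smul]) e (by omega))
  obtain ⟨p3, h6⟩ : p = 3 ∧ (Set.univ \ fx Ω y).ncard = 6 := by
    obtain ⟨j, e⟩ := dv
    have := hp.two_le
    have p4 : p ≠ 4 := by rintro rfl; exact absurd hp (by decide)
    have j0 : j ≠ 0 := by rintro rfl; omega
    have j1 : j ≠ 1 := by rintro rfl; omega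
    have : p ≤ 4 := by nlinarith [Nat.two_le_iff j |>.2 ⟨j0, j1⟩]
    have p3 : p = 3 := by omega
    subst p3
    omega
  subst p3
  have ds : (fx Ω y \ Δ).ncard = 2 := by
    have := Set.ncard_diff_add_ncard_of_subset (s := Δ) (t := fx Ω y) fun x hx => yS x hx
    omega
  obtain ⟨x, x', xx, ex⟩ := Set.ncard_eq_two.1 ds
  obtain ⟨a, b, c, d, D, rfl⟩ := exists_D4 hΔ
  have mx : x ∈ fx Ω y \ {a, b, c, d} := by rw [ex]; simp
  have mx' : x' ∈ fx Ω y \ {a, b, c, d} := by rw [ex]; simp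
  have cov : ∀ v ∈ fx Ω y, v ∈ ({a, b, c, d} : Set Ω) ∨ v = x ∨ v = x' := fun v hv => by
    by_cases k : v ∈ ({a, b, c, d} : Set Ω)
    · exact .inl k
    · have : v ∈ fx Ω y \ {a, b, c, d} := ⟨hv, k⟩
      rw [ex] at this
      exact .inr this
  have key : ∀ Δ' : Set Ω, Δ'.ncard = 4 → Δ' ⊆ fx Ω y → ∃ t : G, t * y * t⁻¹ = y⁻¹ ∧ fx Ω t = Δ' := fun Δ' e s => by
    obtain ⟨t, ht, t2⟩ := h.inv e
    refine ⟨t, (h.fk Δ' e).inv ht (fun k => ?_) t2 ((h.mem Δ' e y).2 ⟨fun x hx => s hx, yκ⟩),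
      (Set.eq_of_subset_of_ncard_le (fun x hx => ht x hx) ?_).symm⟩
    · have := orderOf_dvd_of_pow_eq_one ((h.mem Δ' e t).1 k).2
      rw [t2] at this
      exact Nat.not_even_iff_odd.2 ho (even_iff_two_dvd.2 this)
    · exact ((h.inv_fix ho h10 h13 t2 (sub4 e ht)).1.trans e.symm).le
  have n1 := mx.2
  have n2 := mx'.2
  simp only [Set.mem_insert_iff, Set.mem_singleton_iff, not_or] at n1 n2
  have ya : a ∈ fx Ω y := yS a (by simp)
  have yb : b ∈ fx Ω y := yS b (by simp)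
  have yc : c ∈ fx Ω y := yS c (by simp)
  have yd : d ∈ fx Ω y := yS d (by simp)
  have D' : D4 a b x x' := ⟨D.ab, Ne.symm n1.1, Ne.symm n2.1, Ne.symm n1.2.1, Ne.symm n2.2.1, xx⟩
  have s' : ({a, b, x, x'} : Set Ω) ⊆ fx Ω y := by
    rintro v (rfl | rfl | rfl | rfl)
    exacts [ya, yb, mx.1, mx'.1]
  obtain ⟨t, ty, ft⟩ := key _ hΔ fun x hx => yS x hx
  obtain ⟨t', ty', ft'⟩ := key _ D'.ncard s'
  have c1 : ∀ v ∈ fx Ω y, v ∉ fx Ω t → v = x ∨ v = x' := fun v hv k => (cov v hv).resolve_left (ft ▸ k)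
  have c2 : ∀ v ∈ fx Ω y, v ∉ fx Ω t' → v = c ∨ v = d := fun v hv k => by
    rw [ft'] at k
    have := cov v hv
    simp only [Set.mem_insert_iff, Set.mem_singleton_iff, not_or] at k this
    tauto
  have tx : t • x = x' := smb_swap ty mx.1 (ft ▸ mx.2) c1
  have tx' : t • x' = x := smb_swap ty mx'.1 (ft ▸ mx'.2) fun v hv k => (c1 v hv k).symm
  have tc : t' • c = d := smb_swap ty' yc (by
    rw [ft']; simp [D.ac.symm, D.bc.symm, Ne.symm n1.2.2.1, Ne.symm n2.2.2.1]) c2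
  have td : t' • d = c := smb_swap ty' yd (by
    rw [ft']; simp [D.ad.symm, D.bd.symm, Ne.symm n1.2.2.2, Ne.symm n2.2.2.2]) fun v hv k => (c2 v hv k).symm
  have g1 : ∀ v ∈ ({a, b, c, d} : Set Ω), t • v = v := fun v hv => by rw [← mem_fx, ft]; exact hv
  have g2 : ∀ v ∈ ({a, b, x, x'} : Set Ω), t' • v = v := fun v hv => by rw [← mem_fx, ft']; exact hv
  have ua : (t * t') • a = a := by rw [mul_smul, g2 a (by simp), g1 a (by simp)]
  have ub : (t * t') • b = b := by rw [mul_smul, g2 b (by simp), g1 b (by simp)]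
  have uc : (t * t') • c = d := by rw [mul_smul, tc, g1 d (by simp)]
  have ud : (t * t') • d = c := by rw [mul_smul, td, g1 c (by simp)]
  have ux : (t * t') • x = x' := by rw [mul_smul, g2 x (by simp), tx]
  have ux' : (t * t') • x' = x := by rw [mul_smul, g2 x' (by simp), tx']
  have uy : Commute (t * t') y := by
    calc t * t' * y = t * (t' * y * t'⁻¹) * t' := by group
      _ = (t * y * t⁻¹)⁻¹ * (t * t') := by rw [ty']; group
      _ = _ := by rw [ty, inv_inv]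
  have um : ∀ o ∉ fx Ω y, (t * t') ^ 3 • o = o := fun o k => by
    have k' : t' • o ∉ fx Ω y := fun e => k ((smb_inv ty').1 e)
    obtain ⟨i, e⟩ := smb_cover yp1 h6 k k' (smb_other yp1 ty' (ft' ▸ s') k) (fun e => k' ((smb_inv ty).1 e))
      (smb_other yp1 ty (ft ▸ fun x hx => yS x hx) k')
    rw [← mul_smul] at e
    have cm : ∀ v : Ω, (t * t') • y ^ i • v = y ^ i • (t * t') • v := fun v => by
      rw [← mul_smul, (uy.zpow_right i).eq, mul_smul]
    rw [pow_three', mul_smul _ (t * t'), mul_smul _ (t * t'), e, cm, e, cm, cm, e, ← mul_smul, ← mul_smul, ← pow_three',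
      ← zpow_natCast, ← zpow_mul, mul_comm, zpow_mul, zpow_natCast, yp1, one_zpow, one_smul]
  generalize t * t' = u at ua ub uc ud ux ux' um
  have cube : ∀ v : Ω, u ^ 3 • v = u • u • u • v := fun v => by rw [pow_three', mul_smul, mul_smul]
  have o2 : orderOf (u ^ 3) = 2 := by
    have : Fact (Nat.Prime 2) := ⟨Nat.prime_two⟩
    refine orderOf_eq_prime (h.faith _ fun v => ?_) fun e => D.cd ?_
    · rw [pow_two, mul_smul]
      by_cases k : v ∈ fx Ω y
      · rcases cov v k with (rfl | rfl | rfl | rfl) | rfl | rfl <;> simp only [cube, ua, ub, uc, ud, ux, ux']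
      · rw [um v k, um v k]
    · have := cube c
      rwa [e, one_smul, uc, ud, uc] at this
  have big : 6 ≤ (fx Ω (u ^ 3)).ncard := h6 ▸ Set.ncard_le_ncard fun o k => um o k.2
  have := (h.inv_fix ho h10 h13 o2 (by omega)).1
  omega

end Cfsg.Agent.Q4
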