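import Cfsg.Agent.Q4.T68
import Cfsg.Agent.Q4.KFix
import Cfsg.Agent.Q4.KTr
import Cfsg.Agent.Q4.Frob

set_option autoImplicit false
set_option linter.unusedSectionVars false

namespace Cfsg.Agent.Q4

open Subgroup

variable {G : Type*} [Group G] [Finite G] {Ω : Type*} [Fintype Ω] [DecidableEq Ω] [MulAction G Ω]
variable {N N' U V E H T M A B L Q Q' R : Subgroup G} {Γ Δ Δ' S F : Set Ω} {g s t u w y z : G}
variable {x x' a b c d : Ω} {k l p q i n κ : ℕ}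
variable {K P : Set Ω → Subgroup G}

/-- `u ∈ Ct Q t` commutes with `t` on the fixed points of `Q` -/
theorem t12a_comm (hn : t ∈ Nm Q) (hu : u ∈ Ct Q t) (hx : x ∈ Fx Ω Q) : u • t • x = t • u • x := by
  have h1 : t • u • x ∈ Fx Ω Q := inv_Nm t hn _ (inv_Nm u hu.1 x hx)
  have h2 := h1 _ hu.2
  rw [← h2]
  simp only [mul_smul, inv_smul_smul]

theorem t12a_even (h : QB κ K P) (hQ : Mx Ω κ Q) (hΔ : Δ ⊆ Fx Ω Q) (e : Δ.ncard = 4) (ht : t ∈ P Δ)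
    (hn : t ∈ Nm Q) (htQ : t ∉ Q) (h2 : t * t ∈ Q) (hS : S ⊆ Fx Ω Q \ Δ) (hi : ∀ v ∈ S, t • v ∈ S) :
    2 ∣ S.ncard := by
  have h1 := mv_dvd (Γ := S) (g := t) (i := 1) Nat.prime_two hi (fun v hv => by
    rw [pow_one, pow_two]; exact (hS hv).1 _ h2)
  have h3 : S \ fx Ω t = S := by
    ext v
    refine ⟨fun hv => hv.1, fun hv => ⟨hv, fun hf => (hS hv).2 ?_⟩⟩
    rw [← hQ.ufix h hΔ e ht hn htQ h2]
    exact ⟨(hS hv).1, hf⟩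
  rwa [h3] at h1

theorem t12a_invW (h : QB κ K P) (hQ : Mx Ω κ Q) (hΔ : Δ ⊆ Fx Ω Q) (e : Δ.ncard = 4) (ht : t ∈ P Δ)
    (hn : t ∈ Nm Q) (htQ : t ∉ Q) (h2 : t * t ∈ Q) : Inv (Ct Q t) (Fx Ω Q \ Δ) := by
  intro u hu v hv
  refine ⟨inv_Nm u hu.1 v hv.1, fun hd => hv.2 ?_⟩
  have := hQ.uinv h hΔ e ht hn htQ h2 u⁻¹ (inv_mem hu) _ hd
  rwa [inv_smul_smul] at this

theorem t12a_self (hn : t ∈ Nm Q) : t ∈ Ct Q t := ⟨hn, by simp⟩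

theorem t12a_W (hΔ : Δ ⊆ Fx Ω Q) (e : Δ.ncard = 4) (hm : (Fx Ω Q).ncard = 12) :
    (Fx Ω Q \ Δ).ncard = 8 := by
  rw [Set.ncard_sdiff hΔ, hm, e]

theorem t12a_tr2 (h : QB κ K P) (hQ : Mx Ω κ Q) (hm : (Fx Ω Q).ncard = 12) : Tr 2 (Nm Q) (Fx Ω Q) :=
  (hQ.tr h).mono (by norm_num) (by omega)

/-- a 3-element fixing only `x`, `t x` outside `Δ` -/
theorem t12a_three (h : QB κ K P) (hQ : Mx Ω κ Q) (hΔ : Δ ⊆ Fx Ω Q) (e : Δ.ncard = 4) (ht : t ∈ P Δ)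
    (hn : t ∈ Nm Q) (htQ : t ∉ Q) (h2 : t * t ∈ Q) (hm : (Fx Ω Q).ncard = 12) (hx : x ∈ Fx Ω Q)
    (hxΔ : x ∉ Δ) : ∃ u ∈ Ct Q t, u ^ 3 ∈ Q ∧ ∀ v ∈ Fx Ω Q \ Δ, u • v = v → v = x ∨ v = t • x := by
  obtain ⟨a, b, c, d, hd, rfl⟩ := exists_D4 e
  obtain ⟨u, ⟨hu, hux⟩, ua, ub, uc, ud⟩ := tr4_iff.1 (hQ.ucov h hΔ e ht hn htQ h2 hx hxΔ) a b c d b c a d hd
    ⟨hd.bc, hd.ab.symm, hd.bd, hd.ac.symm, hd.cd, hd.ad⟩ subset_rfl (by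
      intro v hv
      simp only [Set.mem_insert_iff, Set.mem_singleton_iff] at hv ⊢
      tauto)
  have hux' : u • x = x := hux x rfl
  have hs : u ^ 3 ∈ St G ({a, b, c, d} : Set Ω) := by
    intro v hv
    simp only [Set.mem_insert_iff, Set.mem_singleton_iff] at hv
    rcases hv with rfl | rfl | rfl | rfl <;> simp only [pow_succ, pow_zero, one_mul, mul_smul, ua, ub, uc, ud]
  have hK := hQ.uker h hΔ e ht hn htQ h2 (pow_mem hu 3) hs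
  have h3 : u ^ 3 ∈ Q := hQ.semi h hΔ e hK hx hxΔ (by
    simp only [pow_succ, pow_zero, one_mul, mul_smul, hux'])
  refine ⟨u, hu, h3, ?_⟩
  set Δ : Set Ω := {a, b, c, d} with hΔe
  have hW := t12a_invW h hQ hΔ e ht hn htQ h2
  have hW8 := t12a_W hΔ e hm
  have htx : t • x ∈ Fx Ω Q \ Δ := hW t (t12a_self hn) x ⟨hx, hxΔ⟩
  have hne : t • x ≠ x := fun hf => hxΔ (by
    rw [← hQ.ufix h hΔ e ht hn htQ h2]; exact ⟨hx, hf⟩)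
  have hutx : u • t • x = t • x := by rw [t12a_comm hn hu hx, hux']
  have d3 : 3 ∣ ((Fx Ω Q \ Δ) \ fx Ω u).ncard :=
    mv_dvd (i := 1) Nat.prime_three (hW u hu) (fun v hv => by rw [pow_one]; exact hv.1 _ h3)
  have d2 : 2 ∣ ((Fx Ω Q \ Δ) \ fx Ω u).ncard := by
    refine t12a_even h hQ hΔ e ht hn htQ h2 Set.sdiff_subset (fun v hv => ⟨hW t (t12a_self hn) v hv.1, fun hf => hv.2 ?_⟩)
    have hf' : u • t • v = t • v := hf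
    rw [t12a_comm hn hu hv.1.1] at hf'
    exact smul_left_cancel t hf'
  have hsum := Set.ncard_inter_add_ncard_sdiff_eq_ncard (Fx Ω Q \ Δ) (fx Ω u)
  have hsub : ({x, t • x} : Set Ω) ⊆ (Fx Ω Q \ Δ) ∩ fx Ω u := by
    intro v hv
    simp only [Set.mem_insert_iff, Set.mem_singleton_iff] at hv
    rcases hv with rfl | rfl
    · exact ⟨⟨hx, hxΔ⟩, hux'⟩
    · exact ⟨htx, hutx⟩
  have hc2 : ({x, t • x} : Set Ω).ncard = 2 := Set.ncard_pair hne.symm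
  have hle := Set.ncard_le_ncard hsub
  have h0 : ((Fx Ω Q \ Δ) \ fx Ω u).ncard ≠ 0 := by
    intro h0
    rw [Set.ncard_eq_zero] at h0
    refine hQ.not_alt h (by omega) (jordan (t12a_tr2 h hQ hm) inv_Nm hu.1 Nat.prime_three
      (fun v hv => hv _ h3) ?_ (Or.inl le_rfl))
    have : Fx Ω Q \ fx Ω u = {a, b, c} := by
      ext v
      simp only [Set.mem_insert_iff, Set.mem_singleton_iff]
      constructor
      · intro hv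
        by_cases hvd : v ∈ Δ
        · simp only [hΔe, Set.mem_insert_iff, Set.mem_singleton_iff] at hvd
          rcases hvd with h1 | h1 | h1 | h1
          · exact Or.inl h1
          · exact Or.inr (Or.inl h1)
          · exact Or.inr (Or.inr h1)
          · exact absurd (by rw [h1]; exact ud) hv.2
        · have : v ∈ (Fx Ω Q \ Δ) \ fx Ω u := ⟨⟨hv.1, hvd⟩, hv.2⟩
          rw [h0] at this
          exact this.elim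
      · rintro (rfl | rfl | rfl)
        · exact ⟨hΔ (by simp [hΔe]), fun hf => hd.ab (by rw [← ua]; exact hf.symm)⟩
        · exact ⟨hΔ (by simp [hΔe]), fun hf => hd.bc (by rw [← ub]; exact hf.symm)⟩
        · exact ⟨hΔ (by simp [hΔe]), fun hf => hd.ac (by rw [← uc]; exact hf)⟩
    rw [this, Set.ncard_eq_three]
    exact ⟨a, b, c, hd.ab, hd.ac, hd.bc, rfl⟩
  have heq : ({x, t • x} : Set Ω) = (Fx Ω Q \ Δ) ∩ fx Ω u :=
    Set.eq_of_subset_of_ncard_le hsub (by omega)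
  intro v hv hf
  have : v ∈ ({x, t • x} : Set Ω) := by rw [heq]; exact ⟨hv, hf⟩
  simpa using this

theorem t12a_six (h : QB κ K P) (hQ : Mx Ω κ Q) (hΔ : Δ ⊆ Fx Ω Q) (e : Δ.ncard = 4) (ht : t ∈ P Δ)
    (hn : t ∈ Nm Q) (htQ : t ∉ Q) (h2 : t * t ∈ Q) (hm : (Fx Ω Q).ncard = 12) (hS : S ⊆ Fx Ω Q \ Δ)
    (hi : Inv (Ct Q t) S) (hx : x ∈ Fx Ω Q \ Δ) (hxS : x ∉ S) : 6 ∣ S.ncard := by
  obtain ⟨u, hu, h3, hf⟩ := t12a_three h hQ hΔ e ht hn htQ h2 hm hx.1 hx.2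
  have d2 := t12a_even h hQ hΔ e ht hn htQ h2 hS (hi t (t12a_self hn))
  have d3 : 3 ∣ (S \ fx Ω u).ncard :=
    mv_dvd (i := 1) Nat.prime_three (hi u hu) (fun v hv => by rw [pow_one]; exact (hS hv).1 _ h3)
  have : S \ fx Ω u = S := by
    ext v
    refine ⟨fun hv => hv.1, fun hv => ⟨hv, fun hfv => hxS ?_⟩⟩
    rcases hf v (hS hv) hfv with rfl | rfl
    · exact hv
    · have := hi t (t12a_self hn) _ hv
      rwa [← mul_smul, hx.1 _ h2] at this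
  rw [this] at d3
  omega

theorem Mx.t12_tr (h : QB κ K P) (hQ : Mx Ω κ Q) (hΔ : Δ ⊆ Fx Ω Q) (e : Δ.ncard = 4) (ht : t ∈ P Δ) (hn : t ∈ Nm Q)
    (htQ : t ∉ Q) (h2 : t * t ∈ Q) (hm : (Fx Ω Q).ncard = 12) (hx : x ∈ Fx Ω Q) (hxΔ : x ∉ Δ) (hx' : x' ∈ Fx Ω Q)
    (hxΔ' : x' ∉ Δ) : ∃ r ∈ K Δ ⊓ Ct Q t, r • x = x' := by
  have hW := t12a_invW h hQ hΔ e ht hn htQ h2
  have hW8 := t12a_W hΔ e hm
  obtain ⟨u, hu, hux⟩ : ∃ u ∈ Ct Q t, u • x = x' := by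
    by_contra hc
    set O : Set Ω := {v | ∃ u ∈ Ct Q t, u • x = v} with hO
    have hOW : O ⊆ Fx Ω Q \ Δ := by
      rintro v ⟨u, hu, rfl⟩
      exact hW u hu x ⟨hx, hxΔ⟩
    have hxO : x ∈ O := ⟨1, one_mem _, one_smul _ _⟩
    have hiO : Inv (Ct Q t) O := by
      rintro w hw v ⟨u, hu, rfl⟩
      exact ⟨w * u, mul_mem hw hu, mul_smul _ _ _⟩
    have hiO' : Inv (Ct Q t) ((Fx Ω Q \ Δ) \ O) := by
      intro w hw v hv
      refine ⟨hW w hw v hv.1, fun ho => hv.2 ?_⟩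
      have := hiO w⁻¹ (inv_mem hw) _ ho
      rwa [inv_smul_smul] at this
    have s1 := t12a_six h hQ hΔ e ht hn htQ h2 hm hOW hiO ⟨hx', hxΔ'⟩ hc
    have s2 := t12a_six h hQ hΔ e ht hn htQ h2 hm Set.sdiff_subset hiO' ⟨hx, hxΔ⟩ (fun hv => hv.2 hxO)
    rw [Set.ncard_sdiff hOW, hW8] at s2
    have := Set.ncard_le_ncard hOW
    have h0 : 0 < O.ncard := (Set.ncard_pos (Set.toFinite _)).2 ⟨x, hxO⟩
    omega
  have hi := hQ.uinv h hΔ e ht hn htQ h2 u⁻¹ (inv_mem hu)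
  have hcov := hQ.ucov h hΔ e ht hn htQ h2 hx hxΔ
  have hker := fun (r : G) (hr : r ∈ Ct Q t) (hs : r ∈ St G Δ) => hQ.uker h hΔ e ht hn htQ h2 hr hs
  obtain ⟨a, b, c, d, hd, rfl⟩ := exists_D4 e
  have inj := fun {v w : Ω} (hvw : v ≠ w) (hf : u⁻¹ • v = u⁻¹ • w) => hvw (smul_left_cancel _ hf)
  obtain ⟨v, ⟨hv, hvx⟩, va, vb, vc, vd⟩ := tr4_iff.1 hcov a b c d (u⁻¹ • a) (u⁻¹ • b) (u⁻¹ • c) (u⁻¹ • d) hd
    ⟨inj hd.ab, inj hd.ac, inj hd.ad, inj hd.bc, inj hd.bd, inj hd.cd⟩ subset_rfl (by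
      intro z hz
      simp only [Set.mem_insert_iff, Set.mem_singleton_iff] at hz
      rcases hz with rfl | rfl | rfl | rfl <;> exact hi _ (by simp))
  refine ⟨u * v, ⟨hker _ (mul_mem hu hv) ?_, mul_mem hu hv⟩, by rw [mul_smul, hvx x rfl, hux]⟩
  intro z hz
  simp only [Set.mem_insert_iff, Set.mem_singleton_iff] at hz
  rcases hz with rfl | rfl | rfl | rfl <;> simp only [mul_smul, va, vb, vc, vd, smul_inv_smul]

theorem t12a_trK (h : QB κ K P) (hQ : Mx Ω κ Q) (hm : (Fx Ω Q).ncard = 12) (hΔ : Δ ⊆ Fx Ω Q)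
    (e : Δ.ncard = 4) (hx : x ∈ Fx Ω Q \ Δ) (hx' : x' ∈ Fx Ω Q \ Δ) : ∃ r ∈ K Δ ⊓ Nm Q, r • x = x' := by
  obtain ⟨s, hs, hc, hsQ, h2⟩ := hQ.grow h hΔ e (t := 1) (one_mem _) (one_mem _) ⟨0, one_pow _⟩
  obtain ⟨r, ⟨hr, hr'⟩, hrx⟩ := hQ.t12_tr h hΔ e hs hc.1 hsQ h2 hm hx.1 hx.2 hx'.1 hx'.2
  exact ⟨r, ⟨hr, hr'.1⟩, hrx⟩

theorem Mx.t12_tr5 (h : QB κ K P) (hQ : Mx Ω κ Q) (hm : (Fx Ω Q).ncard = 12) : Tr 5 (Nm Q) (Fx Ω Q) := by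
  rw [tr5_iff]
  intro a b c d x a' b' c' d' x' hd hd' hs hs' hx hx' hn hn'
  obtain ⟨g, hg, ga, gb, gc, gd⟩ := tr4_iff.1 (hQ.tr h) a b c d a' b' c' d' hd hd' hs hs'
  have hgx : g • x ∈ Fx Ω Q \ ({a', b', c', d'} : Set Ω) := by
    refine ⟨inv_Nm g hg x hx, fun hv => hn ?_⟩
    rw [← ga, ← gb, ← gc, ← gd] at hv
    simpa only [Set.mem_insert_iff, Set.mem_singleton_iff, smul_left_cancel_iff] using hv
  obtain ⟨r, ⟨hr, hr'⟩, hrx⟩ := t12a_trK h hQ hm hs' hd'.ncard hgx ⟨hx', hn'⟩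
  have hst := (h.fk _ hd'.ncard).le hr
  refine ⟨r * g, mul_mem hr' hg, ?_, ?_, ?_, ?_, by rw [mul_smul, hrx]⟩
  · rw [mul_smul, ga]; exact hst _ (by simp)
  · rw [mul_smul, gb]; exact hst _ (by simp)
  · rw [mul_smul, gc]; exact hst _ (by simp)
  · rw [mul_smul, gd]; exact hst _ (by simp)

theorem t12a_pt (hΔ : Δ ⊆ S) (e : Δ.ncard = 4) (h5 : 5 ≤ S.ncard) : ∃ x ∈ S, x ∉ Δ := by
  by_contra hc
  push Not at hc
  have := Set.ncard_le_ncard (show S ⊆ Δ from hc)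
  omega

theorem Mx.t12_idx (h : QB κ K P) (hQ : Mx Ω κ Q) (hm : (Fx Ω Q).ncard = 12) (hΔ : Δ ⊆ Fx Ω Q)
    (e : Δ.ncard = 4) : Nat.card ↥(K Δ ⊓ Nm Q) = 8 * Nat.card Q := by
  obtain ⟨x, hx, hxΔ⟩ := t12a_pt hΔ e (by omega)
  have h1 := orbit_card (K Δ ⊓ Nm Q) x
  have h2 : {v : Ω | ∃ u ∈ K Δ ⊓ Nm Q, u • x = v} = Fx Ω Q \ Δ := by
    ext v
    constructor
    · rintro ⟨u, hu, rfl⟩
      refine ⟨inv_Nm u hu.2 x hx, fun hd => hxΔ ?_⟩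
      have := (h.fk _ e).le hu.1 _ hd
      rwa [smul_left_cancel u this] at hd
    · intro hv
      exact t12a_trK h hQ hm hΔ e ⟨hx, hxΔ⟩ hv
  have h3 : K Δ ⊓ Nm Q ⊓ St G ({x} : Set Ω) = Q := by
    apply le_antisymm
    · intro u hu
      exact hQ.semi h hΔ e hu.1.1 hx hxΔ (hu.2 x rfl)
    · intro u hu
      refine ⟨⟨hQ.le h hΔ e hu, Subgroup.le_normalizer hu⟩, fun v hv => ?_⟩
      rw [Set.mem_singleton_iff.1 hv]
      exact hx u hu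
  rw [h2, h3, t12a_W hΔ e hm] at h1
  exact h1.symm

theorem Mx.t12_sharp (h : QB κ K P) (hQ : Mx Ω κ Q) (hm : (Fx Ω Q).ncard = 12) (hg : g ∈ Nm Q)
    (h5 : 5 ≤ (Fx Ω Q ∩ fx Ω g).ncard) : g ∈ Q := by
  obtain ⟨Δ, hΔ, e⟩ := Set.exists_subset_card_eq (s := Fx Ω Q ∩ fx Ω g) (n := 4) (by omega)
  obtain ⟨x, hx, hxΔ⟩ := t12a_pt hΔ e h5
  have hΔ' : Δ ⊆ Fx Ω Q := fun v hv => (hΔ hv).1
  have hst : g ∈ St G Δ := fun v hv => (hΔ hv).2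
  by_cases hK : g ∈ K Δ
  · exact hQ.semi h hΔ' e hK hx.1 hxΔ hx.2
  have fk := h.fk _ e
  have c1 := fk.dvd hst hK (A := K Δ ⊓ Nm Q) inf_le_left (fun r hr =>
    ⟨fk.nrm g hst r hr.1, (Nm Q).mul_mem ((Nm Q).mul_mem hg hr.2) ((Nm Q).inv_mem hg)⟩)
  have c2 := fk.dvd hst hK (A := Q) (hQ.le h hΔ' e) (nr_Nm g hg)
  rw [hQ.t12_idx h hm hΔ' e] at c1
  have c3 : 8 * 1 ≡ 1 [MOD orderOf g] := ((c2.mul_left 8).symm.trans c1)
  have c4 : orderOf g ∣ 7 := (Nat.modEq_iff_dvd' (by norm_num)).1 c3.symm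
  have g7 : g ^ 7 = 1 := orderOf_dvd_iff_pow_eq_one.1 c4
  have p7 : Nat.Prime 7 := by norm_num
  have d7 : 7 ∣ (Fx Ω Q \ fx Ω g).ncard :=
    mv_dvd (i := 1) p7 (inv_Nm g hg) (fun v _ => by rw [pow_one, g7, one_smul])
  have hsum := Set.ncard_inter_add_ncard_sdiff_eq_ncard (Fx Ω Q) (fx Ω g)
  by_cases h0 : (Fx Ω Q \ fx Ω g).ncard = 0
  · rw [Set.ncard_eq_zero] at h0
    rw [← hQ.ker h]
    intro v hv
    by_contra hf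
    have : v ∈ Fx Ω Q \ fx Ω g := ⟨hv, hf⟩
    rw [h0] at this
    exact this
  · exact absurd (jordan (t12a_tr2 h hQ hm) inv_Nm hg p7 (fun v _ => by rw [g7, one_smul]) (by omega)
      (Or.inr (by omega))) (hQ.not_alt h (by omega))

end Cfsg.Agent.Q4
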