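import Cfsg.Agent.Q4.MxC
import Cfsg.Agent.Q4.KJor
import Cfsg.Agent.Q4.KSim

set_option autoImplicit false
set_option linter.unusedSectionVars false

namespace Cfsg.Agent.Q4

open Subgroup

variable {G : Type*} [Group G] [Finite G] {Ω : Type*} [Fintype Ω] [DecidableEq Ω] [MulAction G Ω]
variable {N N' U V E H T M A B L Q Q' R : Subgroup G} {Γ Δ Δ' S F : Set Ω} {g s t u w y z : G}
variable {x x' a b c d : Ω} {k l p q i n κ : ℕ}
variable {K P : Set Ω → Subgroup G}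

theorem t68_add (Γ : Set Ω) (g : G) :
    (Γ ∩ fx Ω g).ncard + (Γ \ fx Ω g).ncard = Γ.ncard :=
  Set.ncard_inter_add_ncard_sdiff_eq_ncard Γ (fx Ω g) (Set.toFinite _)

theorem t68_triv (h : QB κ K P) (hQ : Mx Ω κ Q) (hg : ∀ x ∈ Fx Ω Q, g • g • x = x)
    (h5 : 5 ≤ (Fx Ω Q ∩ fx Ω g).ncard) : ∀ x ∈ Fx Ω Q, g • x = x := by
  obtain ⟨s, -, h2, hs⟩ := two_lift hg
  have e : Fx Ω Q ∩ fx Ω s = Fx Ω Q ∩ fx Ω g := by
    ext x
    simp only [Set.mem_inter_iff, mem_fx]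
    exact and_congr_right fun hx => by rw [hs x hx]
  have hsQ := Mx.two h hQ h2 (e ▸ h5)
  intro x hx
  rw [← hs x hx]
  exact hx s hsQ

theorem t68_four (h4 : 4 ≤ Γ.ncard) : ∃ Δ ⊆ Γ, Δ.ncard = 4 := Set.exists_subset_card_eq h4

theorem t68_pos (hx : x ∈ Γ) (e : g • x ≠ x) : 0 < (Γ \ fx Ω g).ncard :=
  (Set.ncard_pos (Set.toFinite _)).2 ⟨x, hx, e⟩

theorem t68_mv1 (hi : ∀ x ∈ Γ, g • x ∈ Γ) (h1 : (Γ \ fx Ω g).ncard ≤ 1) : g ∈ St G Γ := by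
  intro x hx
  by_contra e
  have e2 : g • g • x ≠ g • x := fun e' => e (smul_left_cancel g e')
  exact e ((Set.ncard_le_one (Set.toFinite _)).1 h1 _ ⟨hi x hx, e2⟩ _ ⟨hx, e⟩)

theorem t68_out (h : QB κ K P) (e : Δ.ncard = 4) (hu : u ∈ K Δ ⊓ Nm Q) (hx : x ∈ Fx Ω Q \ Δ) :
    u • x ∈ Fx Ω Q \ Δ := by
  refine ⟨inv_Nm u hu.2 x hx.1, fun hd => hx.2 ?_⟩
  have := (h.fk Δ e).le hu.1 _ hd
  rwa [smul_left_cancel u this] at hd

theorem t68_grow (h : QB κ K P) (hQ : Mx Ω κ Q) (hΔ : Δ ⊆ Fx Ω Q) (e : Δ.ncard = 4) :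
    ∃ s ∈ K Δ ⊓ Nm Q, Fx Ω Q ∩ fx Ω s = Δ := by
  obtain ⟨s, hs, hc, hn, h2⟩ := Mx.grow h hQ hΔ e (one_mem _) (one_mem _) ⟨0, by simp⟩
  exact ⟨s, ⟨h.le Δ e hs, hc.1⟩, Mx.ufix h hQ hΔ e hs hc.1 hn h2⟩

theorem t68_alt (h : QB κ K P) (hQ : Mx Ω κ Q) (hp : p.Prime)
    (e : p ∣ (Fx Ω Q).ncard.descFactorial 4) (h1 : p + 3 ≤ (Fx Ω Q).ncard)
    (h2 : (Fx Ω Q).ncard < 2 * p) : Alt (Nm Q) (Fx Ω Q) := by
  have h4 : 4 ≤ (Fx Ω Q).ncard := le_trans (by norm_num) hQ.five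
  obtain ⟨g, hg, -, ⟨x, hx, hm⟩, hf⟩ := (Mx.tr h hQ).prime inv_Nm h4 hp e
  have d : p ∣ (Fx Ω Q \ fx Ω g).ncard :=
    mv_dvd (i := 1) hp (inv_Nm g hg) fun x hx => by rw [pow_one]; exact hf x hx
  have p0 := t68_pos hx hm
  have ad := t68_add (Fx Ω Q) g
  refine jordan ((Mx.tr h hQ).mono (by norm_num) h4) inv_Nm hg hp hf ?_ (Or.inr h1)
  obtain ⟨c, hc⟩ := d
  have : c = 1 := by
    rcases c with _ | _ | c
    · omega
    · rfl
    · exfalso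
      have : p * (c + 1 + 1) = p * c + 2 * p := by ring
      omega
  rw [hc, this, mul_one]

theorem Mx.not_alt (h : QB κ K P) (hQ : Mx Ω κ Q) (hm : 9 ≤ (Fx Ω Q).ncard) : ¬ Alt (Nm Q) (Fx Ω Q) := by
  intro hA
  obtain ⟨Δ, hΔ, e⟩ := t68_four (Γ := Fx Ω Q) (by omega)
  obtain ⟨a, b, c, d, hd, rfl⟩ := exists_D4 e
  obtain ⟨g, -, ga, gb, gc, gd, go⟩ := hA.dbl hd hΔ
  have h1 : Fx Ω Q \ {a, b, c, d} ⊆ Fx Ω Q ∩ fx Ω g := fun x hx => ⟨hx.1, go x hx.1 hx.2⟩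
  have h2 := Set.ncard_le_ncard h1 (Set.toFinite _)
  rw [Set.ncard_sdiff hΔ (Set.toFinite _), e] at h2
  have h3 := t68_triv h hQ (g := g) (fun x hx => by
    by_cases hx' : x ∈ ({a, b, c, d} : Set Ω)
    · rcases hx' with rfl | rfl | rfl | rfl
      · rw [ga, gb]
      · rw [gb, ga]
      · rw [gc, gd]
      · rw [gd, gc]
    · rw [go x hx hx', go x hx hx']) (by omega) a (hΔ (by simp))
  exact hd.ab (h3.symm.trans ga)
theorem Mx.ne10 (h : QB κ K P) (hQ : Mx Ω κ Q) : (Fx Ω Q).ncard ≠ 10 := fun hm =>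
  Mx.not_alt h hQ (by omega) (t68_alt (p := 7) h hQ (by norm_num) (by rw [hm]; decide) (by omega)
    (by omega))
theorem Mx.t6 (h : QB κ K P) (hQ : Mx Ω κ Q) (hm : (Fx Ω Q).ncard = 6) : S5 K Q := by
  have h4 : 4 ≤ (Fx Ω Q).ncard := by omega
  have hk := Mx.ker h hQ
  have hS : Sym (Nm Q) (Fx Ω Q) := by
    obtain ⟨Δ, hΔ, e⟩ := t68_four h4
    obtain ⟨s, hs, hf⟩ := t68_grow h hQ hΔ e
    have ad := t68_add (Fx Ω Q) s
    rw [hf] at ad
    exact jordan2 ((Mx.tr h hQ).mono (by norm_num) h4) inv_Nm hs.2 (by omega)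
  have two : ∀ Δ ⊆ Fx Ω Q, Δ.ncard = 4 → ∃ x x', x ≠ x' ∧ Fx Ω Q \ Δ = {x, x'} := fun Δ hΔ e =>
    Set.ncard_eq_two.1 (by rw [Set.ncard_sdiff hΔ (Set.toFinite _), hm, e])
  have swap : ∀ Δ ⊆ Fx Ω Q, Δ.ncard = 4 → ∀ x x', Fx Ω Q \ Δ = {x, x'} → ∀ u ∈ K Δ ⊓ Nm Q,
      u • x ≠ x → u • x = x' := fun Δ _ e x x' hx u hu hne => by
    have := t68_out h e hu (x := x) (by rw [hx]; simp)
    rw [hx] at this
    exact this.resolve_left hne
  refine ⟨Or.inl hm, hS.tr 5, fun g hg h5 => ?_, fun M hM hn e g hg h3 => ?_, fun Δ hΔ e => ?_,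
    fun Δ hΔ e u hu v hv uQ vQ _ _ => ?_, fun h12 => by omega⟩
  · have ad := t68_add (Fx Ω Q) g
    rw [← hk]
    exact t68_mv1 (inv_Nm g hg) (by omega)
  · have := simp6 hS inv_Nm (by omega) hM hn (by rwa [hk]) hg (by rwa [hk])
    rw [hk] at this
    exact sup_le_sup_left inf_le_right M this
  · obtain ⟨x, x', hne, hx⟩ := two Δ hΔ e
    have m1 : x ∈ Fx Ω Q \ Δ := by rw [hx]; simp
    have o := orbit_card (K Δ ⊓ Nm Q) x
    have e1 : {v : Ω | ∃ u ∈ K Δ ⊓ Nm Q, u • x = v} = {x, x'} := by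
      refine Set.Subset.antisymm ?_ ?_
      · rintro _ ⟨u, hu, rfl⟩
        rw [← hx]
        exact t68_out h e hu m1
      · rintro v (rfl | rfl)
        · exact ⟨1, one_mem _, one_smul _ _⟩
        · obtain ⟨s, hs, hf⟩ := t68_grow h hQ hΔ e
          refine ⟨s, hs, swap Δ hΔ e x v hx s hs fun e' => m1.2 ?_⟩
          rw [← hf]
          exact ⟨m1.1, e'⟩
    have e2 : K Δ ⊓ Nm Q ⊓ St G ({x} : Set Ω) = Q := by
      refine le_antisymm (fun u hu => Mx.semi h hQ hΔ e hu.1.1 m1.1 m1.2 (hu.2 x rfl))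
        (le_inf (le_inf (Mx.le h hQ hΔ e) le_normalizer) fun u hu z hz => ?_)
      rw [Set.mem_singleton_iff.1 hz]
      exact m1.1 u hu
    rw [e1, e2, Set.ncard_pair hne] at o
    rw [← o, hm]
  · obtain ⟨x, x', hne, hx⟩ := two Δ hΔ e
    have m1 : x ∈ Fx Ω Q \ Δ := by rw [hx]; simp
    have m2 : x' ∈ Fx Ω Q \ Δ := by rw [hx]; simp
    have a1 := swap Δ hΔ e x x' hx u hu fun e' => uQ (Mx.semi h hQ hΔ e hu.1 m1.1 m1.2 e')
    have a2 := swap Δ hΔ e x x' hx v hv fun e' => vQ (Mx.semi h hQ hΔ e hv.1 m1.1 m1.2 e')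
    refine Mx.semi h hQ hΔ e (mul_mem hu.1 (inv_mem hv.1)) m2.1 m2.2 ?_
    rw [mul_smul, inv_smul_eq_iff.2 a2.symm, a1]
theorem Mx.t8 (h : QB κ K P) (hQ : Mx Ω κ Q) (hm : (Fx Ω Q).ncard = 8) : T8 Ω Q := by
  have hk := Mx.ker h hQ
  have hA : Alt (Nm Q) (Fx Ω Q) :=
    t68_alt (p := 5) h hQ (by norm_num) (by rw [hm]; decide) (by omega) (by omega)
  have hE : Ev (Nm Q) (Fx Ω Q) := by
    intro g hg h2
    have hi : ∀ x ∈ Fx Ω Q, g • x ∈ Fx Ω Q := inv_Nm g hg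
    have d : 2 ∣ (Fx Ω Q \ fx Ω g).ncard :=
      mv_dvd (i := 1) Nat.prime_two hi fun x hx => by rw [pow_one, pow_two, mul_smul]; exact h2 x hx
    have ad := t68_add (Fx Ω Q) g
    have n2 : (Fx Ω Q \ fx Ω g).ncard ≠ 2 := fun e => by
      obtain ⟨x, hx⟩ : (Fx Ω Q \ fx Ω g).Nonempty := (Set.ncard_pos (Set.toFinite _)).1 (by omega)
      exact hx.2 (t68_triv h hQ h2 (by omega) x hx.1)
    have n6 : (Fx Ω Q \ fx Ω g).ncard ≠ 6 := fun e => by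
      obtain ⟨a, ha⟩ : (Fx Ω Q \ fx Ω g).Nonempty := (Set.ncard_pos (Set.toFinite _)).1 (by omega)
      obtain ⟨c, hc, hc'⟩ := Set.exists_mem_notMem_of_ncard_lt_ncard
        (s := ({a, g • a} : Set Ω)) (t := Fx Ω Q \ fx Ω g)
        (lt_of_le_of_lt (Set.ncard_insert_le _ _) (by rw [Set.ncard_singleton]; omega))
      have ca : c ≠ a := fun e => hc' (Or.inl e)
      have cb : c ≠ g • a := fun e => hc' (Or.inr e)
      have hd : D4 a (g • a) c (g • c) :=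
        ⟨fun e => ha.2 e.symm, ca.symm, fun e => cb (by rw [e, h2 c hc.1]), cb.symm,
          fun e => ca (smul_left_cancel g e).symm, fun e => hc.2 e.symm⟩
      have mv : ∀ x ∈ Fx Ω Q \ fx Ω g, g • x ∈ Fx Ω Q \ fx Ω g := fun x hx =>
        ⟨hi x hx.1, fun e => hx.2 (smul_left_cancel g e)⟩
      have sub : ({a, g • a, c, g • c} : Set Ω) ⊆ Fx Ω Q \ fx Ω g := by
        rintro x (rfl | rfl | rfl | rfl)
        exacts [ha, mv a ha, hc, mv c hc]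
      obtain ⟨f, -, fa, fb, fc, fd, fo⟩ := hA.dbl hd fun x hx => (sub hx).1
      have inn : ∀ x ∈ ({a, g • a, c, g • c} : Set Ω), (f * g) • x = x := by
        rintro x (rfl | rfl | rfl | rfl)
        · rw [mul_smul, fb]
        · rw [mul_smul, h2 a ha.1, fa]
        · rw [mul_smul, fd]
        · rw [mul_smul, h2 c hc.1, fc]
      have nin : ∀ x ∈ Fx Ω Q, x ∉ ({a, g • a, c, g • c} : Set Ω) →
          g • x ∉ ({a, g • a, c, g • c} : Set Ω) := by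
        rintro x hx hn (e | e | e | e)
        · exact hn (by rw [← h2 x hx, e]; simp)
        · exact hn (by rw [smul_left_cancel g e]; simp)
        · exact hn (by rw [← h2 x hx, e]; simp)
        · exact hn (by rw [smul_left_cancel g e]; simp)
      have out : ∀ x ∈ Fx Ω Q, x ∉ ({a, g • a, c, g • c} : Set Ω) → (f * g) • x = g • x :=
        fun x hx hn => by rw [mul_smul, fo _ (hi x hx) (nin x hx hn)]
      have s1 : ({a, g • a, c, g • c} : Set Ω) ∪ (Fx Ω Q ∩ fx Ω g) ⊆ Fx Ω Q ∩ fx Ω (f * g) := by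
        rintro x (hx | hx)
        · exact ⟨(sub hx).1, inn x hx⟩
        · exact ⟨hx.1, (out x hx.1 fun e => (sub e).2 hx.2).trans hx.2⟩
      have s2 := Set.ncard_le_ncard s1 (Set.toFinite _)
      rw [Set.ncard_union_eq (Set.disjoint_left.2 fun x hx hx' => (sub hx).2 hx'.2), hd.ncard] at s2
      have tr := t68_triv h hQ (g := f * g) (fun x hx => by
        by_cases hn : x ∈ ({a, g • a, c, g • c} : Set Ω)
        · rw [inn x hn, inn x hn]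
        · rw [out x hx hn, out _ (hi x hx) (nin x hx hn), h2 x hx]) (by omega)
      obtain ⟨x, hx, hx'⟩ := Set.exists_mem_notMem_of_ncard_lt_ncard
        (s := ({a, g • a, c, g • c} : Set Ω)) (t := Fx Ω Q \ fx Ω g) (by rw [hd.ncard]; omega)
      exact hx.2 ((out x hx.1 hx').symm.trans (tr x hx.1))
    omega
  refine ⟨hm, hA, hE, fun M hM hn e => ?_⟩
  have := simp8 hA inv_Nm hE (by omega) hM hn (by rwa [hk])
  rw [hk] at this
  exact this.trans (sup_le_sup_left inf_le_right M)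

end Cfsg.Agent.Q4
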